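import Cfsg.Agent.H57.BG.Kill
import Cfsg.Agent.H899.Cyc.Defs

/-!
# `Reg A L` and cyclic primes (S3561, helper57)
-/

set_option autoImplicit false

namespace Cfsg.Agent.H57.BG

open Subgroup Cfsg.Agent.H899.CG

universe u

variable {T : Type u} [Group T] [Finite T] {A : Subgroup (MulAut T)} {L M : Subgroup T}

theorem Reg.not_dvd_of_cyc (h : Reg A L) (hc : center T = ⊥) {u : ℕ} (hu : Cyc T u) : ¬ u ∣ L.index := by
  intro hd
  rcases hu.2 with h1 | h1
  · obtain ⟨x, y, hx, hy, hxo, hyo, hyx⟩ := h.exists_pair hc hu.1.1 hd h1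
    exact hyx (hu.1.2.2 x y hxo hyo (h.inner_comm hc hx hy))
  · exact h.not_dvd_index_of_sq hu.1.1 h1 hd

/-- some cyclic prime of `T` divides `|T : M|` -/
def IGap (T : Type*) [Group T] (M : Subgroup T) : Prop := ∃ u, Cyc T u ∧ u ∣ M.index

omit [Finite T] in
theorem iGap_of_cGap (h : CGap T M) : IGap T M := by
  obtain ⟨u, hu, hd⟩ := h
  refine ⟨u, hu, ?_⟩
  have h1 := hu.1.2.1
  rw [← M.card_mul_index] at h1
  exact (hu.1.1.dvd_mul.1 h1).resolve_left hd

/-- **no cyclic prime divides `|T : M|`, `L ≤ M`** -/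
theorem Reg.not_iGap (h : Reg A L) (hc : center T = ⊥) (hLM : L ≤ M) : ¬ IGap T M := by
  rintro ⟨u, hu, hd⟩
  exact h.not_dvd_of_cyc hc hu (hd.trans (Subgroup.index_dvd_of_le hLM))

/-- **Row** from `IGap` for the coatoms -/
theorem row_of_iGap (hc : center T = ⊥) (h : ∀ M : Subgroup T, IsCoatom M → IGap T M) : Row T := by
  intro A L hr
  obtain ⟨M, hM, hLM⟩ := (eq_top_or_exists_le_coatom L).resolve_left hr.proper
  exact hr.not_iGap hc hLM (h M hM)

theorem Reg.not_cGap_self (h : Reg A L) (hc : center T = ⊥) : ¬ CGap T L := by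
  rintro ⟨u, hu, hd⟩
  exact hd (Reg.dvd_card_of_not_dvd hu.1.1 hu.1.2.1 (h.not_dvd_of_cyc hc hu))

theorem Reg.not_cGap (h : Reg A L) (hc : center T = ⊥) (hLM : L ≤ M) : ¬ CGap T M := fun hg =>
  h.not_cGap_self hc (hg.mono hLM)

/-- **Row** from `CGapMax` -/
theorem row_of_cGapMax (hc : center T = ⊥) (h : CGapMax T) : Row T := by
  intro A L hr
  obtain ⟨M, hM, hLM⟩ := (eq_top_or_exists_le_coatom L).resolve_left hr.proper
  exact hr.not_cGap hc hLM (h M hM)

/-- there is a coatom `M ≥ L` without a gap -/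
theorem Reg.exists_coatom (h : Reg A L) (hc : center T = ⊥) : ∃ M : Subgroup T, IsCoatom M ∧ L ≤ M ∧ ¬ CGap T M := by
  obtain ⟨M, hM, hLM⟩ := (eq_top_or_exists_le_coatom L).resolve_left h.proper
  exact ⟨M, hM, hLM, h.not_cGap hc hLM⟩

/-- the full power of a cyclic prime divides `|L|` -/
theorem Reg.pow_dvd_of_cyc (h : Reg A L) (hc : center T = ⊥) {u k : ℕ} (hu : Cyc T u) (hk : u ^ k ∣ Nat.card T) :
    u ^ k ∣ Nat.card L := by
  rw [← L.card_mul_index] at hk
  exact (Nat.Coprime.pow_left k ((Nat.Prime.coprime_iff_not_dvd hu.1.1).2 (h.not_dvd_of_cyc hc hu))).dvd_of_dvd_mul_right hk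

omit [Finite T] in
theorem center_eq_bot [IsSimpleGroup T] (hna : ¬ ∀ a b : T, a * b = b * a) : center T = ⊥ := by
  rcases (inferInstance : (center T).Normal).eq_bot_or_eq_top with h | h
  · exact h
  · exact absurd (fun a b => by
      have := mem_center_iff.1 (h ▸ mem_top b : b ∈ center T) a
      exact this) hna

end Cfsg.Agent.H57.BG
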