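import Cfsg.Agent.LieClassical.QuadCount
import Cfsg.Agent.LieClassical.OmegaReindex
import Cfsg.Agent.H957.NoFixQuad
import Cfsg.Agent.H957.Bridge
import Cfsg.Agent.H957.Points
import Cfsg.Agent.H884.ElT

/-!
# The index of the stabiliser of a nonsingular point in `PΩ(Q)` (S3561, helper57)

* `level_dvd` : `#{u | Q u = Q v} ∣ 2 |O : Ω| |T : M|` for `M ≤ PΩ(Q)` fixing `⟨v⟩`, `Q v ≠ 0`;
* `level_dvd_two` : `#{u | Q u = Q v} ∣ |O : Ω| |T : M|` in characteristic two;
* `plus_level`, `odd_level` : the numbers for the standard forms.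
-/

set_option autoImplicit false
set_option linter.unusedSectionVars false

namespace Cfsg.Agent.H57.BG

open Module QuadraticMap Cfsg Cfsg.Geo Cfsg.Agent.H957
open Cfsg.Agent.H884.El (pre)
open scoped MatrixGroups Matrix

section Orbit

variable {G X : Type*} [Group G] [Finite G] [MulAction G X]

theorem card_orbit_dvd (N : Subgroup G) (v w : X) (h : ∀ g ∈ N, g • v = v ∨ g • v = w) :
    Nat.card (MulAction.orbit G v) ∣ 2 * N.index := by
  have h1 : (MulAction.stabilizer G v).index = Nat.card (MulAction.orbit G v) := by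
    rw [MulAction.index_stabilizer]
    rfl
  have h2 : ((MulAction.stabilizer G v).subgroupOf N).index ∣ 2 := by
    have h3 : (MulAction.stabilizer G v).subgroupOf N = MulAction.stabilizer N v := by
      ext g
      rw [Subgroup.mem_subgroupOf, MulAction.mem_stabilizer_iff, MulAction.mem_stabilizer_iff]
      rfl
    rw [h3, MulAction.index_stabilizer]
    have h4 : MulAction.orbit N v ⊆ {v, w} := by
      rintro _ ⟨g, rfl⟩
      rcases h g g.2 with h5 | h5
      · left; exact h5
      · right; exact h5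
    have h5 : (MulAction.orbit N v).ncard ≤ 2 := by
      refine (Set.ncard_le_ncard h4 (by simp)).trans ?_
      exact Set.ncard_insert_le _ _ |>.trans (by rw [Set.ncard_singleton])
    have h6 : 0 < (MulAction.orbit N v).ncard := by
      rw [Set.ncard_pos (Set.Finite.subset (by simp) h4)]
      exact ⟨v, MulAction.mem_orbit_self v⟩
    have h7 : (MulAction.orbit N v).ncard = 1 ∨ (MulAction.orbit N v).ncard = 2 := by omega
    rcases h7 with h7 | h7
    · rw [h7]; exact one_dvd _
    · rw [h7]
  have h3 : (MulAction.stabilizer G v).relIndex N * N.index = (MulAction.stabilizer G v ⊓ N).index := by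
    rw [← Subgroup.inf_relIndex_right]
    exact Subgroup.relIndex_mul_index inf_le_right
  rw [← h1]
  have h4 : (MulAction.stabilizer G v).index ∣ (MulAction.stabilizer G v ⊓ N).index :=
    Subgroup.index_dvd_of_le inf_le_left
  rw [← h3] at h4
  exact h4.trans (Nat.mul_dvd_mul_right h2 _)

theorem card_orbit_dvd' (N : Subgroup G) (v : X) (h : ∀ g ∈ N, g • v = v) :
    Nat.card (MulAction.orbit G v) ∣ N.index := by
  have h1 : (MulAction.stabilizer G v).index = Nat.card (MulAction.orbit G v) := by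
    rw [MulAction.index_stabilizer]
    rfl
  rw [← h1]
  exact Subgroup.index_dvd_of_le fun g hg => MulAction.mem_stabilizer_iff.2 (h g hg)

end Orbit

section Level

variable {ι : Type} [Fintype ι] [DecidableEq ι] {F : Type*} [Field F]

/-- the action on vectors -/
@[reducible] def actV (Q : (ι → F) → F) : MulAction (isometryGroup F Q) (ι → F) where
  smul g v := ((g : GL ι F) : Matrix ι ι F) *ᵥ v
  one_smul v := by
    show (((1 : isometryGroup F Q) : GL ι F) : Matrix ι ι F) *ᵥ v = v
    simp
  mul_smul g h v := by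
    show (((g * h : isometryGroup F Q) : GL ι F) : Matrix ι ι F) *ᵥ v = _ *ᵥ (_ *ᵥ v)
    rw [Subgroup.coe_mul, Units.val_mul, Matrix.mulVec_mulVec]

/-- `M` as a subgroup of the isometry group -/
def up (Q : (ι → F) → F) (M : Subgroup (POmega F Q)) : Subgroup (isometryGroup F Q) :=
  (M.comap (QuotientGroup.mk' (Subgroup.center (Omega F Q)))).map (Omega F Q).subtype

theorem index_up (Q : (ι → F) → F) (M : Subgroup (POmega F Q)) : (up Q M).index = (Omega F Q).index * M.index := by
  unfold up
  rw [Subgroup.index_map_subtype, Subgroup.index_comap_of_surjective _ (QuotientGroup.mk'_surjective _), mul_comm]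

theorem mem_pre_of_up {Q : (ι → F) → F} {M : Subgroup (POmega F Q)} {g : isometryGroup F Q} (hg : g ∈ up Q M) :
    (g : GL ι F) ∈ pre Q M := ⟨g, hg, rfl⟩

variable [Finite F] (Q : QuadraticForm F (ι → F)) {M : Subgroup (POmega F (⇑Q))} {v : ι → F}

theorem orbit_eq (hQ : (polarBilin Q).Nondegenerate) (hv : Q v ≠ 0) :
    letI := actV (⇑Q)
    MulAction.orbit (isometryGroup F (⇑Q)) v = {u | Q u = Q v} := by
  letI := actV (⇑Q)
  ext u
  constructor
  · rintro ⟨g, rfl⟩
    exact mem_isometryGroup.1 g.2 v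
  · intro hu
    obtain ⟨g, hg, -, hgv⟩ := witt_fix Q hQ ⊥ v u (by rw [Set.mem_ofPred_eq] at hu; exact hu.symm)
      (fun w hw => by rw [(Submodule.mem_bot F).1 hw]; simp) (fun w hw => by rw [(Submodule.mem_bot F).1 hw]; simp)
      (fun h => hv (by rw [(Submodule.mem_bot F).1 h]; simp))
      (fun h => hv (by
        have h1 := (Submodule.mem_bot F).1 h
        rw [h1] at hu
        rw [← (show Q 0 = Q v from hu)]; simp))
    exact ⟨⟨glOf g, glOf_mem hg⟩, by
      show (glOf g : Matrix ι ι F) *ᵥ v = u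
      rw [glOf_mulVec, hgv]⟩

theorem scalar_of (hM : pre (⇑Q) M ≤ subspaceStabilizer (Submodule.span F {v})) (hv : Q v ≠ 0)
    {g : isometryGroup F (⇑Q)} (hg : g ∈ up (⇑Q) M) : ∃ c : F, c * c = 1 ∧
      ((g : GL ι F) : Matrix ι ι F) *ᵥ v = c • v := by
  have h1 := hM (mem_pre_of_up hg)
  have h2 : ((g : GL ι F) : Matrix ι ι F) *ᵥ v ∈ Submodule.span F {v} :=
    Cfsg.Agent.H884.OmegaGL.mem_subspaceStabilizer.1 h1 v (Submodule.mem_span_singleton_self v)
  obtain ⟨c, hc⟩ := Submodule.mem_span_singleton.1 h2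
  refine ⟨c, ?_, hc.symm⟩
  have h3 : Q (((g : GL ι F) : Matrix ι ι F) *ᵥ v) = Q v := mem_isometryGroup.1 g.2 v
  rw [← hc, QuadraticMap.map_smul, smul_eq_mul] at h3
  exact mul_right_cancel₀ hv (by rw [h3, one_mul])

theorem level_dvd (hQ : (polarBilin Q).Nondegenerate) (hv : Q v ≠ 0)
    (hM : pre (⇑Q) M ≤ subspaceStabilizer (Submodule.span F {v})) :
    Nat.card {u : ι → F // Q u = Q v} ∣ 2 * ((Omega F (⇑Q)).index * M.index) := by
  letI := actV (⇑Q)
  have h1 := card_orbit_dvd (up (⇑Q) M) v (-v) (fun g hg => by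
    obtain ⟨c, hc, h⟩ := scalar_of Q hM hv hg
    have h2 : (c - 1) * (c + 1) = 0 := by linear_combination hc
    rcases mul_eq_zero.1 h2 with h3 | h3
    · left
      show ((g : GL ι F) : Matrix ι ι F) *ᵥ v = v
      rw [h, sub_eq_zero.1 h3, one_smul]
    · right
      show ((g : GL ι F) : Matrix ι ι F) *ᵥ v = -v
      rw [h, eq_neg_of_add_eq_zero_left h3, neg_smul, one_smul])
  rw [index_up, orbit_eq Q hQ hv] at h1
  exact h1

theorem level_dvd_two (h2 : (2 : F) = 0) (hQ : (polarBilin Q).Nondegenerate) (hv : Q v ≠ 0)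
    (hM : pre (⇑Q) M ≤ subspaceStabilizer (Submodule.span F {v})) :
    Nat.card {u : ι → F // Q u = Q v} ∣ (Omega F (⇑Q)).index * M.index := by
  letI := actV (⇑Q)
  have h1 := card_orbit_dvd' (up (⇑Q) M) v (fun g hg => by
    obtain ⟨c, hc, h⟩ := scalar_of Q hM hv hg
    show ((g : GL ι F) : Matrix ι ι F) *ᵥ v = v
    rw [h, eq_of_sq_eq h2 (hc.trans (one_mul 1).symm), one_smul])
  rw [index_up, orbit_eq Q hQ hv] at h1
  exact h1

end Level

section Count

variable {F : Type*} [Field F] [Fintype F]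

theorem plus_level {m : ℕ} (hm : 1 ≤ m) {c : F} (hc : c ≠ 0) :
    Nat.card {v : Fin m ⊕ Fin m → F // quadFormPlus m F v = c} =
      Fintype.card F ^ (m - 1) * (Fintype.card F ^ m - 1) := by
  classical
  have h := Cfsg.Agent.LieClassical.QuadCount.card_plus (F := F) m c
  rw [if_neg hc, add_zero] at h
  have hq : 0 < Fintype.card F := Fintype.card_pos
  obtain ⟨k, rfl⟩ : ∃ k, m = k + 1 := ⟨m - 1, by omega⟩
  rw [Nat.add_sub_cancel]
  have h3 : Fintype.card F * (Nat.card {v : Fin (k + 1) ⊕ Fin (k + 1) → F // quadFormPlus (k + 1) F v = c} +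
      Fintype.card F ^ k) = Fintype.card F * (Fintype.card F ^ k * Fintype.card F ^ (k + 1)) := by
    rw [mul_add]
    calc _ = Fintype.card F * Nat.card {v : Fin (k + 1) ⊕ Fin (k + 1) → F // quadFormPlus (k + 1) F v = c} +
        Fintype.card F ^ (k + 1) := by rw [pow_succ]; ring
      _ = Fintype.card F ^ (2 * (k + 1)) := h
      _ = _ := by ring
  have h4 := Nat.eq_of_mul_eq_mul_left hq h3
  rw [Nat.mul_sub, mul_one]
  omega

theorem card_sq_eq (h2 : (2 : F) ≠ 0) {c : F} (hc : c ≠ 0) :
    Nat.card {w : F // w ^ 2 - c = 0} = 0 ∨ Nat.card {w : F // w ^ 2 - c = 0} = 2 := by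
  classical
  by_cases hex : ∃ a : F, a ^ 2 = c
  · obtain ⟨a, ha⟩ := hex
    right
    have ha0 : a ≠ 0 := by
      rintro rfl
      apply hc
      rw [← ha]; ring
    have h : (Finset.univ.filter fun w : F => w ^ 2 - c = 0) = {a, -a} := by
      ext w
      simp only [Finset.mem_filter, Finset.mem_univ, true_and, Finset.mem_insert, Finset.mem_singleton]
      constructor
      · intro h
        have h1 : (w - a) * (w + a) = 0 := by linear_combination h - ha
        rcases mul_eq_zero.1 h1 with h3 | h3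
        · left; exact sub_eq_zero.1 h3
        · right; exact eq_neg_of_add_eq_zero_left h3
      · rintro (rfl | rfl)
        · linear_combination ha
        · linear_combination ha
    rw [Nat.card_eq_fintype_card, Fintype.card_subtype, h, Finset.card_pair]
    intro h1
    have : 2 * a = 0 := by linear_combination h1
    rcases mul_eq_zero.1 this with h3 | h3
    · exact h2 h3
    · exact ha0 h3
  · left
    rw [Nat.card_eq_zero]
    left
    exact ⟨fun w => hex ⟨w.1, sub_eq_zero.1 w.2⟩⟩

theorem odd_level (h2 : (2 : F) ≠ 0) {m : ℕ} {c : F} (hc : c ≠ 0) :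
    Nat.card {v : Unit ⊕ (Fin m ⊕ Fin m) → F // quadFormOdd m F v = c} =
      Fintype.card F ^ m * (Fintype.card F ^ m - 1) ∨
    Nat.card {v : Unit ⊕ (Fin m ⊕ Fin m) → F // quadFormOdd m F v = c} =
      Fintype.card F ^ m * (Fintype.card F ^ m + 1) := by
  classical
  have h := Cfsg.Agent.LieClassical.QuadCount.card_sum (F := F) m (fun w : F => w ^ 2 - c)
  have h1 : Nat.card {p : (Fin m ⊕ Fin m → F) × F // quadFormPlus m F p.1 + (p.2 ^ 2 - c) = 0} =
      Nat.card {v : Unit ⊕ (Fin m ⊕ Fin m) → F // quadFormOdd m F v = c} := by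
    refine Nat.card_congr
      { toFun := fun p => ⟨Sum.elim (fun _ => p.1.2) p.1.1, ?_⟩
        invFun := fun v => ⟨(v.1 ∘ Sum.inr, v.1 (Sum.inl ())), ?_⟩
        left_inv := fun p => ?_
        right_inv := fun v => ?_ }
    · have := p.2
      show p.1.2 ^ 2 + quadFormPlus m F p.1.1 = c
      linear_combination this
    · have := v.2
      show quadFormPlus m F (v.1 ∘ Sum.inr) + (v.1 (Sum.inl ()) ^ 2 - c) = 0
      have h3 : v.1 (Sum.inl ()) ^ 2 + quadFormPlus m F (v.1 ∘ Sum.inr) = c := this
      linear_combination h3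
    · rfl
    · apply Subtype.ext
      funext i
      rcases i with i | i
      · rfl
      · rfl
  rw [h1] at h
  have hq : 0 < Fintype.card F := Fintype.card_pos
  set N := Nat.card {v : Unit ⊕ (Fin m ⊕ Fin m) → F // quadFormOdd m F v = c}
  rcases card_sq_eq h2 hc with h0 | h0
  · left
    rw [h0] at h
    have h3 : Fintype.card F * (N + Fintype.card F ^ m) = Fintype.card F * (Fintype.card F ^ m * Fintype.card F ^ m) := by
      rw [mul_add, h]
      ring
    have h4 := Nat.eq_of_mul_eq_mul_left hq h3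
    rw [Nat.mul_sub, mul_one]
    omega
  · right
    rw [h0] at h
    have h3 : Fintype.card F * (N + Fintype.card F ^ m) =
        Fintype.card F * (Fintype.card F ^ m * Fintype.card F ^ m + 2 * Fintype.card F ^ m) := by
      rw [mul_add, h]
      ring
    have h4 := Nat.eq_of_mul_eq_mul_left hq h3
    rw [mul_add, mul_one]
    omega

end Count

end Cfsg.Agent.H57.BG
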