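import Cfsg.Agent.H922.OddFull
import Cfsg.Agent.H957.SpIndex
import Cfsg.Agent.H884.CgLin
import Cfsg.Agent.H884.ElT
import Cfsg.Agent.H951.Form
import Cfsg.Agent.H355.Fixity

/-!
# The normaliser of a quadratic field in `Sp_4(q)` (S3561, helper57)

* `no_pair` : it contains no `C_r × C_r`, `r` an odd prime different from the characteristic;
* `card_p_dvd` : the order of a `p`-group centralizing the field divides `q ^ 2`.
-/

set_option autoImplicit false
set_option linter.unusedSectionVars false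

namespace Cfsg.Agent.H57.BG

open Module Cfsg Cfsg.Geo Cfsg.Agent.H951 Cfsg.Agent.H884.Cg
open Cfsg.Agent.H884.El (lin)
open scoped MatrixGroups Matrix

variable {F : Type*} [Field F] {ι : Type} [Fintype ι] [DecidableEq ι]

/-- an element of odd order of the normaliser of a quadratic field centralizes it -/
theorem comm_of_odd [Finite F] {K : Subalgebra F (Matrix ι ι F)} (hK : IsFieldSubalgebra 2 K)
    (hne : 0 < Fintype.card ι) {g : GL ι F} (hg : g ∈ subalgebraNormalizer K) {r : ℕ} (hr : Odd r) (hgr : g ^ r = 1) :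
    ∀ k ∈ K, (g : Matrix ι ι F) * k = k * (g : Matrix ι ι F) := by
  haveI : Nonempty ι := Fintype.card_pos_iff.1 hne
  have hfield : IsField K :=
    { exists_pair_ne := ⟨0, 1, fun h => by
        have := congrArg Subtype.val h
        exact zero_ne_one (α := Matrix ι ι F) this⟩
      mul_comm := fun x y => Subtype.ext (hK.comm x.1 x.2 y.1 y.2)
      mul_inv_cancel := fun {x} hx => by
        obtain ⟨y, hy, hxy⟩ := hK.inv x.1 x.2 (fun h => hx (Subtype.ext h))
        exact ⟨⟨y, hy⟩, Subtype.ext hxy⟩ }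
  letI : Field K := hfield.toField
  haveI : Finite K := Module.finite_of_finite F
  have hcard : Nat.card (K ≃ₐ[F] K) = 2 := by
    rw [IsGalois.card_aut_eq_finrank]
    exact hK.finrank_eq
  have hsq : ∀ h : GL ι F, ∀ hh : h ∈ subalgebraNormalizer K, ∀ k ∈ K,
      (h : Matrix ι ι F) * ((h : Matrix ι ι F) * k * ((h⁻¹ : GL ι F) : Matrix ι ι F)) *
        ((h⁻¹ : GL ι F) : Matrix ι ι F) = k := by
    intro h hh k hk
    have h1 : H922.conjK K h hh ^ 2 = 1 := by
      rw [← hcard]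
      exact pow_card_eq_one'
    have h2 := congrArg (fun φ : K ≃ₐ[F] K => ((φ ⟨k, hk⟩ : K) : Matrix ι ι F)) h1
    simp only [pow_two, AlgEquiv.mul_apply] at h2
    rw [H922.conjK_apply, H922.conjK_apply] at h2
    exact h2
  obtain ⟨j, hj⟩ := hr
  have h1 : g = (g ^ (j + 1)) * (g ^ (j + 1)) := by
    rw [← pow_add]
    have h2 : j + 1 + (j + 1) = r + 1 := by omega
    rw [h2, pow_succ, hgr, one_mul]
  intro k hk
  have h2 := hsq (g ^ (j + 1)) (Subgroup.pow_mem _ hg _) k hk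
  set h := g ^ (j + 1) with hh
  have h3 : ((h * h : GL ι F) : Matrix ι ι F) * k = k * ((h * h : GL ι F) : Matrix ι ι F) := by
    have h4 : ((h⁻¹ : GL ι F) : Matrix ι ι F) * (h : Matrix ι ι F) = 1 := by
      rw [← Units.val_mul, inv_mul_cancel, Units.val_one]
    have h5 : k * ((h : Matrix ι ι F) * (h : Matrix ι ι F)) = (h : Matrix ι ι F) * ((h : Matrix ι ι F) * k) := by
      conv_lhs => rw [← h2]
      simp only [mul_assoc]
      rw [← mul_assoc ((h⁻¹ : GL ι F) : Matrix ι ι F) (h : Matrix ι ι F), h4, one_mul, h4, mul_one]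
    rw [Units.val_mul, h5, mul_assoc]
  rw [← h1] at h3
  exact h3

section Sub

variable {K : Subalgebra F (Matrix ι ι F)} {r : ℕ}

theorem finrank_ge (hK : IsFieldSubalgebra r K) {U : Submodule F (ι → F)} (hU : ∀ k ∈ K, ∀ v ∈ U, k *ᵥ v ∈ U)
    {u : ι → F} (hu : u ∈ U) (hu0 : u ≠ 0) : ∃ L : K →ₗ[F] U, Function.Injective L ∧
      (∀ k : K, ((L k : U) : ι → F) = (k : Matrix ι ι F) *ᵥ u) ∧ r ≤ finrank F U := by
  let L : K →ₗ[F] U :=
    { toFun := fun k => ⟨(k : Matrix ι ι F) *ᵥ u, hU k.1 k.2 u hu⟩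
      map_add' := fun a b => Subtype.ext (Matrix.add_mulVec (a : Matrix ι ι F) (b : Matrix ι ι F) u)
      map_smul' := fun c a => Subtype.ext (Matrix.smul_mulVec c (a : Matrix ι ι F) u) }
  have hL : ∀ k : K, ((L k : U) : ι → F) = (k : Matrix ι ι F) *ᵥ u := fun _ => rfl
  have hinj : Function.Injective L := by
    rw [injective_iff_map_eq_zero]
    intro k hk
    by_contra h0
    obtain ⟨y, hy, hy1⟩ := hK.inv k.1 k.2 (fun h => h0 (Subtype.ext h))
    rw [hK.comm k.1 k.2 y hy] at hy1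
    apply hu0
    have h2 : (k : Matrix ι ι F) *ᵥ u = 0 := by rw [← hL, hk]; rfl
    have h1 : (y * k.1) *ᵥ u = 0 := by
      rw [← Matrix.mulVec_mulVec, h2, Matrix.mulVec_zero]
    rwa [hy1, Matrix.one_mulVec] at h1
  refine ⟨L, hinj, hL, ?_⟩
  rw [← hK.finrank_eq]
  exact LinearMap.finrank_le_finrank_of_injective hinj

end Sub

variable {f : (ι → F) → (ι → F) → F} {ε : F}

/-- **no `C_r × C_r`** -/
theorem no_pair [Finite F] {K : Subalgebra F (Matrix ι ι F)} (hK : IsFieldSubalgebra 2 K)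
    (hB : Frm (RingHom.id F) ε f) (hnd : Nd f ⊤)
    (hsa : IsSelfAdjointFor f K) (hι : Fintype.card ι = 4) {x y : GL ι F}
    (hx : x ∈ subalgebraNormalizer K) (hy : y ∈ subalgebraNormalizer K)
    (hxf : Isom f (lin x)) (hyf : Isom f (lin y)) {r : ℕ} (hr : r.Prime) (hr2 : r ≠ 2) (h0 : (r : F) ≠ 0)
    (hxr : x ^ r = 1) (hyr : y ^ r = 1) (hxy : x * y = y * x) (hy1 : y ≠ 1) (hxy1 : ∀ i : ℕ, x * y ^ i ≠ 1) :
    False := by
  have hodd := hr.odd_of_ne_two hr2
  have hlinmul : ∀ g h : GL ι F, lin (g * h) = lin g * lin h := fun g h => by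
    show Matrix.toLin' _ = _
    rw [Units.val_mul, Matrix.toLin'_mul]
    rfl
  have hpow : ∀ (g : GL ι F) (n : ℕ), lin (g ^ n) = lin g ^ n := fun g n => by
    induction n with
    | zero => rw [pow_zero, pow_zero]; exact H884.El.lin_one
    | succ n ih => rw [pow_succ, pow_succ, hlinmul, ih]
  have hX : lin x ^ r = 1 := by rw [← hpow, hxr]; exact H884.El.lin_one
  have hY : lin y ^ r = 1 := by rw [← hpow, hyr]; exact H884.El.lin_one
  have hXY : Commute (lin x) (lin y) := by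
    show lin x * lin y = lin y * lin x
    rw [← hlinmul, ← hlinmul, hxy]
  have hcy : cm (lin y) ≠ ⊥ := H884.El.cm_ne_bot (H884.El.lin_ne_one hy1)
  have hcfy : cm (lin y) ⊓ fx (lin y) = ⊥ := by
    rw [inf_comm]; exact (isCompl_fx_cm h0 hY).inf_eq_bot
  obtain ⟨i, -, hi⟩ := exists_fixed hr h0 hX hY hXY (inv_cm_of_commute hXY) inv_cm hcy hcfy
  set w := x * y ^ i with hw
  have hwlin : lin w = lin x * lin y ^ i := by rw [hw, hlinmul, hpow]
  rw [← hwlin] at hi
  have hcxi : Commute x (y ^ i) := (show Commute x y from hxy).pow_right i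
  have hw1 : w ≠ 1 := hxy1 i
  have hwr : w ^ r = 1 := by
    rw [hw, hcxi.mul_pow, hxr, ← pow_mul, mul_comm i r, pow_mul, hyr, one_pow, one_mul]
  have hwN : w ∈ subalgebraNormalizer K := Subgroup.mul_mem _ hx (Subgroup.pow_mem _ hy _)
  have hwf : Isom f (lin w) := by
    rw [hwlin]
    intro u v
    rw [Module.End.mul_apply, Module.End.mul_apply, hxf, hyf.pow i]
  have hWr : lin w ^ r = 1 := by rw [← hpow, hwr]; exact H884.El.lin_one
  have hwK := comm_of_odd hK (by omega) hwN hodd hwr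
  have happ : ∀ v, lin w v = (w : Matrix ι ι F) *ᵥ v := fun v => Matrix.toLin'_apply _ _
  -- the two `K`-invariant subspaces
  have hKf : ∀ k ∈ K, ∀ v ∈ fx (lin w), k *ᵥ v ∈ fx (lin w) := by
    intro k hk v hv
    have h1 := mem_fx.1 hv
    rw [mem_fx, happ, Matrix.mulVec_mulVec, hwK k hk, ← Matrix.mulVec_mulVec, ← happ, h1]
  have hKc : ∀ k ∈ K, ∀ v ∈ cm (lin w), k *ᵥ v ∈ cm (lin w) := by
    intro k hk v hv
    obtain ⟨u, rfl⟩ := mem_cm.1 hv
    refine mem_cm.2 ⟨k *ᵥ u, ?_⟩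
    rw [Matrix.mulVec_sub, happ, happ, Matrix.mulVec_mulVec, Matrix.mulVec_mulVec, hwK k hk]
  have hfx0 : fx (lin w) ≠ ⊥ := by
    intro h
    apply hi
    rw [h, inf_bot_eq]
  have hcm0 : cm (lin w) ≠ ⊥ := H884.El.cm_ne_bot (H884.El.lin_ne_one hw1)
  obtain ⟨a, ha, ha0⟩ := (Submodule.ne_bot_iff _).1 hfx0
  obtain ⟨u, hu, hu0⟩ := (Submodule.ne_bot_iff _).1 hcm0
  obtain ⟨-, -, -, hf2⟩ := finrank_ge hK hKf ha ha0
  obtain ⟨L, hLinj, hL, hc2⟩ := finrank_ge hK hKc hu hu0
  have hdim := Submodule.finrank_add_eq_of_isCompl (isCompl_fx_cm h0 hWr)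
  rw [finrank_fintype_fun_eq_card, hι] at hdim
  have hc2' : finrank F (cm (lin w)) = 2 := by omega
  haveI : Module.Finite F K := inferInstance
  have hLsurj : Function.Surjective L := by
    rw [← LinearMap.range_eq_top]
    apply Submodule.eq_top_of_finrank_eq
    rw [LinearMap.finrank_range_of_inj hLinj, hc2']
    exact hK.finrank_eq
  obtain ⟨κ, hκ⟩ := hLsurj ⟨lin w u, inv_cm u hu⟩
  have hκ' : (κ : Matrix ι ι F) *ᵥ u = lin w u := by rw [← hL, hκ]
  have hκall : ∀ b ∈ cm (lin w), lin w b = (κ : Matrix ι ι F) *ᵥ b := by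
    intro b hb
    obtain ⟨k, hk⟩ := hLsurj ⟨b, hb⟩
    have hk' : (k : Matrix ι ι F) *ᵥ u = b := by rw [← hL, hk]
    rw [← hk', happ, Matrix.mulVec_mulVec, hwK k.1 k.2, ← Matrix.mulVec_mulVec, ← happ, ← hκ', Matrix.mulVec_mulVec,
      Matrix.mulVec_mulVec, hK.comm _ k.2 _ κ.2]
  have hndc : Nd f (cm (lin w)) := by
    have := hwf.nd_inf_cm hB h0 hWr inv_top hnd
    rwa [top_inf_eq] at this
  have hsq : ∀ b ∈ cm (lin w), lin w (lin w b) = b := by
    intro b hb
    by_contra hne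
    have hwb : lin w b ∈ cm (lin w) := inv_cm b hb
    have hwwb : lin w (lin w b) ∈ cm (lin w) := inv_cm _ hwb
    have h1 : lin w (lin w b) - b ∈ cm (lin w) := (cm (lin w)).sub_mem hwwb hb
    obtain ⟨c, hc, hc0⟩ := hndc _ h1 (sub_ne_zero.2 hne)
    apply hc0
    rw [hB.sub_left, sub_eq_zero]
    have h2 : f (lin w b) (lin w c) = f b c := hwf b c
    rw [← h2, hκall c hc, ← hsa κ.1 κ.2, hκall _ hwb]
  obtain ⟨j, hj⟩ := hodd
  apply hu0
  have hev : ∀ n : ℕ, (lin w ^ (2 * n)) u = u := by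
    intro n
    induction n with
    | zero => simp
    | succ n ih => rw [mul_add, mul_one, pow_add, Module.End.mul_apply, pow_two, Module.End.mul_apply, hsq u hu, ih]
  have hfu : lin w u = u := by
    have h5 : (lin w ^ r) u = u := by rw [hWr]; rfl
    rw [hj, pow_succ', Module.End.mul_apply, hev] at h5
    exact h5
  rw [← Submodule.mem_bot F, ← (isCompl_fx_cm h0 hWr).inf_eq_bot]
  exact ⟨mem_fx.2 hfu, hu⟩

/-- evaluation of the elements of `K` at a vector -/
noncomputable def evK (K : Subalgebra F (Matrix ι ι F)) (a : ι → F) : K →ₗ[F] (ι → F) where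
  toFun k := (k : Matrix ι ι F) *ᵥ a
  map_add' x y := Matrix.add_mulVec (x : Matrix ι ι F) (y : Matrix ι ι F) a
  map_smul' c x := Matrix.smul_mulVec c (x : Matrix ι ι F) a

theorem evK_injective {r : ℕ} {K : Subalgebra F (Matrix ι ι F)} (hK : IsFieldSubalgebra r K) {a : ι → F} (ha : a ≠ 0) :
    Function.Injective (evK K a) := by
  rw [injective_iff_map_eq_zero]
  intro k hk
  by_contra h0
  obtain ⟨y, hy, hy1⟩ := hK.inv k.1 k.2 (fun h => h0 (Subtype.ext h))
  rw [hK.comm k.1 k.2 y hy] at hy1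
  apply ha
  have h2 : (k : Matrix ι ι F) *ᵥ a = 0 := hk
  have h1 : (y * k.1) *ᵥ a = 0 := by
    rw [← Matrix.mulVec_mulVec, h2, Matrix.mulVec_zero]
  rwa [hy1, Matrix.one_mulVec] at h1

/-- **the `p`-part of the centralizer of the field** -/
theorem card_p_dvd [Fintype F] {K : Subalgebra F (Matrix ι ι F)} (hK : IsFieldSubalgebra 2 K)
    (hι : Fintype.card ι = 4) {p : ℕ} [hp : Fact p.Prime] [CharP F p] (P : Subgroup (GL ι F)) (hP : IsPGroup p P)
    (hc : ∀ g ∈ P, ∀ k ∈ K, (g : Matrix ι ι F) * k = k * (g : Matrix ι ι F)) :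
    Nat.card P ∣ Fintype.card F ^ 2 := by
  classical
  have hq := Fintype.one_lt_card (α := F)
  obtain ⟨n, -, hn⟩ := FiniteField.card F p
  have hcardV : Nat.card (ι → F) = Fintype.card F ^ 4 := by
    rw [Nat.card_eq_fintype_card, Fintype.card_fun, hι]
  letI : MulAction P (ι → F) :=
    { smul := fun g v => ((g : GL ι F) : Matrix ι ι F) *ᵥ v
      one_smul := fun v => by
        show (((1 : P) : GL ι F) : Matrix ι ι F) *ᵥ v = v
        simp
      mul_smul := fun g h v => by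
        show (((g * h : P) : GL ι F) : Matrix ι ι F) *ᵥ v = _ *ᵥ (_ *ᵥ v)
        rw [Subgroup.coe_mul, Units.val_mul, Matrix.mulVec_mulVec] }
  have hsm : ∀ (g : P) (v : ι → F), g • v = ((g : GL ι F) : Matrix ι ι F) *ᵥ v := fun _ _ => rfl
  obtain ⟨u, hu, hu0⟩ := hP.exists_fixed_point_of_prime_dvd_card_of_fixed_point (ι → F)
    (by
      rw [hcardV, hn]
      exact dvd_pow (dvd_pow_self p n.ne_zero) (by norm_num))
    (a := 0) (fun g => by rw [hsm, Matrix.mulVec_zero])
  have hu0' : u ≠ 0 := fun h => hu0 h.symm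
  haveI : Module.Finite F K := inferInstance
  set W := LinearMap.range (evK K u) with hW
  have hmemW : ∀ {v : ι → F}, v ∈ W ↔ ∃ k : K, (k : Matrix ι ι F) *ᵥ u = v := fun {v} => LinearMap.mem_range
  have hrank : ∀ {a : ι → F}, a ≠ 0 → finrank F (LinearMap.range (evK K a)) = 2 := fun {a} ha => by
    rw [LinearMap.finrank_range_of_inj (evK_injective hK ha)]
    exact hK.finrank_eq
  have hfixW : ∀ (g : P), ∀ v ∈ W, ((g : GL ι F) : Matrix ι ι F) *ᵥ v = v := by
    intro g v hv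
    obtain ⟨k, rfl⟩ := hmemW.1 hv
    rw [Matrix.mulVec_mulVec, hc g g.2 k k.2, ← Matrix.mulVec_mulVec]
    congr 1
    exact hu g
  have hKW : ∀ k ∈ K, ∀ v ∈ W, k *ᵥ v ∈ W := by
    intro k hk v hv
    obtain ⟨l, rfl⟩ := hmemW.1 hv
    exact hmemW.2 ⟨⟨k, hk⟩ * l, by rw [Subalgebra.coe_mul, Matrix.mulVec_mulVec]⟩
  -- the action outside `W`
  have hX : ∀ (g : P) (v : ι → F), v ∉ W → g • v ∉ W := by
    intro g v hv h
    apply hv
    have h1 := hfixW g⁻¹ _ h
    rw [hsm, Matrix.mulVec_mulVec, ← Units.val_mul, ← Subgroup.coe_mul, inv_mul_cancel, Subgroup.coe_one,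
      Units.val_one, Matrix.one_mulVec] at h1
    rw [h1]
    exact h
  letI : MulAction P {v : ι → F // v ∉ W} :=
    { smul := fun g v => ⟨g • v.1, hX g v.1 v.2⟩
      one_smul := fun v => Subtype.ext (one_smul P v.1)
      mul_smul := fun g h v => Subtype.ext (mul_smul g h v.1) }
  have hfree : ∀ a : {v : ι → F // v ∉ W}, MulAction.stabilizer P a = ⊥ := by
    intro a
    rw [eq_bot_iff]
    intro g hg
    rw [Subgroup.mem_bot]
    have hga : ((g : GL ι F) : Matrix ι ι F) *ᵥ a.1 = a.1 := congrArg Subtype.val (MulAction.mem_stabilizer_iff.1 hg)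
    have ha0 : a.1 ≠ 0 := by
      intro h
      exact a.2 (by rw [h]; exact W.zero_mem)
    have hdis : W ⊓ LinearMap.range (evK K a.1) = ⊥ := by
      rw [eq_bot_iff]
      rintro v ⟨hv1, k, rfl⟩
      rw [Submodule.mem_bot]
      by_contra hne
      have hk0 : (k : Matrix ι ι F) ≠ 0 := by
        intro h
        apply hne
        show (k : Matrix ι ι F) *ᵥ a.1 = 0
        rw [h, Matrix.zero_mulVec]
      obtain ⟨y, hy, hy1⟩ := hK.inv k.1 k.2 hk0
      apply a.2
      have h1 := hKW y hy _ hv1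
      have h2 : y *ᵥ ((evK K a.1) k) = a.1 := by
        show y *ᵥ ((k : Matrix ι ι F) *ᵥ a.1) = a.1
        rw [Matrix.mulVec_mulVec, ← hK.comm k.1 k.2 y hy, hy1, Matrix.one_mulVec]
      rw [h2] at h1
      exact h1
    have htop : W ⊔ LinearMap.range (evK K a.1) = ⊤ := by
      apply Submodule.eq_top_of_finrank_eq
      rw [finrank_sup_of_disj hdis, hrank hu0', hrank ha0, finrank_fintype_fun_eq_card, hι]
    have hall : ∀ v : ι → F, ((g : GL ι F) : Matrix ι ι F) *ᵥ v = v := by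
      intro v
      have hv : v ∈ W ⊔ LinearMap.range (evK K a.1) := by rw [htop]; trivial
      obtain ⟨b, hb, c, ⟨k, rfl⟩, rfl⟩ := Submodule.mem_sup.1 hv
      rw [Matrix.mulVec_add, hfixW g b hb]
      congr 1
      show ((g : GL ι F) : Matrix ι ι F) *ᵥ ((k : Matrix ι ι F) *ᵥ a.1) = (k : Matrix ι ι F) *ᵥ a.1
      rw [Matrix.mulVec_mulVec, hc g g.2 k k.2, ← Matrix.mulVec_mulVec, hga]
    apply Subtype.ext
    apply Units.ext
    rw [Subgroup.coe_one, Units.val_one]
    exact Matrix.ext_of_mulVec_single fun i => by rw [hall, Matrix.one_mulVec]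
  have hdvd := Cfsg.Agent.H355.card_dvd_of_free hfree
  have hcardX : Nat.card {v : ι → F // v ∉ W} = Fintype.card F ^ 4 - Fintype.card F ^ 2 := by
    have h1 : Nat.card W = Fintype.card F ^ 2 := by
      rw [Nat.card_eq_fintype_card, Module.card_eq_pow_finrank (K := F) (V := W), hrank hu0']
    rw [← hcardV, ← h1]
    have h2 := Fintype.card_subtype_compl (fun v : ι → F => v ∈ W)
    rw [Nat.card_eq_fintype_card, Nat.card_eq_fintype_card, Nat.card_eq_fintype_card]
    exact h2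
  rw [hcardX] at hdvd
  obtain ⟨s, hs⟩ := IsPGroup.iff_card.1 hP
  rw [hs] at hdvd ⊢
  have h3 : Fintype.card F ^ 4 - Fintype.card F ^ 2 = Fintype.card F ^ 2 * (Fintype.card F ^ 2 - 1) := by
    rw [Nat.mul_sub, ← pow_add, mul_one]
  rw [h3] at hdvd
  refine Nat.Coprime.dvd_of_dvd_mul_right (Nat.Coprime.pow_left s ?_) hdvd
  rw [Nat.Prime.coprime_iff_not_dvd hp.1]
  intro h4
  have h5 : p ∣ Fintype.card F ^ 2 := by
    rw [hn]
    exact dvd_pow (dvd_pow_self p n.ne_zero) (by norm_num)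
  have h6 : 1 ≤ Fintype.card F ^ 2 := Nat.one_le_pow _ _ (by omega)
  have h7 : p ∣ 1 := by
    have := (Nat.dvd_sub h5 h4)
    rwa [Nat.sub_sub_self h6] at this
  exact hp.1.one_lt.ne' (Nat.dvd_one.1 h7)

end Cfsg.Agent.H57.BG
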