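import Cfsg.Agent.H57.BG.Idx
import Cfsg.Agent.H57.BG.KField
import Cfsg.Agent.H262.ElSympMiss
import Cfsg.Agent.H133.SLPower

/-!
# The special geometric subgroups of `PSp_2m(q)` (S3561, helper57)

* `index_pre` : `|T : R| = |Sp : pre R|`;
* `not_dvd_cent_psp` : the centralizer of `C_r × C_r` in `PSp_2m(q)` has order prime to `p`;
* `form_index` : a subgroup fixing a quadratic form (`q` even): `2 |T : R|` is a multiple of `q ^ m (q ^ m ± 1)`;
* `field_index` : a subgroup normalising a self-adjoint quadratic field (`m = 2`).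
-/

set_option autoImplicit false
set_option linter.unusedSectionVars false

namespace Cfsg.Agent.H57.BG

open Module Cfsg Cfsg.Geo Subgroup Cfsg.Agent.H951
open Cfsg.Agent.H262.El (pre)
open Cfsg.Agent.H884.El (lin)
open Cfsg.Agent.ClassicalGeometry.SympBasic Cfsg.Agent.H876 Cfsg.Agent.H931
open scoped MatrixGroups Matrix

universe u

variable {F : Type u} [Field F] {m : ℕ}

theorem spGL_eq_map : spGL m F = (⊤ : Subgroup (Matrix.symplecticGroup (Fin m) F)).map (spToGL m F) := by
  ext g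
  constructor
  · intro hg
    obtain ⟨A, rfl⟩ := exists_spToGL hg
    exact ⟨A, trivial, rfl⟩
  · rintro ⟨A, -, rfl⟩
    exact spToGL_mem A

theorem index_pre (R : Subgroup (PSp m F)) : (pre R).relIndex (spGL m F) = R.index := by
  unfold H262.El.pre
  rw [spGL_eq_map, relIndex_map_map_of_injective _ _ H262.El.spToGL_injective, relIndex_top_right,
    index_comap_of_surjective _ (QuotientGroup.mk'_surjective _)]

/-- the symplectic form -/
theorem frm_symp : Frm (RingHom.id F) (-1) (sympForm m F) where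
  add_left := sympForm_add_left
  smul_left := sympForm_smul_left
  herm u v := by rw [RingHom.id_apply, neg_one_mul]; exact sympForm_swap _ _
  sigma_sq _ := rfl
  eps_ne := neg_ne_zero.2 one_ne_zero

theorem nd_symp : Nd (sympForm m F) ⊤ := by
  intro u _ hu
  by_contra hcon
  push Not at hcon
  exact hu (eq_zero_of_forall_sympForm_right fun v => hcon v trivial)

/-- the natural representation of `Sp` -/
noncomputable def repS (m : ℕ) (F : Type u) [Field F] :
    Matrix.symplecticGroup (Fin m) F →* Module.End F (Fin m ⊕ Fin m → F) where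
  toFun A := Matrix.toLin' (A : Matrix (Fin m ⊕ Fin m) (Fin m ⊕ Fin m) F)
  map_one' := Matrix.toLin'_one
  map_mul' A B := Matrix.toLin'_mul _ _

theorem repS_injective : Function.Injective (repS m F) := fun _ _ h => Subtype.ext (Matrix.toLin'.injective h)

theorem repS_isom (A : Matrix.symplecticGroup (Fin m) F) : Isom (sympForm m F) (repS m F A) :=
  fun u v => mem_symplecticGroup_iff.1 A.2 u v

theorem not_dvd_cent_psp [Fintype F] (hm : 1 ≤ m) {p r : ℕ} [hp : Fact p.Prime] [CharP F p] (hr : r.Prime) (hr2 : r ≠ 2)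
    (h0 : (r : F) ≠ 0)
    (he : (2 ≤ orderOf (Fintype.card F : ZMod r) ∧ m ≤ orderOf (Fintype.card F : ZMod r)) ∨
      (Odd (orderOf (Fintype.card F : ZMod r)) ∧ m ≤ 2 * orderOf (Fintype.card F : ZMod r)))
    {x y : PSp m F} (hx : orderOf x = r) (hy : orderOf y = r) (hxy : x * y = y * x) (hn : y ∉ zpowers x) :
    ¬ p ∣ Nat.card (centralizer ({x, y} : Set (PSp m F))) := by
  have hrF : Fact r.Prime := ⟨hr⟩
  have hcard := Cfsg.Agent.S0246.result (F := F) rfl m hm
  have hK : (QuotientGroup.mk' (Subgroup.center (Matrix.symplecticGroup (Fin m) F))).ker ≤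
      Subgroup.center (Matrix.symplecticGroup (Fin m) F) := by rw [QuotientGroup.ker_mk']
  have hrK : ¬ r ∣ Nat.card (QuotientGroup.mk' (Subgroup.center (Matrix.symplecticGroup (Fin m) F))).ker := by
    rw [QuotientGroup.ker_mk', hcard]
    intro h
    exact hr2 ((Nat.prime_dvd_prime_iff_eq hr Nat.prime_two).1 (h.trans (Nat.gcd_dvd_left _ _)))
  have hpK : ¬ p ∣ Nat.card (QuotientGroup.mk' (Subgroup.center (Matrix.symplecticGroup (Fin m) F))).ker := by
    rw [QuotientGroup.ker_mk', hcard]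
    intro h
    obtain ⟨n, -, hn⟩ := FiniteField.card F p
    have h1 : p = 2 := (Nat.prime_dvd_prime_iff_eq hp.1 Nat.prime_two).1 (h.trans (Nat.gcd_dvd_left _ _))
    have h2 : p ∣ Fintype.card F - 1 := h.trans (Nat.gcd_dvd_right _ _)
    have h3 : p ∣ Fintype.card F := by rw [hn]; exact dvd_pow_self p n.ne_zero
    have h4 : 1 ≤ Fintype.card F := Fintype.card_pos
    have h5 := Nat.dvd_sub h3 h2
    rw [Nat.sub_sub_self h4] at h5
    exact hp.1.one_lt.ne' (Nat.dvd_one.1 h5)
  have hdim : finrank F (Fin m ⊕ Fin m → F) = 2 * m := by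
    rw [finrank_fintype_fun_eq_card, Fintype.card_sum, Fintype.card_fin]; ring
  rcases he with ⟨h2, hle⟩ | ⟨hodd, hle⟩
  · refine not_dvd_cent_of (QuotientGroup.mk' _) (QuotientGroup.mk'_surjective _) hK hr h0 hrK hpK (repS m F)
      repS_injective h2 (by rw [hdim]; omega) ?_ hx hy hxy hn
    intro g hg U hU hUf hU0
    have hgr : repS m F g ^ r = 1 := by rw [← map_pow, hg, map_one]
    have h1 := H951.ord_dvd_finrank hgr hU hUf
    exact Nat.le_of_dvd (Nat.pos_of_ne_zero fun h => hU0 (Submodule.finrank_eq_zero.1 h)) h1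
  · refine not_dvd_cent_form frm_symp nd_symp (QuotientGroup.mk' _) (QuotientGroup.mk'_surjective _) hK hr hr2 h0 hrK hpK
      (repS m F) repS_injective repS_isom (by rw [hdim]; omega) ?_ hx hy hxy hn
    intro g hg
    exact noIrr_alt frm_symp (fun v => sympForm_self v) h0 (by rw [← map_pow, hg, map_one]) hodd

section Form

theorem card_mul_relIndex {G : Type*} [Group G] {H K : Subgroup G} (h : H ≤ K) :
    Nat.card H * H.relIndex K = Nat.card K := by
  rw [← Nat.card_congr (subgroupOfEquivOfLe h).toEquiv]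
  exact (H.subgroupOf K).card_mul_index

theorem card_sp [Fintype F] : Nat.card (spGL m F) =
    Fintype.card F ^ (m ^ 2) * ∏ i ∈ Finset.range m, (Fintype.card F ^ (2 * (i + 1)) - 1) := by
  rw [Cfsg.Agent.H955.card_spGL, Nat.card_eq_fintype_card]

/-- **a quadratic form, `q` even** -/
theorem form_index [Fintype F] (hm : 1 ≤ m) {R : Subgroup (PSp m F)} {Q : (Fin m ⊕ Fin m → F) → F}
    (hQ : IsNondegenerateQuadraticForm Q) (hpol : ∀ u v, QuadraticMap.polar Q u v = sympForm m F u v)
    (hR : pre R ≤ isometryGroup F Q) :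
    Fintype.card F ^ m * (Fintype.card F ^ m + 1) ∣ 2 * R.index ∨
      Fintype.card F ^ m * (Fintype.card F ^ m - 1) ∣ 2 * R.index := by
  obtain ⟨Q', rfl, hnd⟩ := Cfsg.Agent.H883.Bridge.exists_quadraticForm hQ
  have hι : Fintype.card (Fin m ⊕ Fin m) = 2 * m := by rw [Fintype.card_sum, Fintype.card_fin]; ring
  have hq : 2 ≤ Fintype.card F := Fintype.one_lt_card
  have hO : isometryGroup F (⇑Q') ≤ spGL m F := by
    intro g hg
    have hg' := Cfsg.Agent.LieClassical.OrthFinite.mem_isometryGroup_iff.1 hg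
    rw [mem_spGL_iff]
    intro u v
    rw [← hpol, ← hpol, QuadraticMap.polar, QuadraticMap.polar, ← Matrix.mulVec_add, hg', hg', hg']
  have h1 := relIndex_mul_relIndex _ _ _ hR hO
  rw [index_pre] at h1
  have h2 := card_mul_relIndex hO
  rw [card_sp] at h2
  set N := (isometryGroup F (⇑Q')).relIndex (spGL m F)
  by_cases hP : Cfsg.Agent.H955.IsPlus Q'
  · left
    rw [Cfsg.Agent.H957.card_isometryGroup_plus Q' hnd hm hι hP] at h2
    have h3 := Cfsg.Agent.H957.index_arith hq hm true h2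
    rw [← h1]
    refine Dvd.intro_left ((pre R).relIndex (isometryGroup F (⇑Q'))) ?_
    simp only [if_true] at h3
    rw [← h3]
    ring
  · right
    rw [Cfsg.Agent.H957.card_isometryGroup_minus Q' hnd hm hι hP] at h2
    have h3 := Cfsg.Agent.H957.index_arith hq hm false h2
    rw [← h1]
    refine Dvd.intro_left ((pre R).relIndex (isometryGroup F (⇑Q'))) ?_
    simp only [Bool.false_eq_true, if_false] at h3
    rw [← h3]
    ring

end Form

section Field

variable {K : Subalgebra F (Matrix (Fin 2 ⊕ Fin 2) (Fin 2 ⊕ Fin 2) F)} {R : Subgroup (PSp 2 F)}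

/-- the action of the normaliser on the field -/
noncomputable def galHom (K : Subalgebra F (Matrix (Fin 2 ⊕ Fin 2) (Fin 2 ⊕ Fin 2) F)) :
    subalgebraNormalizer K →* (K ≃ₐ[F] K) where
  toFun g := H922.conjK K g.1 g.2
  map_one' := by
    apply AlgEquiv.ext
    intro x
    apply Subtype.ext
    rw [H922.conjK_apply]
    simp
  map_mul' g h := by
    apply AlgEquiv.ext
    intro x
    apply Subtype.ext
    rw [AlgEquiv.mul_apply, H922.conjK_apply, H922.conjK_apply, H922.conjK_apply, Subgroup.coe_mul, mul_inv_rev,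
      Units.val_mul, Units.val_mul]
    simp only [mul_assoc]

theorem card_gal [Finite F] (hK : IsFieldSubalgebra 2 K) : Nat.card (K ≃ₐ[F] K) = 2 := by
  have hfield : IsField K :=
    { exists_pair_ne := ⟨0, 1, fun h => by
        have := congrArg Subtype.val h
        exact zero_ne_one (α := Matrix (Fin 2 ⊕ Fin 2) (Fin 2 ⊕ Fin 2) F) this⟩
      mul_comm := fun x y => Subtype.ext (hK.comm x.1 x.2 y.1 y.2)
      mul_inv_cancel := fun {x} hx => by
        obtain ⟨y, hy, hxy⟩ := hK.inv x.1 x.2 (fun h => hx (Subtype.ext h))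
        exact ⟨⟨y, hy⟩, Subtype.ext hxy⟩ }
  letI : Field K := hfield.toField
  haveI : Finite K := Module.finite_of_finite F
  rw [IsGalois.card_aut_eq_finrank]
  exact hK.finrank_eq

theorem hK4 : Fintype.card (Fin 2 ⊕ Fin 2) = 4 := by simp

/-- the `p`-subgroups of the normaliser -/
theorem card_p_normalizer_dvd [Fintype F] (hK : IsFieldSubalgebra 2 K) {p : ℕ} [hp : Fact p.Prime] [CharP F p]
    (P : Subgroup (GL (Fin 2 ⊕ Fin 2) F)) (hP : IsPGroup p P) (hPN : P ≤ subalgebraNormalizer K) :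
    Nat.card P ∣ 2 * Fintype.card F ^ 2 := by
  let ψ : P →* (K ≃ₐ[F] K) := (galHom K).comp (Subgroup.inclusion hPN)
  have h1 : Nat.card P = Nat.card ψ.ker * Nat.card ψ.range := by
    rw [← ψ.ker.card_mul_index, Subgroup.index_ker]
  have h2 : Nat.card ψ.range ∣ 2 := by
    have := Subgroup.card_subgroup_dvd_card ψ.range
    rwa [card_gal hK] at this
  have h3 : Nat.card ψ.ker ∣ Fintype.card F ^ 2 := by
    have h4 : Nat.card (ψ.ker.map P.subtype) = Nat.card ψ.ker :=
      Subgroup.card_map_of_injective P.subtype_injective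
    rw [← h4]
    refine card_p_dvd hK hK4 _ ((hP.to_subgroup ψ.ker).map P.subtype) ?_
    rintro _ ⟨g, hg, rfl⟩ k hk
    have h5 : H922.conjK K (g : GL (Fin 2 ⊕ Fin 2) F) (hPN g.2) = 1 := hg
    have h6 := congrArg (fun φ : K ≃ₐ[F] K => ((φ ⟨k, hk⟩ : K) : Matrix (Fin 2 ⊕ Fin 2) (Fin 2 ⊕ Fin 2) F)) h5
    simp only [H922.conjK_apply, AlgEquiv.one_apply] at h6
    have h7 : (((g : GL (Fin 2 ⊕ Fin 2) F)⁻¹ : GL (Fin 2 ⊕ Fin 2) F) : Matrix (Fin 2 ⊕ Fin 2) (Fin 2 ⊕ Fin 2) F) *
        ((g : GL (Fin 2 ⊕ Fin 2) F) : Matrix (Fin 2 ⊕ Fin 2) (Fin 2 ⊕ Fin 2) F) = 1 := by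
      rw [← Units.val_mul, inv_mul_cancel, Units.val_one]
    show ((g : GL (Fin 2 ⊕ Fin 2) F) : Matrix (Fin 2 ⊕ Fin 2) (Fin 2 ⊕ Fin 2) F) * k = k * _
    conv_rhs => rw [← h6]
    simp only [mul_assoc]
    show _ = _ * (k * (_ * ((g : GL (Fin 2 ⊕ Fin 2) F) : Matrix (Fin 2 ⊕ Fin 2) (Fin 2 ⊕ Fin 2) F)))
    rw [h7, mul_one]
  rw [h1, mul_comm]
  exact Nat.mul_dvd_mul h2 h3

/-- **the `p`-part of the index** -/
theorem field_index_p [Fintype F] (hK : IsFieldSubalgebra 2 K) (hR : pre R ≤ subalgebraNormalizer K) :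
    Fintype.card F ^ 2 ∣ 2 * R.index := by
  obtain ⟨p, hch⟩ := CharP.exists F
  obtain ⟨n, hp, hn⟩ := FiniteField.card F p
  have hpF : Fact p.Prime := ⟨hp⟩
  obtain ⟨P⟩ := (inferInstance : Nonempty (Sylow p (pre R)))
  have h1 : Nat.card ((P : Subgroup (pre R)).map (pre R).subtype) ∣ 2 * Fintype.card F ^ 2 :=
    card_p_normalizer_dvd hK _ (P.2.map _) (by
      rintro _ ⟨g, -, rfl⟩
      exact hR g.2)
  rw [Subgroup.card_map_of_injective (pre R).subtype_injective] at h1
  have h2 : Nat.card (pre R) = Nat.card P * (P : Subgroup (pre R)).index := ((P : Subgroup (pre R)).card_mul_index).symm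
  have h3 := card_mul_relIndex (H262.El.pre_le R)
  rw [index_pre, card_sp] at h3
  have h4 : Fintype.card F ^ (2 ^ 2) ∣ Nat.card (pre R) * R.index := by
    rw [h3]
    exact dvd_mul_right _ _
  rw [h2] at h4
  have hq : 0 < Fintype.card F := Fintype.card_pos
  have h5 : Fintype.card F ^ (2 ^ 2) ∣ (2 * Fintype.card F ^ 2) * ((P : Subgroup (pre R)).index * R.index) := by
    refine h4.trans ?_
    rw [mul_assoc]
    exact Nat.mul_dvd_mul_right h1 _
  have h6 : Fintype.card F ^ 2 * Fintype.card F ^ 2 ∣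
      Fintype.card F ^ 2 * ((P : Subgroup (pre R)).index * (2 * R.index)) := by
    have e1 : Fintype.card F ^ 2 * Fintype.card F ^ 2 = Fintype.card F ^ (2 ^ 2) := by ring
    have e2 : Fintype.card F ^ 2 * ((P : Subgroup (pre R)).index * (2 * R.index)) =
        (2 * Fintype.card F ^ 2) * ((P : Subgroup (pre R)).index * R.index) := by ring
    rw [e1, e2]
    exact h5
  have h7 := Nat.dvd_of_mul_dvd_mul_left (by positivity) h6
  refine Nat.Coprime.dvd_of_dvd_mul_left ?_ h7
  rw [hn]
  exact Nat.Coprime.pow_left _ (Nat.Coprime.pow_left _ ((Nat.Prime.coprime_iff_not_dvd hp).2 P.not_dvd_index))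

/-- **odd primes dividing `q ^ 2 - 1`** -/
theorem field_index_r [Fintype F] (hK : IsFieldSubalgebra 2 K) (hsa : IsSelfAdjointFor (sympForm 2 F) K)
    (hR : pre R ≤ subalgebraNormalizer K) {r : ℕ} (hr : r.Prime) (hr2 : r ≠ 2) (hrq : r ∣ Fintype.card F ^ 2 - 1) :
    r ∣ R.index := by
  classical
  have hrF : Fact r.Prime := ⟨hr⟩
  have hq : 2 ≤ Fintype.card F := Fintype.one_lt_card
  have h0 : (r : F) ≠ 0 := by
    intro h
    obtain ⟨p, hch⟩ := CharP.exists F
    obtain ⟨n, hp, hn⟩ := FiniteField.card F p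
    have h1 : p = r := (Nat.prime_dvd_prime_iff_eq hp hr).1 ((CharP.cast_eq_zero_iff F p r).1 h)
    have h2 : r ∣ Fintype.card F ^ 2 := by
      rw [hn, h1]
      exact dvd_pow (dvd_pow_self r n.ne_zero) (by norm_num)
    have h3 := Nat.dvd_sub h2 hrq
    rw [Nat.sub_sub_self (Nat.one_le_pow _ _ (by omega))] at h3
    exact hr.one_lt.ne' (Nat.dvd_one.1 h3)
  -- an element of order `r` of `SL_2(q)`
  have hsl : r ∣ Nat.card (Matrix.SpecialLinearGroup (Fin 2) F) := by
    rw [Cfsg.Agent.ClassicalGeometry.PSL2Basic.card_SL2]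
    exact hrq.mul_left _
  obtain ⟨g, hg⟩ := exists_prime_orderOf_dvd_card' r hsl
  let E : Subgroup (Matrix.symplecticGroup (Fin 2) F) :=
    (Subgroup.pi Set.univ (fun _ : Fin 2 => zpowers g)).map H133.SLPower.phi
  have hE : IsPGroup r E := by
    rintro ⟨_, A, hA, rfl⟩
    refine ⟨1, ?_⟩
    apply Subtype.ext
    show (H133.SLPower.phi A) ^ (r ^ 1) = 1
    rw [pow_one, ← map_pow]
    have h1 : A ^ r = 1 := by
      funext i
      obtain ⟨k, hk⟩ := mem_zpowers_iff.1 (hA i trivial)
      show (A i) ^ r = 1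
      rw [← hk, ← zpow_natCast, ← zpow_mul, mul_comm, zpow_mul, zpow_natCast, ← hg, pow_orderOf_eq_one, one_zpow]
    rw [h1, map_one]
  by_contra hcon
  set H := R.comap (QuotientGroup.mk' (Subgroup.center (Matrix.symplecticGroup (Fin 2) F))) with hH
  have hHi : H.index = R.index := index_comap_of_surjective _ (QuotientGroup.mk'_surjective _)
  rw [← hHi] at hcon
  obtain ⟨c, hc⟩ := hE.nonempty_fixed_point_of_prime_not_dvd_card (Matrix.symplecticGroup (Fin 2) F ⧸ H) hcon
  obtain ⟨s, rfl⟩ := QuotientGroup.mk_surjective c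
  have hin : ∀ A ∈ Subgroup.pi Set.univ (fun _ : Fin 2 => zpowers g), s⁻¹ * H133.SLPower.phi A * s ∈ H := by
    intro A hA
    have h1 : ((H133.SLPower.phi A * s : Matrix.symplecticGroup (Fin 2) F) : Matrix.symplecticGroup (Fin 2) F ⧸ H) = s :=
      hc ⟨_, A, hA, rfl⟩
    have h2 := QuotientGroup.eq.1 h1.symm
    rwa [← mul_assoc] at h2
  let a : Fin 2 → Matrix.SpecialLinearGroup (Fin 2) F := ![g, 1]
  let b : Fin 2 → Matrix.SpecialLinearGroup (Fin 2) F := ![1, g]
  have ha : a ∈ Subgroup.pi Set.univ (fun _ : Fin 2 => zpowers g) := by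
    intro i _
    show a i ∈ zpowers g
    fin_cases i
    · exact mem_zpowers g
    · exact Subgroup.one_mem _
  have hb : b ∈ Subgroup.pi Set.univ (fun _ : Fin 2 => zpowers g) := by
    intro i _
    show b i ∈ zpowers g
    fin_cases i
    · exact Subgroup.one_mem _
    · exact mem_zpowers g
  have hgr : g ^ r = 1 := by rw [← hg]; exact pow_orderOf_eq_one g
  have har : a ^ r = 1 := by
    funext i
    fin_cases i
    · exact hgr
    · exact one_pow r
  have hbr : b ^ r = 1 := by
    funext i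
    fin_cases i
    · exact one_pow r
    · exact hgr
  have hab : a * b = b * a := by
    funext i
    fin_cases i
    · show g * 1 = 1 * g
      rw [mul_one, one_mul]
    · show 1 * g = g * 1
      rw [mul_one, one_mul]
  have hg1 : g ≠ 1 := by
    rintro rfl
    rw [orderOf_one] at hg
    exact hr.one_lt.ne hg
  let θ : (Fin 2 → Matrix.SpecialLinearGroup (Fin 2) F) →* GL (Fin 2 ⊕ Fin 2) F :=
    (spToGL 2 F).comp (((MulAut.conj s⁻¹).toMonoidHom).comp H133.SLPower.phi)
  have hθinj : Function.Injective θ :=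
    H262.El.spToGL_injective.comp ((MulAut.conj s⁻¹).injective.comp H133.SLPower.phi_injective)
  have hθ : ∀ A ∈ Subgroup.pi Set.univ (fun _ : Fin 2 => zpowers g), θ A ∈ pre R := by
    intro A hA
    refine ⟨s⁻¹ * H133.SLPower.phi A * s, hin A hA, ?_⟩
    show _ = spToGL 2 F (MulAut.conj s⁻¹ (H133.SLPower.phi A))
    rw [MulAut.conj_apply, inv_inv]
  have hiso : ∀ A, Isom (sympForm 2 F) (lin (θ A)) := by
    intro A u v
    have h1 := spToGL_mem (MulAut.conj s⁻¹ (H133.SLPower.phi A))
    have h2 := mem_spGL_iff.1 h1 u v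
    show sympForm 2 F (Matrix.toLin' _ u) (Matrix.toLin' _ v) = _
    rw [Matrix.toLin'_apply, Matrix.toLin'_apply]
    exact h2
  refine no_pair hK frm_symp nd_symp hsa hK4 (hR (hθ a ha)) (hR (hθ b hb)) (hiso a) (hiso b) hr hr2 h0
    (by rw [← map_pow, har, map_one]) (by rw [← map_pow, hbr, map_one]) (by rw [← map_mul, ← map_mul, hab]) ?_ ?_
  · intro h
    have h1 := hθinj (h.trans (map_one θ).symm)
    exact hg1 (congrFun h1 1)
  · intro i h
    rw [← map_pow, ← map_mul] at h
    have h1 := hθinj (h.trans (map_one θ).symm)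
    have h2 : g * 1 ^ i = 1 := congrFun h1 0
    rw [one_pow, mul_one] at h2
    exact hg1 h2

end Field

end Cfsg.Agent.H57.BG
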