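import Cfsg.Agent.H57.BG.Defs

/-!
# Abelian regular subgroups of almost simple primitive groups: consequences of `Reg A L` (S3561, helper57)
-/

set_option autoImplicit false
set_option linter.unusedSectionVars false

namespace Cfsg.Agent.H57.BG

open Subgroup

universe u v

variable {S : Type u} [Group S]

/-- the inner automorphisms -/
abbrev Inn (S : Type u) [Group S] : Subgroup (MulAut S) := (MulAut.conj : S →* MulAut S).range

instance inn_normal : (Inn S).Normal := by
  constructor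
  rintro _ ⟨s, rfl⟩ φ
  exact ⟨φ s, by ext x; simp [MulAut.conj_apply]⟩

theorem conj_injective (hc : center S = ⊥) : Function.Injective (MulAut.conj : S →* MulAut S) := by
  rw [injective_iff_map_eq_one]
  intro g hg
  rw [← mem_bot, ← hc, mem_center_iff]
  intro x
  have h2 := DFunLike.congr_fun hg x
  simp only [MulAut.conj_apply, MulAut.one_apply] at h2
  exact (mul_inv_eq_iff_eq_mul.1 h2).symm

/-- the inner part of `A`, as a subgroup of `S` -/
def inner (A : Subgroup (MulAut S)) : Subgroup S := A.comap (MulAut.conj : S →* MulAut S)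

theorem mem_inner {A : Subgroup (MulAut S)} {s : S} : s ∈ inner A ↔ MulAut.conj s ∈ A := Iff.rfl

instance finite_mulAut [Finite S] : Finite (MulAut S) :=
  Finite.of_injective (fun f : MulAut S => (f : S → S)) DFunLike.coe_injective

section

variable {A : Subgroup (MulAut S)} {L : Subgroup S}

theorem card_inner (hc : center S = ⊥) : Nat.card (inner A) = Nat.card (Inn S ⊓ A : Subgroup (MulAut S)) := by
  have h1 : (inner A).map (MulAut.conj : S →* MulAut S) = Inn S ⊓ A := by
    rw [inner, Subgroup.map_comap_eq]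
  rw [← h1]
  exact Nat.card_congr ((inner A).equivMapOfInjective _ (conj_injective hc)).toEquiv

theorem card_dvd (hc : center S = ⊥) : Nat.card A ∣ Nat.card (inner A) * (Inn S).index := by
  rw [card_inner hc, ← relIndex_bot_left, ← relIndex_bot_left]
  have h1 := relIndex_mul_relIndex (⊥ : Subgroup (MulAut S)) (Inn S ⊓ A) A bot_le inf_le_right
  rw [← h1, inf_relIndex_right]
  exact Nat.mul_dvd_mul dvd_rfl (relIndex_dvd_index_of_normal _ _)

/-- the elements `a` of `A` with `a ^ r = 1` -/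
def tor (A : Subgroup (MulAut S)) (hA : ∀ a ∈ A, ∀ b ∈ A, a * b = b * a) (r : ℕ) : Subgroup (MulAut S) where
  carrier := {a | a ∈ A ∧ a ^ r = 1}
  one_mem' := ⟨A.one_mem, one_pow r⟩
  mul_mem' := by
    rintro a b ⟨ha, ha'⟩ ⟨hb, hb'⟩
    exact ⟨A.mul_mem ha hb, by rw [(show Commute a b from hA a ha b hb).mul_pow, ha', hb', one_mul]⟩
  inv_mem' := by
    rintro a ⟨ha, ha'⟩
    exact ⟨A.inv_mem ha, by rw [inv_pow, ha', inv_one]⟩

theorem card_tor (hA : ∀ a ∈ A, ∀ b ∈ A, a * b = b * a) (r : ℕ) :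
    Nat.card (tor A hA r) = Nat.card {a : A // a ^ r = 1} := by
  refine Nat.card_congr ⟨fun x => ⟨⟨x.1, x.2.1⟩, Subtype.ext x.2.2⟩, fun x => ⟨x.1.1, x.1.2, congrArg Subtype.val x.2⟩,
    fun x => rfl, fun x => rfl⟩

theorem tor_le (hA : ∀ a ∈ A, ∀ b ∈ A, a * b = b * a) (r : ℕ) : tor A hA r ≤ A := fun _ h => h.1

theorem isPGroup_tor (hA : ∀ a ∈ A, ∀ b ∈ A, a * b = b * a) (r : ℕ) : IsPGroup r (tor A hA r) := fun x =>
  ⟨1, by rw [pow_one]; exact Subtype.ext x.2.2⟩

/-- an element of order prime to `|Out S|` is inner -/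
theorem mem_inn_of_pow {r : ℕ} (hr : r.Prime) (hout : ¬ r ∣ (Inn S).index) {a : MulAut S} {k : ℕ}
    (ha : a ^ r ^ k = 1) : a ∈ Inn S := by
  have h0 : (Inn S).index ≠ 0 := fun h => hout (h ▸ dvd_zero r)
  have h1 : (QuotientGroup.mk' (Inn S) a) ^ (r ^ k) = 1 := by rw [← map_pow, ha, map_one]
  have h2 : (QuotientGroup.mk' (Inn S) a) ^ (Inn S).index = 1 := by
    rw [Subgroup.index_eq_card]
    haveI : Finite (MulAut S ⧸ Inn S) := by
      apply Nat.finite_of_card_ne_zero
      rwa [← Subgroup.index_eq_card]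
    exact pow_card_eq_one'
  have h3 : Nat.Coprime (r ^ k) (Inn S).index := Nat.Coprime.pow_left k ((Nat.Prime.coprime_iff_not_dvd hr).2 hout)
  have h4 : QuotientGroup.mk' (Inn S) a = 1 := by
    have := pow_gcd_eq_one.2 ⟨h1, h2⟩
    rwa [h3.gcd_eq_one, pow_one] at this
  exact (QuotientGroup.eq_one_iff a).1 h4

end

namespace Reg

variable [Finite S] {A : Subgroup (MulAut S)} {L : Subgroup S} (h : Reg A L)

include h

theorem index_ne_one : L.index ≠ 1 := fun h1 => h.proper (Subgroup.index_eq_one.1 h1)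

theorem not_isPrimePow : ¬ IsPrimePow L.index := by rw [← h.card]; exact h.npp

theorem exists_pow_tor {r : ℕ} (hr : r.Prime) (hd : r ∣ L.index) : ∃ k, 2 ≤ k ∧ Nat.card (tor A h.comm r) = r ^ k := by
  haveI : Fact r.Prime := ⟨hr⟩
  obtain ⟨k, hk⟩ := (isPGroup_tor h.comm r).exists_card_eq
  refine ⟨k, ?_, hk⟩
  have h1 := h.big r hr (by rw [h.card]; exact hd)
  rw [← card_tor h.comm, hk] at h1
  exact (Nat.pow_le_pow_iff_right hr.one_lt).1 h1

/-- **`r` divides the index with its square** -/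
theorem sq_dvd {r : ℕ} (hr : r.Prime) (hd : r ∣ L.index) : r ^ 2 ∣ L.index := by
  obtain ⟨k, hk, hc⟩ := h.exists_pow_tor hr hd
  rw [← h.card]
  exact ((pow_dvd_pow r hk).trans (hc ▸ dvd_rfl)).trans (Subgroup.card_dvd_of_le (tor_le h.comm r))

theorem exists_two_primes : ∃ r s : ℕ, r.Prime ∧ s.Prime ∧ r ≠ s ∧ r ^ 2 ∣ L.index ∧ s ^ 2 ∣ L.index := by
  have h0 : L.index ≠ 0 := Subgroup.index_ne_zero_of_finite
  obtain ⟨r, hr, hd⟩ := Nat.exists_prime_and_dvd h.index_ne_one
  by_contra hcon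
  push Not at hcon
  apply h.not_isPrimePow
  have h1 := Nat.eq_prime_pow_of_unique_prime_dvd h0 (fun {d} hd' hdd => by
    by_contra hne
    exact hcon r d hr hd' (Ne.symm hne) (h.sq_dvd hr hd) (h.sq_dvd hd' hdd))
  rw [h1]
  apply hr.isPrimePow.pow
  intro h2
  rw [h2, pow_zero] at h1
  exact h.index_ne_one h1

theorem inner_comm (hc : center S = ⊥) {x y : S} (hx : x ∈ inner A) (hy : y ∈ inner A) : x * y = y * x := by
  apply conj_injective hc
  rw [map_mul, map_mul]
  exact h.comm _ hx _ hy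

omit [Finite S] in
theorem apply_eq (hc : center S = ⊥) {a : MulAut S} (ha : a ∈ A) {x : S} (hx : x ∈ inner A) : a x = x := by
  apply conj_injective hc
  have h1 := h.comm a ha _ hx
  have h2 : MulAut.conj (a x) = a * MulAut.conj x * a⁻¹ := by
    ext y
    simp [MulAut.conj_apply]
  rw [h2, h1, mul_inv_cancel_right]

theorem index_dvd (hc : center S = ⊥) : L.index ∣ Nat.card (inner A) * (Inn S).index := by
  rw [← h.card]
  exact card_dvd hc

/-- `|S : L|` divides `|C_S(X)| |Out S|` for every set `X` of elements of `inner A` -/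
theorem index_dvd_cent (hc : center S = ⊥) {X : Set S} (hX : X ⊆ inner A) :
    L.index ∣ Nat.card (centralizer X) * (Inn S).index := by
  refine (h.index_dvd hc).trans (Nat.mul_dvd_mul (Subgroup.card_dvd_of_le fun y hy => ?_) dvd_rfl)
  rw [mem_centralizer_iff]
  intro x hx
  exact h.inner_comm hc (hX hx) hy

/-- the pair of commuting elements -/
theorem exists_pair (hc : center S = ⊥) {r : ℕ} (hr : r.Prime) (hd : r ∣ L.index) (hout : ¬ r ∣ (Inn S).index) :
    ∃ x y : S, x ∈ inner A ∧ y ∈ inner A ∧ orderOf x = r ∧ orderOf y = r ∧ y ∉ zpowers x := by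
  obtain ⟨k, hk, hcard⟩ := h.exists_pow_tor hr hd
  have hin : ∀ a ∈ tor A h.comm r, ∃ s : S, MulAut.conj s = a := fun a ha =>
    mem_inn_of_pow hr hout (k := 1) (by rw [pow_one]; exact ha.2)
  -- a non-trivial element
  obtain ⟨a, ha, ha1⟩ : ∃ a ∈ tor A h.comm r, a ≠ 1 := by
    by_contra hcon
    push Not at hcon
    have : Nat.card (tor A h.comm r) = 1 := Subgroup.card_eq_one.2 ((Subgroup.eq_bot_iff_forall _).2 hcon)
    rw [hcard] at this
    have := Nat.one_lt_pow (by omega : k ≠ 0) hr.one_lt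
    omega
  have hao : orderOf a = r := orderOf_eq_prime ha.2 ha1 (hp := ⟨hr⟩)
  obtain ⟨b, hb, hba⟩ : ∃ b ∈ tor A h.comm r, b ∉ zpowers a := by
    by_contra hcon
    push Not at hcon
    have h1 : Nat.card (tor A h.comm r) ≤ Nat.card (zpowers a) := Subgroup.card_le_of_le hcon
    rw [hcard, Nat.card_zpowers, hao] at h1
    have h2 : r ^ 2 ≤ r ^ k := Nat.pow_le_pow_right hr.pos hk
    have h3 : r * 2 ≤ r * r := Nat.mul_le_mul_left r hr.two_le
    have := hr.pos
    rw [pow_two] at h2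
    omega
  have hb1 : b ≠ 1 := fun h => hba (h ▸ one_mem _)
  have hbo : orderOf b = r := orderOf_eq_prime hb.2 hb1 (hp := ⟨hr⟩)
  obtain ⟨x, rfl⟩ := hin a ha
  obtain ⟨y, rfl⟩ := hin b hb
  refine ⟨x, y, ha.1, hb.1, ?_, ?_, fun hyx => hba ?_⟩
  · rw [← hao, orderOf_injective _ (conj_injective hc)]
  · rw [← hbo, orderOf_injective _ (conj_injective hc)]
  · obtain ⟨n, rfl⟩ := hyx
    exact ⟨n, by simp⟩

/-- **primes with cyclic Sylow subgroups do not divide the index** -/
theorem not_dvd_index (hc : center S = ⊥) {r : ℕ} (hr : r.Prime) (hout : ¬ r ∣ (Inn S).index)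
    (hcyc : ∀ P : Subgroup S, IsPGroup r P → IsCyclic P) : ¬ r ∣ L.index := by
  intro hd
  obtain ⟨x, y, hx, hy, hxo, hyo, hyx⟩ := h.exists_pair hc hr hd hout
  haveI : Fact r.Prime := ⟨hr⟩
  -- the elements of `inner A` with `s ^ r = 1`
  set E : Subgroup S :=
    { carrier := {s | s ∈ inner A ∧ s ^ r = 1}
      one_mem' := ⟨one_mem _, one_pow r⟩
      mul_mem' := by
        rintro a b ⟨ha, ha'⟩ ⟨hb, hb'⟩
        exact ⟨mul_mem ha hb, by rw [(show Commute a b from h.inner_comm hc ha hb).mul_pow, ha', hb', one_mul]⟩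
      inv_mem' := by
        rintro a ⟨ha, ha'⟩
        exact ⟨inv_mem ha, by rw [inv_pow, ha', inv_one]⟩ } with hE
  have hEp : IsPGroup r E := fun s => ⟨1, by rw [pow_one]; exact Subtype.ext s.2.2⟩
  haveI := hcyc E hEp
  have h1 : Nat.card E = r := by
    have h2 : Nat.card E ∣ r := by
      rw [← IsCyclic.exponent_eq_card (α := E)]
      exact Monoid.exponent_dvd_of_forall_pow_eq_one fun s => Subtype.ext s.2.2
    have h3 : r ∣ Nat.card E := by
      have := Subgroup.orderOf_dvd_natCard E (x := x) ⟨hx, by rw [← hxo]; exact pow_orderOf_eq_one x⟩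
      rwa [hxo] at this
    exact Nat.dvd_antisymm h2 h3
  have h4 : zpowers x = E := by
    refine Subgroup.eq_of_le_of_card_ge (zpowers_le.2 ⟨hx, by rw [← hxo]; exact pow_orderOf_eq_one x⟩) ?_
    rw [h1, Nat.card_zpowers, hxo]
  apply hyx
  rw [h4]
  exact ⟨hy, by rw [← hyo]; exact pow_orderOf_eq_one y⟩

/-- primes which divide `|S|` exactly once -/
theorem not_dvd_index_of_sq {r : ℕ} (hr : r.Prime) (hS : ¬ r ^ 2 ∣ Nat.card S) : ¬ r ∣ L.index :=
  fun hd => hS ((h.sq_dvd hr hd).trans (Subgroup.index_dvd_card L))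

omit h in
theorem dvd_card_of_not_dvd {r : ℕ} (hr : r.Prime) (hS : r ∣ Nat.card S) (hd : ¬ r ∣ L.index) : r ∣ Nat.card L := by
  rw [← L.card_mul_index] at hS
  exact (hr.dvd_mul.1 hS).resolve_right hd

/-- **primes with cyclic Sylow subgroups divide `|L|`** -/
theorem dvd_card (hc : center S = ⊥) {r : ℕ} (hr : r.Prime) (hS : r ∣ Nat.card S) (hout : ¬ r ∣ (Inn S).index)
    (hcyc : ∀ P : Subgroup S, IsPGroup r P → IsCyclic P) : r ∣ Nat.card L :=
  dvd_card_of_not_dvd hr hS (h.not_dvd_index hc hr hout hcyc)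

/-- primes which divide `|S|` exactly once divide `|L|` -/
theorem dvd_card_of_sq {r : ℕ} (hr : r.Prime) (hS : r ∣ Nat.card S) (hS2 : ¬ r ^ 2 ∣ Nat.card S) :
    r ∣ Nat.card L :=
  dvd_card_of_not_dvd hr hS fun hd => hS2 ((h.sq_dvd hr hd).trans (Subgroup.index_dvd_card L))

/-- the full power of a prime with cyclic Sylow subgroups divides `|L|` -/
theorem pow_dvd_card (hc : center S = ⊥) {r k : ℕ} (hr : r.Prime) (hS : r ^ k ∣ Nat.card S)
    (hout : ¬ r ∣ (Inn S).index) (hcyc : ∀ P : Subgroup S, IsPGroup r P → IsCyclic P) : r ^ k ∣ Nat.card L := by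
  have h1 := h.not_dvd_index hc hr hout hcyc
  rw [← L.card_mul_index] at hS
  exact (Nat.Coprime.pow_left k ((Nat.Prime.coprime_iff_not_dvd hr).2 h1)).dvd_of_dvd_mul_right hS

/-- no non-trivial element of `inner A` is conjugate into `L` -/
theorem not_mem (hc : center S = ⊥) {x : S} (hx : x ∈ inner A) (hx1 : x ≠ 1) (g : S) : g * x * g⁻¹ ∉ L := by
  intro hm
  apply hx1
  apply conj_injective hc
  rw [map_one]
  refine h.free _ hx g⁻¹ ?_
  -- `x` normalises `L^(g⁻¹)`
  have h1 : ∀ z ∈ L.map (MulAut.conj g⁻¹).toMonoidHom, x * z * x⁻¹ ∈ L.map (MulAut.conj g⁻¹).toMonoidHom := by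
    rintro _ ⟨l, hl, rfl⟩
    refine ⟨(g * x * g⁻¹) * l * (g * x * g⁻¹)⁻¹, mul_mem (mul_mem hm hl) (inv_mem hm), ?_⟩
    simp
    group
  have h2 : ∀ z ∈ L.map (MulAut.conj g⁻¹).toMonoidHom, x⁻¹ * z * x ∈ L.map (MulAut.conj g⁻¹).toMonoidHom := by
    rintro _ ⟨l, hl, rfl⟩
    refine ⟨(g * x * g⁻¹)⁻¹ * l * (g * x * g⁻¹), mul_mem (mul_mem (inv_mem hm) hl) hm, ?_⟩
    simp
    group
  apply le_antisymm
  · rintro _ ⟨z, hz, rfl⟩
    exact h1 z hz
  · intro z hz
    refine ⟨x⁻¹ * z * x, h2 z hz, ?_⟩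
    simp
    group

/-- a prime power dividing the index and not `|Out S|` gives an element of `inner A` -/
theorem exists_inner (hc : center S = ⊥) {p k : ℕ} (hp : p.Prime) (hd : p ^ k ∣ L.index)
    (hout : ¬ p ^ k ∣ (Inn S).index) : ∃ z ∈ inner A, orderOf z = p := by
  have h1 : p ^ k ∣ Nat.card (inner A) * (Inn S).index := hd.trans (h.index_dvd hc)
  have h2 : p ∣ Nat.card (inner A) := by
    by_contra hn
    exact hout ((Nat.Coprime.pow_left k ((Nat.Prime.coprime_iff_not_dvd hp).2 hn)).dvd_of_dvd_mul_left h1)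
  have := Fact.mk hp
  obtain ⟨z, hz⟩ := exists_prime_orderOf_dvd_card' p h2
  exact ⟨z, z.2, by rw [Subgroup.orderOf_coe]; exact hz⟩

/-- if `r` does not divide `|L| |Out S|` then `inner A` contains a Sylow `r`-subgroup of `S` -/
theorem exists_sylow_le (hc : center S = ⊥) {r : ℕ} (hr : r.Prime) (hL : ¬ r ∣ Nat.card L)
    (hout : ¬ r ∣ (Inn S).index) : ∃ P : Sylow r S, (P : Subgroup S) ≤ inner A := by
  have := Fact.mk hr
  obtain ⟨Q⟩ : Nonempty (Sylow r (inner A)) := inferInstance
  have hQ : IsPGroup r ((Q : Subgroup (inner A)).map (inner A).subtype) := Q.isPGroup'.map _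
  obtain ⟨P, hP⟩ := hQ.exists_le_sylow
  refine ⟨P, ?_⟩
  have h1 : (Q : Subgroup (inner A)).map (inner A).subtype = P := by
    refine Subgroup.eq_of_le_of_card_ge hP ?_
    obtain ⟨k, hk⟩ := P.isPGroup'.exists_card_eq
    have h2 : r ^ k ∣ Nat.card S := by
      rw [← hk]
      exact Subgroup.card_subgroup_dvd_card _
    have h3 : r ^ k ∣ L.index := by
      rw [← L.card_mul_index] at h2
      exact (Nat.Coprime.pow_left k ((Nat.Prime.coprime_iff_not_dvd hr).2 hL)).dvd_of_dvd_mul_left h2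
    have h4 : r ^ k ∣ Nat.card (inner A) :=
      (Nat.Coprime.pow_left k ((Nat.Prime.coprime_iff_not_dvd hr).2 hout)).dvd_of_dvd_mul_right
        (h3.trans (h.index_dvd hc))
    have h5 : r ^ k ∣ Nat.card Q := by
      rw [← (Q : Subgroup (inner A)).card_mul_index] at h4
      exact (Nat.Coprime.pow_left k ((Nat.Prime.coprime_iff_not_dvd hr).2 Q.not_dvd_index)).dvd_of_dvd_mul_right h4
    rw [Subgroup.card_map_of_injective (inner A).subtype_injective, hk]
    exact Nat.le_of_dvd Nat.card_pos h5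
  rw [← h1]
  exact Subgroup.map_subtype_le _

/-- if `r` does not divide `|L| |Out S|` then the `r`-subgroups of `S` are abelian -/
theorem sylow_comm (hc : center S = ⊥) {r : ℕ} (hr : r.Prime) (hL : ¬ r ∣ Nat.card L)
    (hout : ¬ r ∣ (Inn S).index) (P : Subgroup S) (hP : IsPGroup r P) : ∀ x ∈ P, ∀ y ∈ P, x * y = y * x := by
  have := Fact.mk hr
  obtain ⟨Q, hQ⟩ := h.exists_sylow_le hc hr hL hout
  obtain ⟨P', hP'⟩ := hP.exists_le_sylow
  obtain ⟨g, hg⟩ := MulAction.exists_smul_eq S P' Q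
  intro x hx y hy
  have hg' : ∀ z ∈ P, g * z * g⁻¹ ∈ inner A := by
    intro z hz
    apply hQ
    rw [← hg, Sylow.coe_subgroup_smul]
    exact Subgroup.smul_mem_pointwise_smul z (MulAut.conj g) _ (hP' hz)
  have h1 := h.inner_comm hc (hg' x hx) (hg' y hy)
  have h2 : g * (x * y) * g⁻¹ = g * (y * x) * g⁻¹ := by
    calc g * (x * y) * g⁻¹ = (g * x * g⁻¹) * (g * y * g⁻¹) := by group
      _ = (g * y * g⁻¹) * (g * x * g⁻¹) := h1
      _ = _ := by group
  exact mul_left_cancel (mul_right_cancel h2)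

end Reg

section Transport

variable {S' : Type v} [Group S']

theorem congr_apply (e : S ≃* S') (a : MulAut S) (x : S) : (MulAut.congr e a) (e x) = e (a x) := by
  simp [MulAut.congr]

theorem congr_conj (e : S ≃* S') (s : S) : MulAut.congr e (MulAut.conj s) = MulAut.conj (e s) := by
  ext x
  obtain ⟨x, rfl⟩ := e.surjective x
  rw [congr_apply]
  simp [MulAut.conj_apply]

theorem map_congr (e : S ≃* S') (a : MulAut S) (M : Subgroup S) :
    (M.map e.toMonoidHom).map (MulAut.congr e a).toMonoidHom = (M.map a.toMonoidHom).map e.toMonoidHom := by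
  ext x
  constructor
  · rintro ⟨_, ⟨y, hy, rfl⟩, rfl⟩
    exact ⟨a y, ⟨y, hy, rfl⟩, (congr_apply e a y).symm⟩
  · rintro ⟨_, ⟨y, hy, rfl⟩, rfl⟩
    exact ⟨e y, ⟨y, hy, rfl⟩, congr_apply e a y⟩

theorem map_inj (e : S ≃* S') {M N : Subgroup S} : M.map e.toMonoidHom = N.map e.toMonoidHom ↔ M = N :=
  ⟨fun h => Subgroup.map_injective e.injective h, fun h => by rw [h]⟩

theorem EqFac.congr {A : Type*} {B : Type*} [Group A] [Group B] (e : A ≃* B) (h : EqFac A) : EqFac B := by
  obtain ⟨d, r, f, hd, hr, hf1, hf2, hf3⟩ := h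
  refine ⟨d, r, fun i => (f i).map e.toMonoidHom, hd, hr, ?_, ?_, fun i => ?_⟩
  · have h1 : iSupIndep (fun i => (e.mapSubgroup) (f i)) := hf1.map_orderIso _
    exact h1
  · have h1 : (⨆ i, e.mapSubgroup (f i)) = e.mapSubgroup (⨆ i, f i) := by
      rw [OrderIso.map_iSup]
    rw [hf2, map_top] at h1
    exact h1
  · rw [Subgroup.card_map_of_injective e.injective, hf3]

theorem Reg.congr {A : Subgroup (MulAut S)} {L : Subgroup S} (h : Reg A L) (e : S ≃* S') :
    Reg (A.map (MulAut.congr e).toMonoidHom) (L.map e.toMonoidHom) where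
  comm := by
    rintro _ ⟨a, ha, rfl⟩ _ ⟨b, hb, rfl⟩
    have := congrArg (MulAut.congr e).toMonoidHom (h.comm a ha b hb)
    rwa [map_mul, map_mul] at this
  proper := by
    intro h1
    apply h.proper
    rw [← map_inj e, h1]
    exact (Subgroup.map_top_of_surjective _ e.surjective).symm
  card := by
    rw [Subgroup.card_map_of_injective (MulAut.congr e).injective, h.card]
    exact (Subgroup.index_map_equiv L e).symm
  norm := by rw [← Subgroup.map_equiv_normalizer_eq, h.norm]
  trans := by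
    intro s
    obtain ⟨s, rfl⟩ := e.surjective s
    obtain ⟨a, ha, hs⟩ := h.trans s
    refine ⟨_, ⟨a, ha, rfl⟩, ?_⟩
    change (L.map e.toMonoidHom).map (MulAut.congr e a).toMonoidHom = _
    rw [map_congr, hs, ← congr_conj, map_congr]
  free := by
    rintro _ ⟨a, ha, rfl⟩ s hs
    obtain ⟨s, rfl⟩ := e.surjective s
    change ((L.map e.toMonoidHom).map _).map (MulAut.congr e a).toMonoidHom = _ at hs
    rw [← congr_conj, map_congr, map_congr, map_inj] at hs
    rw [h.free a ha s hs, map_one]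
  npp := by
    rw [Subgroup.card_map_of_injective (MulAut.congr e).injective]
    exact h.npp
  big := by
    intro p hp hd
    rw [Subgroup.card_map_of_injective (MulAut.congr e).injective] at hd
    refine (h.big p hp hd).trans (le_of_eq ?_)
    set φ := A.equivMapOfInjective (MulAut.congr e).toMonoidHom (MulAut.congr e).injective
    refine Nat.card_congr (Equiv.subtypeEquiv φ.toEquiv fun a => ?_)
    constructor
    · intro ha
      have := congrArg φ ha
      rwa [map_pow, map_one] at this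
    · intro ha
      apply φ.injective
      rw [map_pow, map_one]
      exact ha
  notTwo := by
    intro h1
    apply h.notTwo
    rw [MulAction.is_two_pretransitive_iff] at h1 ⊢
    intro a b c d
    obtain ⟨a, rfl⟩ := QuotientGroup.mk_surjective a
    obtain ⟨b, rfl⟩ := QuotientGroup.mk_surjective b
    obtain ⟨c, rfl⟩ := QuotientGroup.mk_surjective c
    obtain ⟨d, rfl⟩ := QuotientGroup.mk_surjective d
    intro hab hcd
    have key : ∀ x y : S, ((e x : S') : S' ⧸ L.map e.toMonoidHom) = (e y : S') ↔ ((x : S) : S ⧸ L) = (y : S) := by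
      intro x y
      rw [QuotientGroup.eq, QuotientGroup.eq, ← map_inv, ← map_mul]
      exact Subgroup.mem_map_iff_mem e.injective
    obtain ⟨g, hg1, hg2⟩ := h1 (a := ((e a : S') : S' ⧸ L.map e.toMonoidHom)) (b := (e b : S')) (c := (e c : S'))
      (d := (e d : S')) (fun h => hab ((key a b).1 h)) (fun h => hcd ((key c d).1 h))
    obtain ⟨g, rfl⟩ := e.surjective g
    refine ⟨g, ?_, ?_⟩
    · change ((g * a : S) : S ⧸ L) = (c : S)
      rw [← key, map_mul]
      exact hg1
    · change ((g * b : S) : S ⧸ L) = (d : S)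
      rw [← key, map_mul]
      exact hg2
  prim := by
    obtain ⟨B, hAB, hin, hB⟩ := h.prim
    refine ⟨B.map (MulAut.congr e).toMonoidHom, Subgroup.map_mono hAB, fun s => ?_, fun M hLM hM => ?_⟩
    · obtain ⟨s, rfl⟩ := e.surjective s
      exact ⟨_, hin s, congr_conj e s⟩
    · obtain ⟨M, rfl⟩ : ∃ N : Subgroup S, N.map e.toMonoidHom = M :=
        ⟨M.comap e.toMonoidHom, Subgroup.map_comap_eq_self_of_surjective e.surjective M⟩
      have h1 := hB M ((Subgroup.map_le_map_iff_of_injective e.injective).1 hLM) fun b hb hbL => by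
        have h2 := hM _ ⟨b, hb, rfl⟩ (by
          change (L.map e.toMonoidHom).map (MulAut.congr e b).toMonoidHom = _
          rw [map_congr, hbL])
        change (M.map e.toMonoidHom).map (MulAut.congr e b).toMonoidHom = _ at h2
        rwa [map_congr, map_inj] at h2
      rcases h1 with rfl | rfl
      · exact Or.inl rfl
      · exact Or.inr (Subgroup.map_top_of_surjective _ e.surjective)
  nf := fun hf => h.nf (hf.congr (A.equivMapOfInjective (MulAut.congr e).toMonoidHom (MulAut.congr e).injective).symm)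

theorem Row.congr (e : S ≃* S') (h : Row S') : Row S := fun _ _ hr => h _ _ (hr.congr e)

end Transport

end Cfsg.Agent.H57.BG
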