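import Cfsg.Agent.H263.ChermakDelgado
import Cfsg.Agent.H57.BG.Kill

/-!
# Abelian subgroups of `Aut T`, `T` simple, are small (S3561, helper57)

Chermak-Delgado: `|B| ^ 2 ≤ |T| |Out T|` for an abelian subgroup `B` of `Aut T`, `T` a non-abelian simple group.
`Reg.index_sq_le` : hence `|T : L| ^ 2 ≤ |T| |Out T|` for `Reg A L`.
-/

set_option autoImplicit false

namespace Cfsg.Agent.H57.BG

open Subgroup Cfsg.Agent.H263.ChermakDelgado

universe u

/-- if all the nontrivial normal subgroups have trivial centralizer, the Chermak-Delgado measure is at most `|H|` -/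
theorem measure_le_card {H : Type*} [Group H] [Finite H]
    (hH : ∀ M : Subgroup H, M.Normal → M ≠ ⊥ → centralizer (M : Set H) = ⊥) (X : Subgroup H) :
    Nat.card X * Nat.card (centralizer (X : Set H)) ≤ Nat.card H := by
  classical
  -- a large subgroup of maximal order
  have hne : ∃ Q : Subgroup H, IsCentralizerLarge Q := exists_large H
  have hfin : Set.Finite {Q : Subgroup H | IsCentralizerLarge Q} := Set.toFinite _
  obtain ⟨Q, hQ⟩ := hfin.exists_maximal hne
  have hQl : IsCentralizerLarge Q := hQ.prop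
  -- conjugates are large
  have hconj : ∀ g : H, IsCentralizerLarge (Q.map (MulAut.conj g).toMonoidHom) := by
    intro g
    rw [large_iff] at hQl ⊢
    intro R
    refine (hQl R).trans (le_of_eq ?_)
    have h1 : centralizer ((Q.map (MulAut.conj g).toMonoidHom : Subgroup H) : Set H) =
        (centralizer (Q : Set H)).map (MulAut.conj g).toMonoidHom := by
      ext v
      rw [mem_centralizer_iff]
      constructor
      · intro hv
        refine ⟨g⁻¹ * v * g, ?_, by simp [mul_assoc]⟩
        rw [SetLike.mem_coe, mem_centralizer_iff]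
        intro w hw
        have h2 := hv (g * w * g⁻¹) ⟨w, hw, rfl⟩
        calc w * (g⁻¹ * v * g) = g⁻¹ * ((g * w * g⁻¹) * v) * g := by group
          _ = g⁻¹ * (v * (g * w * g⁻¹)) * g := by rw [h2]
          _ = _ := by group
      · rintro ⟨u, hu, rfl⟩ _ ⟨w, hw, rfl⟩
        rw [SetLike.mem_coe, mem_centralizer_iff] at hu
        have h2 := hu w hw
        change (g * w * g⁻¹) * (g * u * g⁻¹) = g * u * g⁻¹ * (g * w * g⁻¹)
        calc (g * w * g⁻¹) * (g * u * g⁻¹) = g * (w * u) * g⁻¹ := by group
          _ = g * (u * w) * g⁻¹ := by rw [h2]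
          _ = _ := by group
    unfold Cfsg.Agent.H263.ChermakDelgado.measure
    rw [h1, Subgroup.card_map_of_injective (MulAut.conj g).injective,
      Subgroup.card_map_of_injective (MulAut.conj g).injective]
  have hnorm : Q.Normal := by
    constructor
    intro n hn g
    have h1 : IsCentralizerLarge (Q ⊔ Q.map (MulAut.conj g).toMonoidHom) := (main hQl (hconj g)).2.1
    have h2 : Q ⊔ Q.map (MulAut.conj g).toMonoidHom ≤ Q := hQ.le_of_ge h1 le_sup_left
    exact h2 (mem_sup_right ⟨n, hn, rfl⟩)
  have h3 : Nat.card X * Nat.card (centralizer (X : Set H)) ≤ Cfsg.Agent.H263.ChermakDelgado.measure Q := (large_iff Q).1 hQl X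
  refine h3.trans ?_
  unfold Cfsg.Agent.H263.ChermakDelgado.measure
  by_cases hb : Q = ⊥
  · rw [hb, Subgroup.card_bot, one_mul]
    exact Subgroup.card_le_card_group _
  · rw [hH Q hnorm hb, Subgroup.card_bot, mul_one]
    exact Subgroup.card_le_card_group _

theorem centralizer_inn {T : Type*} [Group T] (hc : center T = ⊥) : centralizer (Inn T : Set (MulAut T)) = ⊥ := by
  rw [eq_bot_iff]
  intro a ha
  rw [mem_centralizer_iff] at ha
  rw [mem_bot]
  ext x
  rw [MulAut.one_apply]
  apply conj_injective hc
  have h1 := ha (MulAut.conj x) ⟨x, rfl⟩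
  have h2 : MulAut.conj (a x) = a * MulAut.conj x * a⁻¹ := by
    ext y
    simp [MulAut.conj_apply]
  rw [h2, ← h1, mul_inv_cancel_right]

/-- the nontrivial normal subgroups of `Aut T` contain the inner automorphisms -/
theorem centralizer_normal {T : Type*} [Group T] [Finite T] [IsSimpleGroup T] (hc : center T = ⊥)
    (M : Subgroup (MulAut T)) (hM : M.Normal) (hne : M ≠ ⊥) : centralizer (M : Set (MulAut T)) = ⊥ := by
  have h1 : (inner M).Normal := hM.comap _
  rcases h1.eq_bot_or_eq_top with h2 | h2
  · exfalso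
    apply hne
    rw [eq_bot_iff, ← centralizer_inn hc]
    intro m hm
    rw [mem_centralizer_iff]
    rintro _ ⟨t, rfl⟩
    -- the commutator is inner and in `M`
    have h3 : MulAut.conj t * m * (MulAut.conj t)⁻¹ * m⁻¹ ∈ M := M.mul_mem (hM.conj_mem m hm _) (M.inv_mem hm)
    have h4 : MulAut.conj t * m * (MulAut.conj t)⁻¹ * m⁻¹ = MulAut.conj (t * (m t)⁻¹) := by
      ext y
      simp [MulAut.conj_apply, mul_assoc]
    rw [h4] at h3
    have h5 : t * (m t)⁻¹ ∈ inner M := h3
    rw [h2, mem_bot, mul_inv_eq_one] at h5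
    have h6 : MulAut.conj (m t) = m * MulAut.conj t * m⁻¹ := by
      ext y
      simp [MulAut.conj_apply]
    rw [← h5] at h6
    calc MulAut.conj t * m = m * MulAut.conj t * m⁻¹ * m := by rw [← h6]
      _ = m * MulAut.conj t := by group
  · have h3 : Inn T ≤ M := by
      rintro _ ⟨t, rfl⟩
      have : t ∈ inner M := by rw [h2]; exact mem_top t
      exact this
    rw [eq_bot_iff, ← centralizer_inn hc]
    exact centralizer_le h3

/-- **abelian subgroups of `Aut T` are small** -/
theorem card_sq_le {T : Type*} [Group T] [Finite T] [IsSimpleGroup T] (hc : center T = ⊥)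
    (B : Subgroup (MulAut T)) (hB : ∀ a ∈ B, ∀ b ∈ B, a * b = b * a) :
    Nat.card B ^ 2 ≤ Nat.card T * (Inn T).index := by
  have h1 := measure_le_card (centralizer_normal hc) B
  have h2 : B ≤ centralizer (B : Set (MulAut T)) := by
    intro b hb
    rw [mem_centralizer_iff]
    intro a ha
    exact hB a ha b hb
  have h3 : Nat.card B ≤ Nat.card (centralizer (B : Set (MulAut T))) := Subgroup.card_le_of_le h2
  have h4 : Nat.card (Inn T) = Nat.card T :=
    (Nat.card_congr (MonoidHom.ofInjective (conj_injective hc)).toEquiv).symm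
  have h5 : Nat.card (MulAut T) = Nat.card T * (Inn T).index := by
    rw [← (Inn T).card_mul_index, h4]
  rw [← h5, pow_two]
  exact (Nat.mul_le_mul_left _ h3).trans h1

/-- **`|T : L| ^ 2 ≤ |T| |Out T|`** -/
theorem Reg.index_sq_le {T : Type u} [Group T] [Finite T] [IsSimpleGroup T] {A : Subgroup (MulAut T)} {L : Subgroup T}
    (h : Reg A L) (hc : center T = ⊥) : L.index ^ 2 ≤ Nat.card T * (Inn T).index := by
  rw [← h.card]
  exact card_sq_le hc A h.comm

end Cfsg.Agent.H57.BG
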