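import Cfsg.Agent.H57.BG.Kills
import Cfsg.Agent.H349.BG.Cross
import Cfsg.Agent.S0818

/-!
# The almost simple subgroups of classical groups in the same characteristic which are not killed by a cyclic prime
(S3561, helper57)
-/

set_option autoImplicit false

namespace Cfsg.Agent.H57.BG

open Module Cfsg Cfsg.Geo Subgroup Cfsg.Agent.OrdDiv Cfsg.Agent.H436 Cfsg.Agent.H264.FKS Cfsg.Agent.H915.GN
open Cfsg.Agent.H902 Cfsg.Agent.H902.Names
open Cfsg.Agent.LieClassical.OmegaReindex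
open Cfsg.Agent.H364.OutLie (mulaut_congr)

/-- `M` is almost simple with socle named `g` (`H884.Row.AS`) -/
def AS (g : Grp) {T : Type} [Group T] (M : Subgroup T) : Prop :=
  ∃ S : Subgroup M, S.Normal ∧ IsSimpleGroup S ∧ ¬ IsMulCommutative S ∧ Subgroup.centralizer (S : Set M) = ⊥ ∧
    IsNamed g S

theorem not_dvd_two_pow {r k : ℕ} (hr : r.Prime) (h5 : 5 ≤ r) : ¬ r ∣ 2 ^ k := fun h => by
  have := Nat.le_of_dvd (by norm_num) (hr.dvd_of_dvd_pow h)
  omega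

theorem gcd_two_eq {a : ℕ} : Nat.gcd 2 a = 1 ∨ Nat.gcd 2 a = 2 := (Nat.dvd_prime Nat.prime_two).1 (Nat.gcd_dvd_left _ _)

theorem gcd_four_eq {a : ℕ} : Nat.gcd 4 a = 1 ∨ Nat.gcd 4 a = 2 ∨ Nat.gcd 4 a = 4 := by
  have h : Nat.gcd 4 a ∣ 2 ^ 2 := Nat.gcd_dvd_left _ _
  obtain ⟨k, hk, h1⟩ := (Nat.dvd_prime_pow Nat.prime_two).1 h
  rw [h1]
  interval_cases k <;> simp

theorem sq_lt_pow {c b f : ℕ} (hb : 4 ≤ b) (hc : c < b) (hf : 1 ≤ f) : c * f ^ 2 < b ^ f := by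
  induction f, hf using Nat.le_induction with
  | base => simpa using hc
  | succ n hn ih =>
    rw [pow_succ]
    have h1 : (n + 1) ^ 2 ≤ 4 * n ^ 2 := by nlinarith
    calc c * (n + 1) ^ 2 ≤ c * (4 * n ^ 2) := Nat.mul_le_mul_left _ h1
      _ = (c * n ^ 2) * 4 := by ring
      _ ≤ (c * n ^ 2) * b := Nat.mul_le_mul_left _ hb
      _ < b ^ n * b := Nat.mul_lt_mul_of_pos_right ih (by omega)

theorem prB_succ (q m : ℕ) : prB q (m + 1) = prB q m * (q ^ (2 * (m + 1)) - 1) := by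
  unfold prB
  rw [List.range_succ, List.map_append, List.prod_append]
  simp

theorem sq_sub_one (q m : ℕ) : q ^ (2 * m) - 1 = (q ^ m + 1) * (q ^ m - 1) := by
  have h := Nat.sq_sub_sq (q ^ m) 1
  rw [one_pow, ← pow_mul, mul_comm m 2] at h
  exact h

theorem dd_g2 {q : ℕ} {X : Art.Sh} {p f : ℕ} (h : IsLie (.g2 q) X p f) : Art.dd X (p ^ f) = 1 := by
  cases h; rfl

theorem dd_sz {q : ℕ} {X : Art.Sh} {p f : ℕ} (h : IsLie (.sz q) X p f) : Art.dd X (p ^ f) = 1 := by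
  cases h; rfl

/-! ### the automorphism groups -/

section aut

variable {S : Type} [Group S] {p f m : ℕ}

theorem aut_psp (hp : p.Prime) (hf : 1 ≤ f) (hm : 3 ≤ m) (h : Real (.psp m (p ^ f)) S) :
    Nat.card (MulAut S) = Nat.gcd 2 (p ^ f - 1) * f * Nat.card S := by
  obtain ⟨F, _, _, hF, ⟨e⟩⟩ := h
  have : Fact p.Prime := ⟨hp⟩
  have h1 := Cfsg.Agent.S0814.result p f hf hF m (by omega) (by omega)
  rw [if_neg (by omega), one_mul] at h1
  rw [mulaut_congr e, h1, Nat.card_congr e.toEquiv]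

theorem aut_oodd (hp : p.Prime) (hf : 1 ≤ f) (hm : 3 ≤ m) (hodd : Odd p) (h : Real (.oodd m (p ^ f)) S) :
    Nat.card (MulAut S) = 2 * f * Nat.card S := by
  obtain ⟨F, _, _, hF, ⟨e⟩⟩ := h
  have : Fact p.Prime := ⟨hp⟩
  rw [mulaut_congr e, Cfsg.Agent.S0816.result p f hf hF hodd m hm, Nat.card_congr e.toEquiv]

theorem aut_ominus (hp : p.Prime) (hf : 1 ≤ f) (hm : 4 ≤ m) (h : Real (.ominus m (p ^ f)) S) :
    Nat.card (MulAut S) = (if p = 2 then 2 else (if Even (m * (p ^ f - 1) / 2) then 4 else 8)) * f * Nat.card S := by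
  obtain ⟨F, _, _, a, b, hF, hab, ⟨e⟩⟩ := h
  have : Fact p.Prime := ⟨hp⟩
  rw [mulaut_congr e, Cfsg.Agent.S0818.result p f hf hF m hm a b hab, Nat.card_congr e.toEquiv]

/-- the general bound -/
theorem aut_gen [Finite S] [IsSimpleGroup S] (hna : ¬ IsMulCommutative S) {g : Grp} (hp : p.Prime) (hn : IsNamed g S)
    (hch : HasChar p g) {d e : ℕ} (hd : ∀ X f, IsLie g X p f → Art.dd X (p ^ f) = d) (he : fld g = p ^ e) :
    ∃ c, Nat.card (MulAut S) = c * e * Nat.card S ∧ c ∣ 24 * d ∧ (p = 2 → c ∣ 6 * d) := by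
  obtain ⟨X, f, h1, h2, h3⟩ := exists_lie hp hn hch
  obtain ⟨c, h4, h5, h6⟩ := Cfsg.Agent.H364.OutLie.card_out (fun h => hna ⟨⟨h⟩⟩) h1 hn.real h2
  rw [he] at h3
  obtain rfl := Nat.pow_right_injective hp.two_le h3
  rw [hd X e h1] at h5 h6
  exact ⟨c, by rw [← H934.OutB.card_out_mul S hna, h4], h5, h6⟩

end aut

section main

variable {F : Type} [Field F] [Fintype F] {m p f : ℕ}

theorem out_plus_le (hp : p.Prime) (hf : 1 ≤ f) (hF : Fintype.card F = p ^ f) (hm : 4 ≤ m)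
    (hc : center (POmega F (quadFormPlus m F)) = ⊥) :
    (Inn (POmega F (quadFormPlus m F))).index ≤ (if p = 2 then 6 else 24) * f := by
  have : Finite (POmega F (quadFormPlus m F)) := Quotient.finite _
  have hpF : Fact p.Prime := ⟨hp⟩
  rw [index_inn_of_aut hc (Cfsg.Agent.S0817.result p f hf hF m hm)]
  apply Nat.mul_le_mul_right
  split_ifs <;> norm_num

/-- **`PΩ⁻_2m(q)` in `PSp_2m(q)`** -/
theorem dead_psp_ominus (hm : 4 ≤ m) (hme : Even m) (hc : center (PSp m F) = ⊥) {M : Subgroup (PSp m F)}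
    (hT : IsNamed (.psp m (Fintype.card F)) (PSp m F)) (h : AS (.ominus m (Fintype.card F)) M) :
    Dead (PSp m F) M := by
  have : Finite (PSp m F) := Quotient.finite _
  obtain ⟨p, f, hp, hf, hF⟩ := (isPrimePow_nat_iff _).1 (Fintype.isPrimePow_card_of_field (α := F))
  rw [← hF] at h
  have hF' := hF.symm
  have hpF : Fact p.Prime := ⟨hp⟩
  obtain ⟨S, hSn, hSs, hna, hC, hS⟩ := h
  have h1 := hS.eq
  have h2 := hT.eq
  rw [← hF] at h2
  change Nat.gcd 4 ((p ^ f) ^ m + 1) * Nat.card S =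
    (p ^ f) ^ (m * (m - 1)) * (((p ^ f) ^ m + 1) * prB (p ^ f) (m - 1)) at h1
  change Nat.gcd 2 (p ^ f - 1) * Nat.card (PSp m F) = (p ^ f) ^ (m ^ 2) * prB (p ^ f) m at h2
  have haut := aut_ominus hp hf hm hS.real
  have hidx := index_inn_psp hf hF' (by omega) (fun h => by omega) hc
  rw [if_neg (by omega), one_mul] at hidx
  obtain ⟨o, ho⟩ : ∃ o, o = (if p = 2 then 2 else (if Even (m * (p ^ f - 1) / 2) then 4 else 8)) := ⟨_, rfl⟩
  rw [← ho] at haut
  have hf2 : 2 * f ^ 2 < 16 ^ f := sq_lt_pow (by norm_num) (by norm_num) hf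
  have hf3 : 2 * f ^ 2 < p ^ (f * m) := by
    refine hf2.trans_le ?_
    calc 16 ^ f = 2 ^ (f * 4) := by rw [mul_comm, pow_mul]; norm_num
      _ ≤ p ^ (f * 4) := Nat.pow_le_pow_left hp.two_le _
      _ ≤ p ^ (f * m) := Nat.pow_le_pow_right hp.pos (Nat.mul_le_mul_left _ hm)
  have hcard : Nat.gcd 2 (p ^ f - 1) * Nat.card (PSp m F) =
      Nat.card S * ((p ^ f) ^ m * ((p ^ f) ^ m - 1) * Nat.gcd 4 ((p ^ f) ^ m + 1)) := by
    rw [h2]
    calc (p ^ f) ^ (m ^ 2) * prB (p ^ f) m = (p ^ f) ^ m * ((p ^ f) ^ m - 1) *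
          ((p ^ f) ^ (m * (m - 1)) * (((p ^ f) ^ m + 1) * prB (p ^ f) (m - 1))) := by
          obtain ⟨j, rfl⟩ : ∃ j, m = j + 1 := ⟨m - 1, by omega⟩
          rw [prB_succ, sq_sub_one, Nat.add_sub_cancel, show (j + 1) ^ 2 = (j + 1) + (j + 1) * j by ring, pow_add]
          ring
      _ = _ := by rw [← h1]; ring
  have hK := kills_psp hp hf hF' hm hme hc
  rw [hF'] at hK
  have hdvd := dvd_aut S hC
  by_cases hp2 : p = 2
  · have hA : Nat.gcd 2 (p ^ f - 1) = 1 := by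
      have h3 : Odd (2 ^ f - 1) :=
        Nat.Even.sub_odd (Nat.one_le_pow _ _ (by norm_num)) (Nat.even_pow.2 ⟨even_two, by omega⟩) odd_one
      rw [hp2]
      exact Nat.coprime_two_left.2 h3
    rw [if_pos hp2] at ho
    subst ho
    rw [hA] at hcard hidx
    refine dead_of_socle hp hK hdvd haut Nat.card_pos hcard ⟨(p ^ f) ^ m * Nat.gcd 4 ((p ^ f) ^ m + 1), by ring⟩
      (N := f * m) (by rw [pow_mul, mul_assoc]; exact dvd_mul_right _ _) (c₀ := 1) (c₁ := 2 * f) (by ring)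
      (Nat.coprime_one_right p) (by omega) (by rw [hidx]; calc 2 * f * (1 * f) = 2 * f ^ 2 := by ring
                                                     _ < _ := hf3) ?_
    intro r hr h5 hrf hd
    rw [one_mul] at hd
    rcases hr.dvd_mul.1 hd with h | h
    · exact not_dvd_two_pow (k := 1) hr h5 h
    · exact hrf h
  · have hodd : Odd p := hp.odd_of_ne_two hp2
    rw [if_neg hp2] at ho
    have ho2 : ∃ k, o = 2 ^ k := by
      rw [ho]
      split_ifs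
      · exact ⟨2, rfl⟩
      · exact ⟨3, rfl⟩
    obtain ⟨k, hk⟩ := ho2
    obtain ⟨j, hj⟩ : ∃ j, Nat.gcd 2 (p ^ f - 1) = 2 ^ j := by
      rcases gcd_two_eq (a := p ^ f - 1) with h | h
      · exact ⟨0, h⟩
      · exact ⟨1, h⟩
    have hle : Nat.gcd 2 (p ^ f - 1) ≤ 2 := Nat.le_of_dvd (by norm_num) (Nat.gcd_dvd_left _ _)
    refine dead_of_socle hp hK hdvd haut Nat.card_pos hcard ⟨(p ^ f) ^ m * Nat.gcd 4 ((p ^ f) ^ m + 1), by ring⟩
      (N := f * m) (by rw [pow_mul, mul_assoc]; exact dvd_mul_right _ _) (c₀ := 2 ^ j * 2 ^ k) (c₁ := f) (by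
        rw [hj, hk]; ring) ?_ (by omega) ?_ ?_
    · have h3 : Nat.Coprime p 2 := Nat.coprime_two_right.2 hodd
      exact Nat.Coprime.mul_right (Nat.Coprime.pow_right _ h3) (Nat.Coprime.pow_right _ h3)
    · rw [hidx]
      calc f * (Nat.gcd 2 (p ^ f - 1) * f) ≤ f * (2 * f) := Nat.mul_le_mul_left _ (Nat.mul_le_mul_right _ hle)
        _ = 2 * f ^ 2 := by ring
        _ < _ := hf3
    · intro r hr h5 hrf hd
      rw [hj, hk] at hd
      rcases hr.dvd_mul.1 hd with h | h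
      · exact not_dvd_two_pow hr h5 h
      · rcases hr.dvd_mul.1 h with h | h
        · exact not_dvd_two_pow hr h5 h
        · exact hrf h

/-- **`PΩ⁻_2m(q)` in `Ω_{2m+1}(q)`** -/
theorem dead_odd_ominus (hm : 4 ≤ m) (hme : Even m) (hodd : Odd (Fintype.card F))
    (hc : center (POmega F (quadFormOdd m F)) = ⊥) {M : Subgroup (POmega F (quadFormOdd m F))}
    (hT : IsNamed (.oodd m (Fintype.card F)) (POmega F (quadFormOdd m F))) (h : AS (.ominus m (Fintype.card F)) M) :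
    Dead (POmega F (quadFormOdd m F)) M := by
  have : Finite (POmega F (quadFormOdd m F)) := Quotient.finite _
  obtain ⟨p, f, hp, hf, hF⟩ := (isPrimePow_nat_iff _).1 (Fintype.isPrimePow_card_of_field (α := F))
  rw [← hF] at h
  have hF' := hF.symm
  have hpF : Fact p.Prime := ⟨hp⟩
  obtain ⟨S, hSn, hSs, hna, hC, hS⟩ := h
  have h1 := hS.eq
  have h2 := hT.eq
  rw [← hF] at h2
  change Nat.gcd 4 ((p ^ f) ^ m + 1) * Nat.card S =
    (p ^ f) ^ (m * (m - 1)) * (((p ^ f) ^ m + 1) * prB (p ^ f) (m - 1)) at h1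
  change 2 * Nat.card (POmega F (quadFormOdd m F)) = (p ^ f) ^ (m ^ 2) * prB (p ^ f) m at h2
  have haut := aut_ominus hp hf hm hS.real
  have hoddp : Odd p := by
    rw [hF'] at hodd
    exact Nat.Odd.of_mul_left (m := p) (n := p ^ (f - 1)) (by
      rw [← pow_succ', Nat.sub_add_cancel (by omega)]; exact hodd)
  have hp2 : p ≠ 2 := by
    rintro rfl
    exact absurd hoddp (by decide)
  have hidx : (Inn (POmega F (quadFormOdd m F))).index = 2 * f :=
    index_inn_of_aut hc (Cfsg.Agent.S0816.result p f hf hF' hoddp m (by omega))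
  have hf2 : 2 * f ^ 2 < 16 ^ f := sq_lt_pow (by norm_num) (by norm_num) hf
  have hf3 : 2 * f ^ 2 < p ^ (f * m) := by
    refine hf2.trans_le ?_
    calc 16 ^ f = 2 ^ (f * 4) := by rw [mul_comm, pow_mul]; norm_num
      _ ≤ p ^ (f * 4) := Nat.pow_le_pow_left hp.two_le _
      _ ≤ p ^ (f * m) := Nat.pow_le_pow_right hp.pos (Nat.mul_le_mul_left _ hm)
  have hcard : 2 * Nat.card (POmega F (quadFormOdd m F)) =
      Nat.card S * ((p ^ f) ^ m * ((p ^ f) ^ m - 1) * Nat.gcd 4 ((p ^ f) ^ m + 1)) := by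
    rw [h2]
    calc (p ^ f) ^ (m ^ 2) * prB (p ^ f) m = (p ^ f) ^ m * ((p ^ f) ^ m - 1) *
          ((p ^ f) ^ (m * (m - 1)) * (((p ^ f) ^ m + 1) * prB (p ^ f) (m - 1))) := by
          obtain ⟨j, rfl⟩ : ∃ j, m = j + 1 := ⟨m - 1, by omega⟩
          rw [prB_succ, sq_sub_one, Nat.add_sub_cancel, show (j + 1) ^ 2 = (j + 1) + (j + 1) * j by ring, pow_add]
          ring
      _ = _ := by rw [← h1]; ring
  have hK := kills_odd hp hf hF' hp2 hm hme hc
  rw [hF'] at hK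
  have hdvd := dvd_aut S hC
  rw [if_neg hp2] at haut
  obtain ⟨k, hk⟩ : ∃ k, (if Even (m * (p ^ f - 1) / 2) then 4 else 8) = 2 ^ k := by
    split_ifs
    · exact ⟨2, rfl⟩
    · exact ⟨3, rfl⟩
  rw [hk] at haut
  refine dead_of_socle hp hK hdvd haut Nat.card_pos hcard ⟨(p ^ f) ^ m * Nat.gcd 4 ((p ^ f) ^ m + 1), by ring⟩
    (N := f * m) (by rw [pow_mul, mul_assoc]; exact dvd_mul_right _ _) (c₀ := 2 * 2 ^ k) (c₁ := f) (by ring) ?_
    (by omega) ?_ ?_
  · have h3 : Nat.Coprime p 2 := Nat.coprime_two_right.2 hoddp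
    exact Nat.Coprime.mul_right h3 (Nat.Coprime.pow_right _ h3)
  · rw [hidx]
    calc f * (2 * f) = 2 * f ^ 2 := by ring
      _ < _ := hf3
  · intro r hr h5 hrf hd
    rcases hr.dvd_mul.1 hd with h | h
    · exact not_dvd_two_pow (k := 1) hr h5 h
    · rcases hr.dvd_mul.1 h with h | h
      · exact not_dvd_two_pow hr h5 h
      · exact hrf h

theorem cop_gcd_four (hp : p.Prime) {a : ℕ} (h : p = 2 → Odd a) : Nat.Coprime p (Nat.gcd 4 a) := by
  by_cases hp2 : p = 2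
  · subst hp2
    have h1 : Nat.gcd 4 a = 1 := by
      have : Nat.Coprime 4 a := by
        rw [show (4 : ℕ) = 2 ^ 2 by norm_num]
        exact Nat.Coprime.pow_left _ (Nat.coprime_two_left.2 (h rfl))
      exact this
    rw [h1]
    exact Nat.coprime_one_right _
  · have h3 : Nat.Coprime p 2 := Nat.coprime_two_right.2 (hp.odd_of_ne_two hp2)
    rcases gcd_four_eq (a := a) with h | h | h <;> rw [h]
    · exact Nat.coprime_one_right _
    · exact h3
    · exact (Nat.Coprime.pow_right 2 h3)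

theorem cop_gcd_two (hp : p.Prime) {a : ℕ} (h : p = 2 → Odd a) : Nat.Coprime p (Nat.gcd 2 a) := by
  by_cases hp2 : p = 2
  · subst hp2
    have h1 : Nat.gcd 2 a = 1 := Nat.coprime_two_left.2 (h rfl)
    rw [h1]
    exact Nat.coprime_one_right _
  · have h3 : Nat.Coprime p 2 := Nat.coprime_two_right.2 (hp.odd_of_ne_two hp2)
    rcases gcd_two_eq (a := a) with h | h <;> rw [h]
    · exact Nat.coprime_one_right _
    · exact h3

theorem odd_pow_sub_one (hf : 1 ≤ f) {k : ℕ} (hk : 1 ≤ k) : Odd ((2 ^ f) ^ k - 1) := by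
  rw [← pow_mul]
  exact Nat.Even.sub_odd (Nat.one_le_pow _ _ (by norm_num))
    (Nat.even_pow.2 ⟨even_two, (Nat.mul_pos hf hk).ne'⟩) odd_one

theorem gcd_four_pow {a : ℕ} : ∃ k, Nat.gcd 4 a = 2 ^ k := by
  rcases gcd_four_eq (a := a) with h | h | h
  · exact ⟨0, h⟩
  · exact ⟨1, h⟩
  · exact ⟨2, h⟩

theorem gcd_two_pow {a : ℕ} : ∃ k, Nat.gcd 2 a = 2 ^ k := by
  rcases gcd_two_eq (a := a) with h | h
  · exact ⟨0, h⟩
  · exact ⟨1, h⟩

/-- **`PSp_{2m-2}(q)`, `Ω_{2m-1}(q)` in `PΩ⁺_2m(q)`** -/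
theorem dead_plus_psp (hm : 4 ≤ m) (hme : Even m)
    (hc : center (POmega F (quadFormPlus m F)) = ⊥) {M : Subgroup (POmega F (quadFormPlus m F))}
    (hT : IsNamed (.oplus m (Fintype.card F)) (POmega F (quadFormPlus m F)))
    (h : AS (.psp (m - 1) (Fintype.card F)) M ∨ AS (.oodd (m - 1) (Fintype.card F)) M) :
    Dead (POmega F (quadFormPlus m F)) M := by
  have : Finite (POmega F (quadFormPlus m F)) := Quotient.finite _
  obtain ⟨p, f, hp, hf, hF⟩ := (isPrimePow_nat_iff _).1 (Fintype.isPrimePow_card_of_field (α := F))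
  rw [← hF] at h
  have hF' := hF.symm
  have hpF : Fact p.Prime := ⟨hp⟩
  have h2 := hT.eq
  rw [← hF] at h2
  change Nat.gcd 4 ((p ^ f) ^ m - 1) * Nat.card (POmega F (quadFormPlus m F)) =
    (p ^ f) ^ (m * (m - 1)) * (((p ^ f) ^ m - 1) * prB (p ^ f) (m - 1)) at h2
  have hidx := out_plus_le hp hf hF' hm hc
  have hK := kills_plus hp hf hF' hm hme hc
  rw [hF'] at hK
  have hlt : f * (Inn (POmega F (quadFormPlus m F))).index < p ^ (f * (m - 1)) := by
    have h3 : p ^ (f * 3) ≤ p ^ (f * (m - 1)) := Nat.pow_le_pow_right hp.pos (Nat.mul_le_mul_left _ (by omega))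
    refine lt_of_lt_of_le ?_ h3
    refine (Nat.mul_le_mul_left f hidx).trans_lt ?_
    by_cases hp2 : p = 2
    · rw [if_pos hp2, hp2]
      calc f * (6 * f) = 6 * f ^ 2 := by ring
        _ < 8 ^ f := sq_lt_pow (by norm_num) (by norm_num) hf
        _ = 2 ^ (f * 3) := by rw [mul_comm, pow_mul]; norm_num
    · rw [if_neg hp2]
      have hp3 : 3 ≤ p := by have := hp.two_le; omega
      calc f * (24 * f) = 24 * f ^ 2 := by ring
        _ < 27 ^ f := sq_lt_pow (by norm_num) (by norm_num) hf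
        _ = 3 ^ (f * 3) := by rw [mul_comm, pow_mul]; norm_num
        _ ≤ p ^ (f * 3) := Nat.pow_le_pow_left hp3 _
  obtain ⟨i, hi⟩ := gcd_four_pow (a := (p ^ f) ^ m - 1)
  have hc4 : Nat.Coprime p (Nat.gcd 4 ((p ^ f) ^ m - 1)) := cop_gcd_four hp (fun h => by
    rw [h]; exact odd_pow_sub_one hf (by omega))
  have hexp : m * (m - 1) = (m - 1) ^ 2 + (m - 1) := by
    obtain ⟨j, rfl⟩ : ∃ j, m = j + 1 := ⟨m - 1, by omega⟩
    rw [Nat.add_sub_cancel]
    ring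
  rcases h with ⟨S, hSn, hSs, hna, hC, hS⟩ | ⟨S, hSn, hSs, hna, hC, hS⟩
  · have h1 := hS.eq
    change Nat.gcd 2 (p ^ f - 1) * Nat.card S = (p ^ f) ^ ((m - 1) ^ 2) * prB (p ^ f) (m - 1) at h1
    have haut := aut_psp hp hf (by omega) hS.real
    have hdvd := dvd_aut S hC
    obtain ⟨j, hj⟩ := gcd_two_pow (a := p ^ f - 1)
    have hc2 : Nat.Coprime p (Nat.gcd 2 (p ^ f - 1)) := cop_gcd_two hp (fun h => by
      rw [h, ← pow_one (2 ^ f)]; exact odd_pow_sub_one hf le_rfl)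
    refine dead_of_socle hp hK hdvd haut Nat.card_pos (A := Nat.gcd 4 ((p ^ f) ^ m - 1))
      (B := (p ^ f) ^ (m - 1) * ((p ^ f) ^ m - 1) * Nat.gcd 2 (p ^ f - 1)) ?_
      ⟨(p ^ f) ^ (m - 1) * Nat.gcd 2 (p ^ f - 1), by ring⟩
      (N := f * (m - 1)) (by rw [pow_mul, mul_assoc]; exact dvd_mul_right _ _)
      (c₀ := Nat.gcd 4 ((p ^ f) ^ m - 1) * Nat.gcd 2 (p ^ f - 1)) (c₁ := f) (by ring)
      (Nat.Coprime.mul_right hc4 hc2) (by omega) hlt ?_
    · rw [h2, hexp, pow_add]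
      calc _ = (p ^ f) ^ (m - 1) * ((p ^ f) ^ m - 1) * ((p ^ f) ^ ((m - 1) ^ 2) * prB (p ^ f) (m - 1)) := by ring
        _ = _ := by rw [← h1]; ring
    · intro r hr h5 hrf hd
      rw [hi, hj] at hd
      rcases hr.dvd_mul.1 hd with h | h
      · exact not_dvd_two_pow hr h5 h
      · rcases hr.dvd_mul.1 h with h | h
        · exact not_dvd_two_pow hr h5 h
        · exact hrf h
  · have h1 := hS.eq
    change 2 * Nat.card S = (p ^ f) ^ ((m - 1) ^ 2) * prB (p ^ f) (m - 1) at h1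
    have hoddp : Odd p := by
      have hodd : Odd (p ^ f) := hS.cond.2.1
      exact Nat.Odd.of_mul_left (m := p) (n := p ^ (f - 1)) (by
        rw [← pow_succ', Nat.sub_add_cancel (by omega)]; exact hodd)
    have haut := aut_oodd hp hf (by omega) hoddp hS.real
    have hdvd := dvd_aut S hC
    refine dead_of_socle hp hK hdvd haut Nat.card_pos (A := Nat.gcd 4 ((p ^ f) ^ m - 1))
      (B := (p ^ f) ^ (m - 1) * ((p ^ f) ^ m - 1) * 2) ?_
      ⟨(p ^ f) ^ (m - 1) * 2, by ring⟩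
      (N := f * (m - 1)) (by rw [pow_mul, mul_assoc]; exact dvd_mul_right _ _)
      (c₀ := Nat.gcd 4 ((p ^ f) ^ m - 1) * 2) (c₁ := f) (by ring)
      (Nat.Coprime.mul_right hc4 (Nat.coprime_two_right.2 hoddp)) (by omega) hlt ?_
    · rw [h2, hexp, pow_add]
      calc _ = (p ^ f) ^ (m - 1) * ((p ^ f) ^ m - 1) * ((p ^ f) ^ ((m - 1) ^ 2) * prB (p ^ f) (m - 1)) := by ring
        _ = _ := by rw [← h1]; ring
    · intro r hr h5 hrf hd
      rw [hi] at hd
      rcases hr.dvd_mul.1 hd with h | h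
      · exact not_dvd_two_pow hr h5 h
      · rcases hr.dvd_mul.1 h with h | h
        · exact not_dvd_two_pow (k := 1) hr h5 h
        · exact hrf h

theorem not_dvd_twentyfour {r c d : ℕ} (hr : r.Prime) (h5 : 5 ≤ r) (h : c ∣ 24 * 2 ^ d) : ¬ r ∣ c := by
  intro h1
  have h2 : r ∣ 3 * 2 ^ (d + 3) := (h1.trans h).trans (dvd_of_eq (by rw [pow_add]; ring))
  rcases hr.dvd_mul.1 h2 with h | h
  · have := Nat.le_of_dvd (by norm_num) h
    omega
  · exact not_dvd_two_pow hr h5 h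

/-- **`G_2(q)` in `PΩ⁺_8(q)`** -/
theorem dead_plus_g2 (hc : center (POmega F (quadFormPlus 4 F)) = ⊥) {M : Subgroup (POmega F (quadFormPlus 4 F))}
    (hT : IsNamed (.oplus 4 (Fintype.card F)) (POmega F (quadFormPlus 4 F)))
    (h : AS (.g2 (Fintype.card F)) M) : Dead (POmega F (quadFormPlus 4 F)) M := by
  have : Finite (POmega F (quadFormPlus 4 F)) := Quotient.finite _
  obtain ⟨p, f, hp, hf, hF⟩ := (isPrimePow_nat_iff _).1 (Fintype.isPrimePow_card_of_field (α := F))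
  rw [← hF] at h
  have hF' := hF.symm
  have hpF : Fact p.Prime := ⟨hp⟩
  have h2 := hT.eq
  rw [← hF] at h2
  change Nat.gcd 4 ((p ^ f) ^ 4 - 1) * Nat.card (POmega F (quadFormPlus 4 F)) =
    (p ^ f) ^ (4 * (4 - 1)) * (((p ^ f) ^ 4 - 1) * prB (p ^ f) (4 - 1)) at h2
  have hidx := out_plus_le hp hf hF' le_rfl hc
  have hK := kills_plus hp hf hF' le_rfl (by decide) hc
  rw [hF'] at hK
  obtain ⟨i, hi⟩ := gcd_four_pow (a := (p ^ f) ^ 4 - 1)
  have hc4 : Nat.Coprime p (Nat.gcd 4 ((p ^ f) ^ 4 - 1)) := cop_gcd_four hp (fun h => by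
    rw [h]; exact odd_pow_sub_one hf (by omega))
  obtain ⟨S, hSn, hSs, hna, hC, hS⟩ := h
  have h1 := hS.eq
  change 1 * Nat.card S = (p ^ f) ^ 6 * (((p ^ f) ^ 2 - 1) * ((p ^ f) ^ 6 - 1)) at h1
  obtain ⟨c, haut, hcd, hc2⟩ := aut_gen (d := 1) (e := f) hna hp hS ⟨f, rfl⟩ (fun X g h => dd_g2 h) rfl
  rw [mul_one] at hcd hc2
  have hcpos : 0 < c := Nat.pos_of_dvd_of_pos hcd (by norm_num)
  have hdvd := dvd_aut S hC
  have hprB : prB (p ^ f) 3 = ((p ^ f) ^ 2 - 1) * ((p ^ f) ^ 4 - 1) * ((p ^ f) ^ 6 - 1) := by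
    simp only [prB_succ]
    unfold prB
    simp
  refine dead_of_socle hp hK hdvd haut Nat.card_pos (A := Nat.gcd 4 ((p ^ f) ^ 4 - 1))
    (B := (p ^ f) ^ 6 * (((p ^ f) ^ 4 - 1) * ((p ^ f) ^ 4 - 1))) ?_
    ⟨(p ^ f) ^ 6 * ((p ^ f) ^ 4 - 1), by ring⟩
    (N := f * 6) (by rw [pow_mul]; exact dvd_mul_right _ _)
    (c₀ := Nat.gcd 4 ((p ^ f) ^ 4 - 1)) (c₁ := c * f) (by ring) hc4 (Nat.mul_pos hcpos (by omega)) ?_ ?_
  · rw [h2, show 4 - 1 = 3 by rfl, hprB]
    calc _ = (p ^ f) ^ 6 * (((p ^ f) ^ 4 - 1) * ((p ^ f) ^ 4 - 1)) *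
          ((p ^ f) ^ 6 * (((p ^ f) ^ 2 - 1) * ((p ^ f) ^ 6 - 1))) := by ring
      _ = _ := by rw [← h1]; ring
  · by_cases hp2 : p = 2
    · rw [if_pos hp2] at hidx
      have h3 := Nat.le_of_dvd (by norm_num) (hc2 hp2)
      calc c * f * (Inn (POmega F (quadFormPlus 4 F))).index ≤ 6 * f * (6 * f) :=
            Nat.mul_le_mul (Nat.mul_le_mul_right _ h3) hidx
        _ = 36 * f ^ 2 := by ring
        _ < 64 ^ f := sq_lt_pow (by norm_num) (by norm_num) hf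
        _ = p ^ (f * 6) := by rw [hp2, mul_comm, pow_mul]; norm_num
    · rw [if_neg hp2] at hidx
      have h3 := Nat.le_of_dvd (by norm_num) hcd
      have hp3 : 3 ≤ p := by have := hp.two_le; omega
      calc c * f * (Inn (POmega F (quadFormPlus 4 F))).index ≤ 24 * f * (24 * f) :=
            Nat.mul_le_mul (Nat.mul_le_mul_right _ h3) hidx
        _ = 576 * f ^ 2 := by ring
        _ < 729 ^ f := sq_lt_pow (by norm_num) (by norm_num) hf
        _ = 3 ^ (f * 6) := by rw [mul_comm, pow_mul]; norm_num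
        _ ≤ p ^ (f * 6) := Nat.pow_le_pow_left hp3 _
  · intro r hr h5 hrf hd
    rw [hi] at hd
    rcases hr.dvd_mul.1 hd with h | h
    · exact not_dvd_two_pow hr h5 h
    · rcases hr.dvd_mul.1 h with h | h
      · exact not_dvd_twentyfour (d := 0) hr h5 hcd h
      · exact hrf h

/-- **`PSL_2(q³)` in `PΩ⁺_8(q)`** -/
theorem dead_plus_psl (hc : center (POmega F (quadFormPlus 4 F)) = ⊥) {M : Subgroup (POmega F (quadFormPlus 4 F))}
    (hT : IsNamed (.oplus 4 (Fintype.card F)) (POmega F (quadFormPlus 4 F)))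
    (h : AS (.psl 2 (Fintype.card F ^ 3)) M) : Dead (POmega F (quadFormPlus 4 F)) M := by
  have : Finite (POmega F (quadFormPlus 4 F)) := Quotient.finite _
  obtain ⟨p, f, hp, hf, hF⟩ := (isPrimePow_nat_iff _).1 (Fintype.isPrimePow_card_of_field (α := F))
  rw [← hF] at h
  have hF' := hF.symm
  have hpF : Fact p.Prime := ⟨hp⟩
  have h2 := hT.eq
  rw [← hF] at h2
  change Nat.gcd 4 ((p ^ f) ^ 4 - 1) * Nat.card (POmega F (quadFormPlus 4 F)) =
    (p ^ f) ^ (4 * (4 - 1)) * (((p ^ f) ^ 4 - 1) * prB (p ^ f) (4 - 1)) at h2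
  have hidx := out_plus_le hp hf hF' le_rfl hc
  have hK := kills_plus hp hf hF' le_rfl (by decide) hc
  rw [hF'] at hK
  obtain ⟨i, hi⟩ := gcd_four_pow (a := (p ^ f) ^ 4 - 1)
  have hc4 : Nat.Coprime p (Nat.gcd 4 ((p ^ f) ^ 4 - 1)) := cop_gcd_four hp (fun h => by
    rw [h]; exact odd_pow_sub_one hf (by omega))
  obtain ⟨S, hSn, hSs, hna, hC, hS⟩ := h
  have h1 := hS.eq
  change Nat.gcd 2 ((p ^ f) ^ 3 - 1) * ((p ^ f) ^ 3 - 1) * Nat.card S = glN 2 ((p ^ f) ^ 3) at h1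
  have hq3 : 2 ≤ (p ^ f) ^ 3 := by
    rw [← pow_mul]
    calc 2 = 2 ^ 1 := by norm_num
      _ ≤ p ^ 1 := Nat.pow_le_pow_left hp.two_le _
      _ ≤ p ^ (f * 3) := Nat.pow_le_pow_right hp.pos (by omega)
  have h1' : Nat.gcd 2 ((p ^ f) ^ 3 - 1) * Nat.card S = (p ^ f) ^ 3 * ((p ^ f) ^ 6 - 1) := by
    have h3 : glN 2 ((p ^ f) ^ 3) = ((p ^ f) ^ 3 - 1) * ((p ^ f) ^ 3 * ((p ^ f) ^ 6 - 1)) := by
      unfold glN
      have e1 : (p ^ f) ^ 6 = ((p ^ f) ^ 3) ^ 2 := by rw [← pow_mul (p ^ f) 3 2]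
      have e2 : ((p ^ f) ^ 3) ^ 2 - (p ^ f) ^ 3 = (p ^ f) ^ 3 * ((p ^ f) ^ 3 - 1) := by
        rw [Nat.mul_sub, mul_one, sq]
      rw [List.range_succ, List.range_one]
      simp only [List.map_append, List.map_cons, List.map_nil, List.prod_append, List.prod_cons, List.prod_nil,
        pow_zero, pow_one, mul_one]
      rw [e2, e1]
      ring
    rw [h3] at h1
    have h4 : ((p ^ f) ^ 3 - 1) * (Nat.gcd 2 ((p ^ f) ^ 3 - 1) * Nat.card S) =
        ((p ^ f) ^ 3 - 1) * ((p ^ f) ^ 3 * ((p ^ f) ^ 6 - 1)) := by rw [← h1]; ring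
    exact Nat.eq_of_mul_eq_mul_left (by omega) h4
  obtain ⟨j, hj⟩ := gcd_two_pow (a := (p ^ f) ^ 3 - 1)
  have hj1 : Nat.gcd 2 ((p ^ f) ^ 3 - 1) ≤ 2 := Nat.le_of_dvd (by norm_num) (Nat.gcd_dvd_left _ _)
  obtain ⟨c, haut, hcd, hc2⟩ := aut_gen (d := Nat.gcd 2 ((p ^ f) ^ 3 - 1)) (e := f * 3) hna hp hS
    ⟨f * 3, by rw [pow_mul]⟩ (fun X g h => H349.BG.dd_psl h) (by rw [pow_mul]; rfl)
  have hcpos : 0 < c := Nat.pos_of_dvd_of_pos hcd (by rw [hj]; positivity)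
  have hdvd := dvd_aut S hC
  have hprB : prB (p ^ f) 3 = ((p ^ f) ^ 2 - 1) * ((p ^ f) ^ 4 - 1) * ((p ^ f) ^ 6 - 1) := by
    simp only [prB_succ]
    unfold prB
    simp
  refine dead_of_socle hp hK hdvd haut Nat.card_pos (A := Nat.gcd 4 ((p ^ f) ^ 4 - 1))
    (B := (p ^ f) ^ 9 * (((p ^ f) ^ 4 - 1) * ((p ^ f) ^ 4 - 1) * ((p ^ f) ^ 2 - 1) * Nat.gcd 2 ((p ^ f) ^ 3 - 1))) ?_
    ⟨(p ^ f) ^ 9 * (((p ^ f) ^ 4 - 1) * ((p ^ f) ^ 2 - 1) * Nat.gcd 2 ((p ^ f) ^ 3 - 1)), by ring⟩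
    (N := f * 9) (by rw [pow_mul]; exact dvd_mul_right _ _)
    (c₀ := Nat.gcd 4 ((p ^ f) ^ 4 - 1)) (c₁ := c * (f * 3)) (by ring) hc4 (Nat.mul_pos hcpos (by omega)) ?_ ?_
  · rw [h2, show 4 - 1 = 3 by rfl, hprB]
    calc _ = (p ^ f) ^ 9 * (((p ^ f) ^ 4 - 1) * ((p ^ f) ^ 4 - 1) * ((p ^ f) ^ 2 - 1)) *
          ((p ^ f) ^ 3 * ((p ^ f) ^ 6 - 1)) := by ring
      _ = _ := by rw [← h1']; ring
  · by_cases hp2 : p = 2
    · rw [if_pos hp2] at hidx
      have hg1 : Nat.gcd 2 ((p ^ f) ^ 3 - 1) = 1 := by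
        rw [hp2]
        exact Nat.coprime_two_left.2 (odd_pow_sub_one hf (by norm_num))
      rw [hg1] at hc2
      have h3 := Nat.le_of_dvd (by norm_num) (hc2 hp2)
      calc c * (f * 3) * (Inn (POmega F (quadFormPlus 4 F))).index ≤ 6 * 1 * (f * 3) * (6 * f) :=
            Nat.mul_le_mul (Nat.mul_le_mul_right _ h3) hidx
        _ = 108 * f ^ 2 := by ring
        _ < 512 ^ f := sq_lt_pow (by norm_num) (by norm_num) hf
        _ = p ^ (f * 9) := by rw [hp2, mul_comm, pow_mul]; norm_num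
    · rw [if_neg hp2] at hidx
      have h3 : c ≤ 48 := (Nat.le_of_dvd (by rw [hj]; positivity) hcd).trans (by omega)
      have hp3 : 3 ≤ p := by have := hp.two_le; omega
      calc c * (f * 3) * (Inn (POmega F (quadFormPlus 4 F))).index ≤ 48 * (f * 3) * (24 * f) :=
            Nat.mul_le_mul (Nat.mul_le_mul_right _ h3) hidx
        _ = 3456 * f ^ 2 := by ring
        _ < 19683 ^ f := sq_lt_pow (by norm_num) (by norm_num) hf
        _ = 3 ^ (f * 9) := by rw [mul_comm, pow_mul]; norm_num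
        _ ≤ p ^ (f * 9) := Nat.pow_le_pow_left hp3 _
  · intro r hr h5 hrf hd
    rw [hi] at hd
    rcases hr.dvd_mul.1 hd with h | h
    · exact not_dvd_two_pow hr h5 h
    · rcases hr.dvd_mul.1 h with h | h
      · rw [hj] at hcd
        exact not_dvd_twentyfour hr h5 hcd h
      · rcases hr.dvd_mul.1 h with h | h
        · exact hrf h
        · have := Nat.le_of_dvd (by norm_num) h
          omega

/-- **`Sz(8)` in `PΩ⁺_8(4)`** -/
theorem dead_plus_sz {T : Type} [Group T] [Finite T] [IsSimpleGroup T] (hnaT : ¬ ∀ x y : T, x * y = y * x)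
    {M : Subgroup T} (hT : IsNamed (.oplus 4 4) T) (h : AS (.sz 8) M) : Dead T M := by
  obtain ⟨S, hSn, hSs, hna, hC, hS⟩ := h
  have h1 : Nat.card (Cfsg.Out T) ≤ 24 * 1 * 2 := by
    refine H349.BG.out_le hnaT Nat.prime_two hT ⟨2, by norm_num⟩ (fun X f h => ?_) one_ne_zero (by rfl)
    rw [H349.BG.dd_oplus h]; norm_num
  have h3 : Nat.card T = 67010895544320000 := by
    rw [hT.ord]; decide +kernel
  have h4 : Nat.card S = 29120 := by
    rw [hS.ord]; decide +kernel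
  obtain ⟨c, haut, hcd, -⟩ := aut_gen (d := 1) (e := 3) hna Nat.prime_two hS ⟨3, by norm_num⟩
    (fun X g h => dd_sz h) (by rfl)
  have hcle := Nat.le_of_dvd (by norm_num) hcd
  have h5 := dvd_aut S hC
  rw [haut, h4] at h5
  have hc0 : 0 < c := Nat.pos_of_dvd_of_pos hcd (by norm_num)
  have h6 : Nat.card M ≤ 24 * 1 * 3 * 29120 :=
    (Nat.le_of_dvd (by positivity) h5).trans (Nat.mul_le_mul_right _ (Nat.mul_le_mul_right _ hcle))
  refine dead_of_index (center_eq_bot hnaT) ?_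
  have h7 := M.card_mul_index
  rw [h3] at h7
  have h8 : 30000000000 ≤ M.index := by
    by_contra hcon
    have h9 : Nat.card M * M.index ≤ (24 * 1 * 3 * 29120) * 29999999999 := Nat.mul_le_mul h6 (by omega)
    omega
  rw [h3]
  have h10 : (H57.BG.Inn T).index ≤ 48 := h1
  calc 67010895544320000 * (H57.BG.Inn T).index ≤ 67010895544320000 * 48 := Nat.mul_le_mul_left _ h10
    _ < 30000000000 ^ 2 := by norm_num
    _ ≤ M.index ^ 2 := Nat.pow_le_pow_left h8 2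

end main

end Cfsg.Agent.H57.BG
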