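import Cfsg.Agent.H893.Fac

/-!
# The structure of `G_ω ∩ N` (S3561, helper57)

`Fac.scott'` : the two cases of `Fac.scott` with more information in the diagonal case.
-/

set_option autoImplicit false

namespace Cfsg.Agent.H57.BG

open Subgroup Cfsg.Agent.Lib.MinNormal Cfsg.Agent.H893 Cfsg.Agent.H893.Fac
open Cfsg.Agent.PermutationGroups
open Cfsg.Agent.PermutationGroups.Subdirect

variable {G : Type*} [Group G] {N : Subgroup G} {m : ℕ} {T : Fin m → Subgroup G} {e : N ≃* (∀ i, T i)}

/-- `K ∩ N` is a product of full diagonal subgroups over the classes of `c` -/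
structure Diag (h : Fac N m T e) (K : Subgroup G) (c : Fin m → Fin m) (φ : ∀ i, T (c i) ≃* T i) : Prop where
  idem : ∀ i, c (c i) = c i
  ne : ∀ i, ∃ j, j ≠ i ∧ c j = c i
  mem : ∀ n : N, (n : G) ∈ K ↔ ∀ i, e n i = φ i (e n (c i))
  rel : ∀ i j, c i = c j ↔ ∀ n : N, (n : G) ∈ K → e n j = 1 → e n i = 1
  inv : ∀ k ∈ K, ∀ i j, c i = c j → c (h.perm k i) = c (h.perm k j)
  full : ∀ i (t : T i), ∃ n : N, (n : G) ∈ K ∧ e n i = t

theorem scott' [Finite G] [N.Normal] (h : Fac N m T e) (K : Subgroup G)
    (hKN : ∀ g : G, ∃ n ∈ N, g * n ∈ K) (hNK : ¬ N ≤ K)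
    (hmax : ∀ X ≤ N, K ⊓ N ≤ X → K ≤ normalizer (X : Set G) → X = K ⊓ N ∨ X = N) :
    (∀ n : N, (n : G) ∈ K ↔ ∀ i, ((e n i : T i) : G) ∈ K) ∨
    (∃ (c : Fin m → Fin m) (φ : ∀ i, T (c i) ≃* T i), Diag h K c φ) := by
  classical
  have hsimple := h.simple
  have hTna := h.nonab
  have htransK : ∀ i j, ∃ k ∈ K, T j = (T i).map (MulAut.conj k).toMonoidHom := by
    intro i j
    obtain ⟨g, hg⟩ := h.trans i j
    obtain ⟨n, hn, hgn⟩ := hKN g
    refine ⟨g * n, hgn, ?_⟩
    have h1 : (T i).map (MulAut.conj n).toMonoidHom = T i :=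
      mem_normalizer_iff_map_conj_eq.mp (h.norm i hn)
    rw [← map_conj_map_conj, h1, hg]
  let M : Subgroup (∀ i, T i) := K.comap (N.subtype.comp e.symm.toMonoidHom)
  have hM : ∀ y, y ∈ M ↔ ((e.symm y : N) : G) ∈ K := fun y => Iff.rfl
  have hM' : ∀ n : N, e n ∈ M ↔ (n : G) ∈ K := by
    intro n
    rw [hM, MulEquiv.symm_apply_apply]
  have hcjM : ∀ k ∈ K, ∀ n : N, (n : G) ∈ K → ((cj N k n : N) : G) ∈ K := fun k hk n hn =>
    K.mul_mem (K.mul_mem hk hn) (K.inv_mem hk)
  by_cases hsurj : ∀ i, ∀ t : T i, ∃ x ∈ M, x i = t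
  · right
    obtain ⟨c, φ, hcc, hcrel, hφ, hMc⟩ := subdirect_structure hTna M hsurj
    have hcK : ∀ k ∈ K, ∀ i j i' j', T i' = (T i).map (MulAut.conj k).toMonoidHom →
        T j' = (T j).map (MulAut.conj k).toMonoidHom → c i = c j → c i' = c j' := by
      intro k hk i j i' j' hi' hj' hij
      rw [hcrel] at hij ⊢
      intro x hx hxj'
      have hx1 : ((e.symm x : N) : G) ∈ K := hx
      have hx2 : e (cj N k⁻¹ (e.symm x)) ∈ M := by
        rw [hM']
        exact hcjM _ (K.inv_mem hk) _ hx1
      have h1 : e (cj N k⁻¹ (e.symm x)) j = 1 := by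
        rw [← h.cj_eq_one k j j' hj', cj_cj, MulEquiv.apply_symm_apply]
        exact hxj'
      have h2 := hij _ hx2 h1
      rw [← h.cj_eq_one k i i' hi', cj_cj, MulEquiv.apply_symm_apply] at h2
      exact h2
    refine ⟨c, φ, hcc, ?_, fun n => ?_, fun i j => ?_, fun k hk i j hij =>
      hcK k hk i j _ _ (h.perm_spec k i) (h.perm_spec k j) hij, fun i t => ?_⟩
    · by_contra hcon
      push Not at hcon
      obtain ⟨i₀, hi₀⟩ := hcon
      have hinj : Function.Injective c := by
        intro a b hab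
        by_contra hne
        obtain ⟨k, hk, hka⟩ := htransK b i₀
        choose σ hσ using h.conj k
        have hσb : σ b = i₀ := h.inj (by rw [hσ b, hka])
        have h1 : c (σ a) = c (σ b) := hcK k hk a b (σ a) (σ b) (hσ a) (hσ b) hab
        rw [hσb] at h1
        refine hi₀ (σ a) ?_ h1
        intro h2
        apply hne
        apply h.inj
        have h3 := hσ a
        rw [h2, ← hσb, hσ b] at h3
        exact (Subgroup.map_injective (MulAut.conj k).injective h3).symm
      apply hNK
      have hall : ∀ y, y ∈ M := by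
        intro y
        obtain ⟨x, hx, hxy⟩ := exists_mem_eq_on hTna M hsurj Set.univ (by
          intro r _ s _ hne
          by_contra hcon
          push Not at hcon
          exact hne (hinj ((hcrel r s).mpr hcon))) y
        have : x = y := funext fun i => hxy i (Set.mem_univ i)
        exact this ▸ hx
      intro n hn
      have := hall (e ⟨n, hn⟩)
      rwa [hM'] at this
    · rw [← hM' n, hMc]
    · rw [hcrel]
      constructor
      · intro h1 n hn hj
        exact h1 (e n) ((hM' n).2 hn) hj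
      · intro h1 x hx hj
        have h2 := h1 (e.symm x) hx (by rw [MulEquiv.apply_symm_apply]; exact hj)
        rwa [MulEquiv.apply_symm_apply] at h2
    · obtain ⟨x, hx, hxt⟩ := hsurj i t
      exact ⟨e.symm x, hx, by rw [MulEquiv.apply_symm_apply]; exact hxt⟩
  · left
    push Not at hsurj
    obtain ⟨i₀, t₀, ht₀⟩ := hsurj
    let P : ∀ i, Subgroup (T i) := fun i => M.map (Pi.evalMonoidHom _ i)
    have hP : ∀ i t, t ∈ P i ↔ ∃ x ∈ M, x i = t := fun i t => Iff.rfl
    -- transfer of membership by conjugation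
    have hPK : ∀ k ∈ K, ∀ i j, T j = (T i).map (MulAut.conj k).toMonoidHom →
        ∀ n : N, e n i ∈ P i → e (cj N k n) j ∈ P j := by
      intro k hk i j hij n hn
      obtain ⟨x, hx, hxi⟩ := hn
      refine ⟨e (cj N k (e.symm x)), ?_, ?_⟩
      · change e (cj N k (e.symm x)) ∈ M
        rw [hM']
        exact hcjM k hk _ hx
      · change e (cj N k (e.symm x)) j = e (cj N k n) j
        rw [h.cj_eq_cj k i j hij, MulEquiv.apply_symm_apply]
        exact hxi
    have hPtop : ∀ i, P i ≠ ⊤ := by
      intro i hi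
      obtain ⟨k, hk, hkij⟩ := htransK i i₀
      have h1 := hPK k hk i i₀ hkij (cj N k⁻¹ (e.symm (Pi.mulSingle i₀ t₀)))
        (by rw [hi]; exact mem_top _)
      rw [cj_cj, MulEquiv.apply_symm_apply, Pi.mulSingle_eq_same] at h1
      obtain ⟨x, hx, hxt⟩ := h1
      exact ht₀ x hx hxt
    -- the product of the projections
    let X' : Subgroup N :=
      { carrier := {n | ∀ i, e n i ∈ P i}
        one_mem' := fun i => by rw [map_one]; exact (P i).one_mem
        mul_mem' := fun {a b} ha hb i => by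
          rw [map_mul]; exact (P i).mul_mem (ha i) (hb i)
        inv_mem' := fun {a} ha i => by rw [map_inv]; exact (P i).inv_mem (ha i) }
    have hX'mem : ∀ n, n ∈ X' ↔ ∀ i, e n i ∈ P i := fun n => Iff.rfl
    let X : Subgroup G := X'.map N.subtype
    have hXmem : ∀ n : N, (n : G) ∈ X ↔ ∀ i, e n i ∈ P i := by
      intro n
      rw [← hX'mem]
      constructor
      · rintro ⟨y, hy, hyn⟩
        have : y = n := Subtype.ext hyn
        exact this ▸ hy
      · intro h
        exact ⟨n, h, rfl⟩
    have hXN : X ≤ N := map_subtype_le X'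
    have hKX : K ⊓ N ≤ X := by
      intro x hx
      have h1 : ((⟨x, hx.2⟩ : N) : G) ∈ X := by
        rw [hXmem]
        intro i
        exact ⟨e ⟨x, hx.2⟩, (hM' _).mpr hx.1, rfl⟩
      exact h1
    have hKnX : K ≤ normalizer (X : Set G) := by
      rw [le_normalizer_iff]
      intro k hk x hx
      have hxN : x ∈ N := hXN hx
      have h1 : ∀ i, e ⟨x, hxN⟩ i ∈ P i := (hXmem ⟨x, hxN⟩).mp hx
      have h2 : ((cj N k ⟨x, hxN⟩ : N) : G) ∈ X := by
        rw [hXmem]
        intro j
        obtain ⟨i, hi⟩ := h.conj k⁻¹ j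
        have hij : T j = (T i).map (MulAut.conj k).toMonoidHom := by
          rw [hi, map_conj_map_conj, mul_inv_cancel, map_conj_one]
        exact hPK k hk i j hij _ (h1 i)
      exact h2
    have hXK : X = K ⊓ N := by
      rcases hmax X hXN hKX hKnX with h | h
      · exact h
      · exfalso
        apply hPtop i₀
        rw [eq_top_iff]
        intro t _
        have h1 : ((e.symm (Pi.mulSingle i₀ t) : N) : G) ∈ X := by
          rw [h]; exact (e.symm (Pi.mulSingle i₀ t) : N).2
        rw [hXmem] at h1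
        have h2 := h1 i₀
        rwa [MulEquiv.apply_symm_apply, Pi.mulSingle_eq_same] at h2
    have hmem : ∀ n : N, (n : G) ∈ K ↔ ∀ i, e n i ∈ P i := by
      intro n
      rw [← hXmem, hXK]
      exact ⟨fun h => ⟨h, n.2⟩, fun h => h.1⟩
    have hPi : ∀ i (t : T i), t ∈ P i ↔ (t : G) ∈ K := by
      intro i t
      have h1 := hmem (e.symm (Pi.mulSingle i t))
      rw [h.single, MulEquiv.apply_symm_apply] at h1
      rw [h1]
      constructor
      · intro ht j
        by_cases hj : j = i
        · subst hj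
          rw [Pi.mulSingle_eq_same]; exact ht
        · rw [Pi.mulSingle_eq_of_ne hj]; exact (P j).one_mem
      · intro ht
        have := ht i
        rwa [Pi.mulSingle_eq_same] at this
    intro n
    rw [hmem]
    exact forall_congr' fun i => hPi i _

end Cfsg.Agent.H57.BG
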