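import Cfsg.Agent.H57.BG.Main
import Cfsg.Agent.H57.BG.Out
import Cfsg.Agent.H349.BG.Cartesian
import Cfsg.Agent.H823.BG.Diag
import Cfsg.Agent.H823.BG.Ito

/-!
# S3561 from the rows of the simple groups in `Type` (helper57)
-/

set_option autoImplicit false

namespace Cfsg.Agent.H57.BG

open Cfsg Subgroup

universe u v w

theorem cartesianSt : CartesianSt.{u, w} := by
  intro G Ω _ _ _ _ _ N _ m T e h ω h1 c h2 h3 h4 h5 h6 h7 R h8 h9 h10
  exact H349.BG.cartesian h h1 c h2 h3 h4 h5 h6 h7 R h8 h9 h10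

theorem diagonalSt : DiagonalSt.{u, w} := by
  intro G Ω _ _ _ _ _ N _ m T e h ω h1 hm c φ h2 h3 h4 R h5 h6 h7
  exact H823.BG.diagonal h h1 hm c φ h2 h3 h4 R h5 h6 h7

theorem regularSt : RegularSt.{u, w} := by
  intro G Ω _ _ _ _ _ N _ hs hna ω h1 h2 R h3 h4 h5
  exact H823.BG.regular hs hna h1 h2 R h3 h4 h5

theorem row_up (h : ∀ (X : Type) [Group X] [Finite X] [IsSimpleGroup X], (¬ ∀ a b : X, a * b = b * a) → Row X)
    (X : Type u) [Group X] [Finite X] [IsSimpleGroup X] (hna : ∃ a b : X, a * b ≠ b * a) : Row X := by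
  let e : Shrink.{0} X ≃* X := Shrink.mulEquiv
  have : Finite (Shrink.{0} X) := Finite.of_equiv X e.symm.toEquiv
  have : IsSimpleGroup (Shrink.{0} X) := e.isSimpleGroup
  refine Row.congr e.symm (h (Shrink.{0} X) fun hc => ?_)
  obtain ⟨a, b, hab⟩ := hna
  apply hab
  apply e.symm.injective
  rw [map_mul, map_mul, hc]

/-- **S3561 from the rows.** -/
theorem of_rows
    (hOut : ∀ (X : Type u) [Group X] [Finite X] [IsSimpleGroup X], (∃ a b : X, a * b ≠ b * a) →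
      60 ≤ Nat.card X ∧ ∀ H : Subgroup X, H ≠ ⊤ → 2 ^ Nat.card (Cfsg.Out X) ≤ H.index ^ 3)
    (hrow : ∀ (X : Type) [Group X] [Finite X] [IsSimpleGroup X], (¬ ∀ a b : X, a * b = b * a) → Row X)
    {K : Type v} [CommGroup K] [Finite K] (hK2 : 2 ≤ Nat.card K) (hK : ¬ IsPrimePow (Nat.card K))
    (hnf : ¬ ∃ (m r : ℕ) (f : Fin r → Subgroup K), 3 ≤ m ∧ 2 ≤ r ∧ iSupIndep f ∧ (⨆ i, f i) = ⊤ ∧
      ∀ i, Nat.card ↥(f i) = m)
    {G : Type u} {Ω : Type w} [Group G] [Finite G] [MulAction G Ω] [FaithfulSMul G Ω] [Finite Ω]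
    (R : Subgroup G) (eR : ↥R ≃* K)
    (hR : MulAction.IsPretransitive ↥R Ω ∧ ∀ a : Ω, MulAction.stabilizer ↥R a = ⊥) :
    ¬ MulAction.IsPreprimitive G Ω ∨ MulAction.IsMultiplyPretransitive G Ω 2 :=
  main cartesianSt diagonalSt regularSt
    (fun X _ _ _ hna => four_mul_lt hna (hOut X hna).1 (hOut X hna).2)
    (fun X _ _ _ hna => row_up hrow X hna) hK2 hK hnf R eR hR

end Cfsg.Agent.H57.BG
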