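import Cfsg.Agent.H884.CgLin
import Cfsg.Agent.H57.BG.Kill

/-!
# Centralizers of `C_r × C_r` in linear groups of dimension at most `2 e + 1` (S3561, helper57)

* `eq_one_of_comm` : `x`, `y` commuting operators of order `r` generating `C_r × C_r` on a space of dimension at most
  `2 e + 1` in characteristic `p`, `e ≥ 2` the least dimension of a fixed point free operator of order `r`: an operator
  `z` with `z ^ p = 1` commuting with `x` and `y` is `1`;
* `not_dvd_cent_of` : the same in `T`, `G → T` surjective with central kernel of order prime to `r p`;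
* `Reg.false_of_pair` : `r ∣ |T : L|`, `r ∤ |Out T|`, `p ^ k ∣ |T : L|`, `p ^ k ∤ |Out T|` is then impossible.
-/

set_option autoImplicit false

namespace Cfsg.Agent.H57.BG

open Module Cfsg.Agent.H951 Cfsg.Agent.H884.Cg

section Lin

variable {F : Type*} [Field F] {V : Type*} [AddCommGroup V] [Module F V] {x y z w : Module.End F V} {r p e : ℕ}

/-- an operator of order `p` has fixed vectors in characteristic `p` -/
theorem inf_fx_ne_bot [hp : Fact p.Prime] [CharP F p] (hz : z ^ p = 1) {W : Submodule F V} (hW : Inv z W) (h0 : W ≠ ⊥) :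
    W ⊓ fx z ≠ ⊥ := by
  intro h
  apply h0
  rw [eq_bot_iff]
  intro v hv
  rw [Submodule.mem_bot]
  have hsub : ∀ u ∈ W, (z - 1) u ∈ W := fun u hu => by
    rw [LinearMap.sub_apply, Module.End.one_apply]
    exact W.sub_mem (hW u hu) hu
  have hinj : ∀ u ∈ W, (z - 1) u = 0 → u = 0 := by
    intro u hu h1
    have h2 : u ∈ W ⊓ fx z := ⟨hu, LinearMap.mem_ker.2 h1⟩
    rwa [h, Submodule.mem_bot] at h2
  have hpow : ∀ k : ℕ, ((z - 1) ^ k) v = 0 → v = 0 := by
    intro k
    induction k with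
    | zero => intro h1; simpa using h1
    | succ k ih =>
      intro h1
      apply ih
      rw [pow_succ', Module.End.mul_apply] at h1
      refine hinj _ ?_ h1
      clear h1 ih
      induction k with
      | zero => simpa using hv
      | succ k ih =>
        rw [pow_succ', Module.End.mul_apply]
        exact hsub _ ih
  apply hpow p
  by_cases hnt : Subsingleton V
  · exact Subsingleton.elim _ _
  · haveI : Nontrivial V := not_subsingleton_iff_nontrivial.1 hnt
    have : CharP (Module.End F V) p := charP_of_injective_algebraMap (algebraMap F (Module.End F V)).injective p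
    rw [sub_pow_char_of_commute (p := p) (Commute.one_right z), hz, one_pow, sub_self, LinearMap.zero_apply]

/-- **Step 0** -/
theorem le_fx_of_small [FiniteDimensional F V] [Fact p.Prime] [CharP F p] (hz : z ^ p = 1) (hzw : Commute z w)
    (hU : ∀ U : Submodule F V, Inv w U → U ⊓ fx w = ⊥ → U ≠ ⊥ → e ≤ finrank F U) {W : Submodule F V}
    (hWw : Inv w W) (hWz : Inv z W) (hW0 : W ≠ ⊥) (hWf : W ⊓ fx w = ⊥) (hWe : finrank F W < 2 * e) : W ≤ fx z := by
  -- the fixed space
  set Y := W ⊓ fx z with hY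
  have hYw : Inv w Y := hWw.inf (inv_fx_of_commute hzw.symm)
  have hYf : Y ⊓ fx w = ⊥ := by
    rw [eq_bot_iff, ← hWf]
    exact inf_le_inf_right _ inf_le_left
  have hYe : e ≤ finrank F Y := hU Y hYw hYf (inf_fx_ne_bot hz hWz hW0)
  -- the image of `z - 1`
  set D := W.map (z - 1) with hD
  have hDW : D ≤ W := by
    rintro _ ⟨u, hu, rfl⟩
    rw [LinearMap.sub_apply, Module.End.one_apply]
    exact W.sub_mem (hWz u hu) hu
  have hDw : Inv w D := by
    rintro _ ⟨u, hu, rfl⟩
    refine ⟨w u, hWw u hu, ?_⟩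
    rw [LinearMap.sub_apply, Module.End.one_apply, LinearMap.sub_apply, Module.End.one_apply, map_sub]
    have : z (w u) = w (z u) := LinearMap.congr_fun hzw.eq u
    rw [this]
  have hDf : D ⊓ fx w = ⊥ := by
    rw [eq_bot_iff, ← hWf]
    exact inf_le_inf_right _ hDW
  have hrank : finrank F D + finrank F Y = finrank F W := by
    have h1 := ((z - 1).domRestrict W).finrank_range_add_finrank_ker
    have h2 : LinearMap.range ((z - 1).domRestrict W) = D := by
      rw [LinearMap.range_domRestrict]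
    have h3 : finrank F (LinearMap.ker ((z - 1).domRestrict W)) = finrank F Y := by
      have h4 : LinearMap.ker ((z - 1).domRestrict W) = Y.comap W.subtype := by
        ext u
        rw [LinearMap.mem_ker, LinearMap.domRestrict_apply, Submodule.mem_comap, hY]
        constructor
        · intro h
          exact ⟨u.2, LinearMap.mem_ker.2 h⟩
        · rintro ⟨-, h⟩
          exact LinearMap.mem_ker.1 h
      rw [h4]
      exact (Submodule.comapSubtypeEquivOfLe (inf_le_left : Y ≤ W)).finrank_eq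
    rw [h2, h3] at h1
    exact h1
  have hD0 : D = ⊥ := by
    by_contra hne
    have := hU D hDw hDf hne
    omega
  intro u hu
  have h1 : (z - 1) u ∈ D := ⟨u, hu, rfl⟩
  rw [hD0, Submodule.mem_bot] at h1
  exact LinearMap.mem_ker.2 h1

theorem eq_one_of_comm [FiniteDimensional F V] [Fact p.Prime] [CharP F p] (hr : r.Prime) (h0 : (r : F) ≠ 0)
    (hx : x ^ r = 1) (hy : y ^ r = 1) (hxy : Commute x y) (he : 2 ≤ e) (hV : finrank F V ≤ 2 * e + 1)
    (hU : ∀ i j : ℕ, ∀ U : Submodule F V, Inv (x ^ i * y ^ j) U → U ⊓ fx (x ^ i * y ^ j) = ⊥ → U ≠ ⊥ →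
      e ≤ finrank F U)
    (hy1 : y ≠ 1) (hxy1 : ∀ i : ℕ, x * y ^ i ≠ 1) (hz : z ^ p = 1) (hzx : Commute z x) (hzy : Commute z y) :
    z = 1 := by
  have hcy : cm y ≠ ⊥ := by
    intro h
    apply hy1
    exact sub_eq_zero.1 (LinearMap.range_eq_bot.1 h)
  have hcfy : cm y ⊓ fx y = ⊥ := by
    rw [inf_comm]; exact (isCompl_fx_cm h0 hy).inf_eq_bot
  obtain ⟨i, -, hi⟩ := exists_fixed hr h0 hx hy hxy (inv_cm_of_commute hxy) inv_cm hcy hcfy
  set w := x * y ^ i with hw
  have hcxi : Commute x (y ^ i) := hxy.pow_right i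
  have hw1 : w ≠ 1 := hxy1 i
  have hwr : w ^ r = 1 := by
    rw [hw, hcxi.mul_pow, hx, ← pow_mul, mul_comm i r, pow_mul, hy, one_pow, one_mul]
  have hwy : Commute w y := hxy.mul_left (Commute.refl y |>.pow_left i)
  have hzw : Commute z w := hzx.mul_right (hzy.pow_right i)
  have hUy : ∀ U : Submodule F V, Inv y U → U ⊓ fx y = ⊥ → U ≠ ⊥ → e ≤ finrank F U := by
    have h1 := hU 0 1
    rw [pow_zero, pow_one, one_mul] at h1
    exact h1
  have hUw : ∀ U : Submodule F V, Inv w U → U ⊓ fx w = ⊥ → U ≠ ⊥ → e ≤ finrank F U := by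
    have h1 := hU 1 i
    rw [pow_one] at h1
    exact h1
  -- the three parts
  set U := cm y ⊓ fx w with hUdef
  have hUyi : Inv y U := inv_cm.inf (inv_fx_of_commute hwy.symm)
  have hUzi : Inv z U := (inv_cm_of_commute hzy).inf (inv_fx_of_commute hzw)
  have hUf : U ⊓ fx y = ⊥ := by
    rw [eq_bot_iff, ← hcfy]
    exact inf_le_inf_right _ inf_le_left
  have hUe : e ≤ finrank F U := hUy U hUyi hUf hi
  have hcw : cm w ≠ ⊥ := by
    intro h
    apply hw1
    exact sub_eq_zero.1 (LinearMap.range_eq_bot.1 h)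
  have hcfw : cm w ⊓ fx w = ⊥ := by
    rw [inf_comm]; exact (isCompl_fx_cm h0 hwr).inf_eq_bot
  have hcwe : e ≤ finrank F (cm w) := hUw _ inv_cm hcfw hcw
  have hdim : finrank F (cm w) + finrank F (fx w) = finrank F V := by
    have h1 := Submodule.finrank_add_eq_of_isCompl (isCompl_fx_cm h0 hwr)
    omega
  set C := fx w ⊓ fx y with hC
  have hfw : finrank F U + finrank F C = finrank F (fx w) := by
    have h1 : U ⊓ C = ⊥ := by
      rw [eq_bot_iff, ← hcfy]
      rintro v ⟨⟨hv1, -⟩, -, hv2⟩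
      exact ⟨hv1, hv2⟩
    have h2 := finrank_sup_of_disj h1
    have h3 : U ⊔ C = fx w := by
      apply le_antisymm (sup_le inf_le_right inf_le_left)
      intro v hv
      have h4 : v ∈ fx y ⊔ cm y := by rw [(isCompl_fx_cm h0 hy).sup_eq_top]; trivial
      obtain ⟨a, ha, b, hb, rfl⟩ := Submodule.mem_sup.1 h4
      have h5 : w a ∈ fx y := inv_fx_of_commute hwy a ha
      have h6 : w b ∈ cm y := inv_cm_of_commute hwy b hb
      have h7 : w a + w b = a + b := by
        rw [← map_add]
        exact mem_fx.1 hv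
      have h8 : w a - a = b - w b := by
        rw [sub_eq_sub_iff_add_eq_add, h7]
        abel
      have h9 : w a - a ∈ cm y ⊓ fx y := ⟨by rw [h8]; exact (cm y).sub_mem hb h6, (fx y).sub_mem h5 ha⟩
      rw [hcfy, Submodule.mem_bot] at h9
      have h10 : b - w b = 0 := by rw [← h8, h9]
      rw [add_comm]
      refine Submodule.add_mem_sup ⟨hb, mem_fx.2 (sub_eq_zero.1 h10).symm⟩ ⟨mem_fx.2 (sub_eq_zero.1 h9), ha⟩
    rw [h3] at h2
    omega
  have hz1 : cm w ≤ fx z := le_fx_of_small hz hzw hUw inv_cm (inv_cm_of_commute hzw) hcw hcfw (by omega)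
  have hz2 : U ≤ fx z := le_fx_of_small hz hzy hUy hUyi hUzi hi hUf (by omega)
  have hz3 : C ≤ fx z := by
    by_cases hC0 : C = ⊥
    · rw [hC0]; exact bot_le
    · have h1 : Inv z C := (inv_fx_of_commute hzw).inf (inv_fx_of_commute hzy)
      have h2 := inf_fx_ne_bot hz h1 hC0
      have h3 : 0 < finrank F ↥(C ⊓ fx z) := by
        rw [Module.finrank_pos_iff]
        exact Submodule.nontrivial_iff_ne_bot.2 h2
      have h4 : C ⊓ fx z = C := Submodule.eq_of_le_of_finrank_le inf_le_left (by omega)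
      rw [← h4]
      exact inf_le_right
  have hz4 : fx z = ⊤ := by
    rw [eq_top_iff]
    intro v _
    have h1 : v ∈ fx w ⊔ cm w := by rw [(isCompl_fx_cm h0 hwr).sup_eq_top]; trivial
    obtain ⟨a, ha, b, hb, rfl⟩ := Submodule.mem_sup.1 h1
    refine (fx z).add_mem ?_ (hz1 hb)
    have h4 : a ∈ fx y ⊔ cm y := by rw [(isCompl_fx_cm h0 hy).sup_eq_top]; trivial
    obtain ⟨c, hc, d, hd, rfl⟩ := Submodule.mem_sup.1 h4
    have h5 : w c ∈ fx y := inv_fx_of_commute hwy c hc
    have h6 : w d ∈ cm y := inv_cm_of_commute hwy d hd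
    have h7 : w c + w d = c + d := by
      rw [← map_add]
      exact mem_fx.1 ha
    have h8 : w c - c = d - w d := by
      rw [sub_eq_sub_iff_add_eq_add, h7]
      abel
    have h9 : w c - c ∈ cm y ⊓ fx y := ⟨by rw [h8]; exact (cm y).sub_mem hd h6, (fx y).sub_mem h5 hc⟩
    rw [hcfy, Submodule.mem_bot] at h9
    have h10 : d - w d = 0 := by rw [← h8, h9]
    exact (fx z).add_mem (hz3 ⟨mem_fx.2 (sub_eq_zero.1 h9), hc⟩)
      (hz2 ⟨hd, mem_fx.2 (sub_eq_zero.1 h10).symm⟩)
  ext v
  have h1 : v ∈ fx z := by rw [hz4]; trivial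
  rw [mem_fx.1 h1, Module.End.one_apply]

end Lin

section Grp

open Subgroup

variable {T G : Type*} [Group T] [Group G] [Finite G]

omit [Finite G] in
/-- elements of coprime orders whose images commute -/
theorem comm_of_lift {a b : ℕ} (π : G →* T) (hK : π.ker ≤ Subgroup.center G) {g h : G} (hg : g ^ a = 1)
    (hh : h ^ b = 1) (hab : ∀ k : G, k ∈ π.ker → k ^ a = 1 → k ^ b = 1 → k = 1) (hc : π g * π h = π h * π g) :
    g * h = h * g := by
  have h3 : g * h * g⁻¹ * h⁻¹ ∈ π.ker := by
    rw [MonoidHom.mem_ker, map_mul, map_mul, map_mul, map_inv, map_inv, hc]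
    group
  have hcen := Subgroup.mem_center_iff.1 (hK h3)
  set c := g * h * g⁻¹ * h⁻¹ with hcdef
  have h4 : g * h * g⁻¹ = c * h := by rw [hcdef]; group
  have h5 : (g * h * g⁻¹) ^ b = 1 := by rw [conj_pow, hh, mul_one, mul_inv_cancel]
  have h6 : c ^ b = 1 := by
    have hc' : Commute c h := (hcen h).symm
    rw [h4, hc'.mul_pow, hh, mul_one] at h5
    exact h5
  have h7 : h * g * h⁻¹ = c⁻¹ * g := by
    rw [hcdef]; group
  have h8 : (h * g * h⁻¹) ^ a = 1 := by rw [conj_pow, hg, mul_one, mul_inv_cancel]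
  have h9 : c ^ a = 1 := by
    have hc' : Commute c⁻¹ g := (show Commute c g from (hcen g).symm).inv_left
    rw [h7, hc'.mul_pow, hg, mul_one, inv_pow, inv_eq_one] at h8
    exact h8
  have h10 := hab c h3 h9 h6
  rw [hcdef, mul_inv_eq_one, mul_inv_eq_iff_eq_mul] at h10
  exact h10

/-- **the centralizer of `C_r × C_r` has order prime to `p`** -/
theorem not_dvd_cent_of {F : Type*} [Field F] {V : Type*} [AddCommGroup V] [Module F V] [FiniteDimensional F V]
    {r p e : ℕ} [hp : Fact p.Prime] [CharP F p]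
    (π : G →* T) (hπ : Function.Surjective π) (hK : π.ker ≤ Subgroup.center G) (hr : r.Prime)
    (h0 : (r : F) ≠ 0) (hrK : ¬ r ∣ Nat.card π.ker) (hpK : ¬ p ∣ Nat.card π.ker)
    (ρ : G →* Module.End F V) (hρ : Function.Injective ρ) (he : 2 ≤ e) (hV : finrank F V ≤ 2 * e + 1)
    (hU : ∀ g : G, g ^ r = 1 → ∀ U : Submodule F V, Inv (ρ g) U → U ⊓ fx (ρ g) = ⊥ → U ≠ ⊥ → e ≤ finrank F U)
    {x y : T} (hx : orderOf x = r) (hy : orderOf y = r) (hxy : x * y = y * x) (hn : y ∉ zpowers x) :
    ¬ p ∣ Nat.card (centralizer ({x, y} : Set T)) := by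
  intro hd
  have hfT : Finite T := Finite.of_surjective π hπ
  obtain ⟨z, hz⟩ := exists_prime_orderOf_dvd_card' (G := centralizer ({x, y} : Set T)) p hd
  have hzo : orderOf (z : T) = p := by rw [Subgroup.orderOf_coe]; exact hz
  have hzc := mem_centralizer_iff.1 z.2
  have hzx : (z : T) * x = x * z := (hzc x (by simp)).symm
  have hzy : (z : T) * y = y * z := (hzc y (by simp)).symm
  have hxr : x ^ r = 1 := hx ▸ pow_orderOf_eq_one x
  have hyr : y ^ r = 1 := hy ▸ pow_orderOf_eq_one y
  have hzp : (z : T) ^ p = 1 := hzo ▸ pow_orderOf_eq_one (z : T)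
  have hrp : r ≠ p := by
    rintro rfl
    exact h0 (CharP.cast_eq_zero F r)
  obtain ⟨a, rfl, har⟩ := H884.Cg.exists_lift π hπ hr hrK hxr
  obtain ⟨b, rfl, hbr⟩ := H884.Cg.exists_lift π hπ hr hrK hyr
  obtain ⟨c, hcz, hcp⟩ := H884.Cg.exists_lift π hπ hp.1 hpK hzp
  have hrr : ∀ k : G, k ∈ π.ker → k ^ r = 1 → k = 1 := by
    intro k hk hkr
    have h7 : (⟨k, hk⟩ : π.ker) = 1 := by
      have h8 : orderOf (⟨k, hk⟩ : π.ker) ∣ r := orderOf_dvd_of_pow_eq_one (Subtype.ext hkr)
      have h9 : orderOf (⟨k, hk⟩ : π.ker) ∣ Nat.card π.ker := orderOf_dvd_natCard _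
      rcases (Nat.dvd_prime hr).1 h8 with h10 | h10
      · exact orderOf_eq_one_iff.1 h10
      · exact absurd (h10 ▸ h9) hrK
    exact congrArg Subtype.val h7
  have hab : a * b = b * a := comm_of_lift π hK har hbr (fun k hk h1 _ => hrr k hk h1) hxy
  have hca : c * a = a * c := comm_of_lift π hK hcp har (fun k hk _ h1 => hrr k hk h1) (by rw [hcz]; exact hzx)
  have hcb : c * b = b * c := comm_of_lift π hK hcp hbr (fun k hk _ h1 => hrr k hk h1) (by rw [hcz]; exact hzy)
  have hρ1 : ∀ g : G, ρ g = 1 → g = 1 := fun g h => hρ (by rw [h, map_one])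
  have hb1 : b ≠ 1 := by
    rintro rfl
    rw [map_one, orderOf_one] at hy
    exact hr.one_lt.ne hy
  have key : ∀ i : ℕ, a * b ^ i ≠ 1 := by
    intro i h3
    apply hn
    have h4 : π a = (π b ^ i)⁻¹ := by
      rw [eq_inv_iff_mul_eq_one, ← map_pow, ← map_mul, h3, map_one]
    have h5 : Subgroup.zpowers (π a) ≤ Subgroup.zpowers (π b) := by
      rw [Subgroup.zpowers_le, h4]
      exact inv_mem (Subgroup.npow_mem_zpowers _ _)
    have h6 : Subgroup.zpowers (π a) = Subgroup.zpowers (π b) :=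
      Subgroup.eq_of_le_of_card_ge h5 (by rw [Nat.card_zpowers, Nat.card_zpowers, hx, hy])
    rw [h6]
    exact Subgroup.mem_zpowers _
  have hc1 : ρ c = 1 := by
    refine eq_one_of_comm (x := ρ a) (y := ρ b) (z := ρ c) (r := r) (p := p) (e := e) hr h0
      (by rw [← map_pow, har, map_one]) (by rw [← map_pow, hbr, map_one])
      (show ρ a * ρ b = ρ b * ρ a by rw [← map_mul, ← map_mul, hab]) he hV ?_ ?_ ?_
      (by rw [← map_pow, hcp, map_one]) (show ρ c * ρ a = ρ a * ρ c by rw [← map_mul, ← map_mul, hca])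
      (show ρ c * ρ b = ρ b * ρ c by rw [← map_mul, ← map_mul, hcb])
    · intro i j
      rw [← map_pow, ← map_pow, ← map_mul]
      apply hU
      have hc : Commute (a ^ i) (b ^ j) := (show Commute a b from hab).pow_pow i j
      rw [hc.mul_pow, ← pow_mul, ← pow_mul, mul_comm i, mul_comm j, pow_mul, pow_mul, har, hbr, one_pow, one_pow,
        one_mul]
    · intro h
      exact hb1 (hρ1 b h)
    · intro i h
      rw [← map_pow, ← map_mul] at h
      exact key i (hρ1 _ h)
  have hc2 : c = 1 := hρ1 c hc1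
  rw [hc2, map_one] at hcz
  rw [← hcz, orderOf_one] at hzo
  exact hp.1.one_lt.ne hzo

/-- **the kill** -/
theorem Reg.false_of_pair {T : Type*} [Group T] [Finite T] {A : Subgroup (MulAut T)} {L : Subgroup T} (h : Reg A L)
    (hc : center T = ⊥) {r p k : ℕ} (hr : r.Prime) (hp : p.Prime) (hrn : r ∣ L.index)
    (hrout : ¬ r ∣ (Inn T).index) (hpn : p ^ k ∣ L.index) (hpout : ¬ p ^ k ∣ (Inn T).index)
    (hcent : ∀ x y : T, orderOf x = r → orderOf y = r → x * y = y * x → y ∉ zpowers x →
      ¬ p ∣ Nat.card (centralizer ({x, y} : Set T))) : False := by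
  obtain ⟨x, y, hx, hy, hxo, hyo, hyx⟩ := h.exists_pair hc hr hrn hrout
  obtain ⟨z, hz, hzo⟩ := h.exists_inner hc hp hpn hpout
  apply hcent x y hxo hyo (h.inner_comm hc hx hy) hyx
  have h1 : z ∈ centralizer ({x, y} : Set T) := by
    rw [mem_centralizer_iff]
    intro w hw
    rcases hw with rfl | hw
    · exact h.inner_comm hc hx hz
    · rw [Set.mem_singleton_iff] at hw
      subst hw
      exact h.inner_comm hc hy hz
  rw [← hzo]
  exact Subgroup.orderOf_dvd_natCard _ h1

end Grp

end Cfsg.Agent.H57.BG
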