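import Cfsg.Agent.H57.BG.Gap
import Cfsg.Agent.H57.BG.CD
import Cfsg.Agent.H57.BG.Tor

/-!
# Dead subgroups (S3561, helper57)

`Dead T M` : no regular pair `(A, L)` with `L ≤ M`.
-/

set_option autoImplicit false

namespace Cfsg.Agent.H57.BG

open Subgroup Cfsg.Agent.H899.CG

universe u v

variable {T : Type u} [Group T] {M N : Subgroup T}

/-- no regular pair `(A, L)` with `L ≤ M` -/
def Dead (T : Type u) [Group T] (M : Subgroup T) : Prop :=
  ∀ (A : Subgroup (MulAut T)) (L : Subgroup T), Reg A L → ¬ L ≤ M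

theorem Dead.mono (h : Dead T M) (hN : N ≤ M) : Dead T N := fun A L hr hL => h A L hr (hL.trans hN)

variable [Finite T]

theorem dead_of_iGap (hc : center T = ⊥) (h : IGap T M) : Dead T M := fun _ _ hr hLM => hr.not_iGap hc hLM h

theorem dead_of_cGap (hc : center T = ⊥) (h : CGap T M) : Dead T M := fun _ _ hr hLM => hr.not_cGap hc hLM h

/-- **Row** from the coatoms -/
theorem row_of_dead (h : ∀ M : Subgroup T, IsCoatom M → Dead T M) : Row T := by
  intro A L hr
  obtain ⟨M, hM, hLM⟩ := (eq_top_or_exists_le_coatom L).resolve_left hr.proper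
  exact h M hM A L hr hLM

omit [Finite T] in
theorem row_of_proper (h : ∀ M : Subgroup T, M ≠ ⊤ → Dead T M) : Row T := fun A L hr =>
  h L hr.proper A L hr le_rfl

/-- the order bound -/
theorem dead_of_index [IsSimpleGroup T] (hc : center T = ⊥) (h : Nat.card T * (Inn T).index < M.index ^ 2) : Dead T M := by
  intro A L hr hLM
  have h1 := hr.index_sq_le hc
  have h2 : M.index ≤ L.index := Nat.le_of_dvd (Nat.pos_of_ne_zero (index_ne_zero_of_finite))
    (index_dvd_of_le hLM)
  have h3 : M.index ^ 2 ≤ L.index ^ 2 := Nat.pow_le_pow_left h2 2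
  omega

/-- **the pair `r`, `p`** -/
theorem dead_of_pair (hc : center T = ⊥) {r p k : ℕ} (hr : r.Prime) (hp : p.Prime) (hrn : r ∣ M.index)
    (hrout : ¬ r ∣ (Inn T).index) (hpn : p ^ k ∣ M.index) (hpout : ¬ p ^ k ∣ (Inn T).index)
    (hcent : ∀ x y : T, orderOf x = r → orderOf y = r → x * y = y * x → y ∉ zpowers x →
      ¬ p ∣ Nat.card (centralizer ({x, y} : Set T))) : Dead T M := by
  intro A L hr' hLM
  exact hr'.false_of_pair hc hr hp (hrn.trans (index_dvd_of_le hLM)) hrout (hpn.trans (index_dvd_of_le hLM)) hpout hcent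

end Cfsg.Agent.H57.BG
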