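import Mathlib

/-!
# Abelian regular subgroups of almost simple primitive groups (S3561, helper57)

`S` a finite non-abelian simple group.  `Reg A L` : `A` is an abelian subgroup of `Aut(S)` acting regularly on the
conjugates of the self-normalising proper subgroup `L` of `S`, `|A| = |S : L|` is not a prime power, no Sylow subgroup
of `A` (except the trivial ones) is cyclic, `A` is not the direct product of two or more subgroups of the same order `≥ 3`, `S` is not 2-transitive on `S / L` (and `L` is maximal in the sense of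
`prim`).  This is what is left of S3561 for almost simple groups.  `Row S` : there is no such pair.

Consequences of `h : Reg A L` (`Inn S = (MulAut.conj : S →* MulAut S).range`, `Out = Inn.index`):
* `h.sq_dvd` : `r ∣ |S : L| → r ^ 2 ∣ |S : L|`;
* `h.not_dvd_index` : `r ∤ |Out|`, the `r`-subgroups of `S` are cyclic ⇒ `r ∤ |S : L|`;
* `h.dvd_card` : the same, `r ∣ |S|` ⇒ `r ∣ |L|`;
* `h.exists_pair` : `r ∣ |S : L|`, `r ∤ |Out|` ⇒ there are commuting `x`, `y` of order `r` in `A ∩ Inn S`, `y ∉ ⟨x⟩`;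
  `h.comm_elt` : elements of `A ∩ Inn S` commute;
* `h.index_dvd` : `|S : L| ∣ |A₀| |Out|` for `A₀ = {s | conj s ∈ A}`, and `A₀` is abelian;
* `h.index_dvd_cent` : `|S : L| ∣ |C_S(X)| |Out|` for every `X ⊆ A₀`;
* `h.not_mem` : no element `≠ 1` of `A₀` is conjugate into `L`;
* `h.sylow_comm` : `r ∤ |L|`, `r ∤ |Out|` ⇒ the `r`-subgroups of `S` are abelian.
-/

set_option autoImplicit false

namespace Cfsg.Agent.H57.BG

open Subgroup

universe u v

/-- `A` is the internal direct product of `r ≥ 2` subgroups of the same order `m ≥ 3` -/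
def EqFac (A : Type*) [Group A] : Prop :=
  ∃ (m r : ℕ) (f : Fin r → Subgroup A), 3 ≤ m ∧ 2 ≤ r ∧ iSupIndep f ∧ (⨆ i, f i) = ⊤ ∧ ∀ i, Nat.card ↥(f i) = m

/-- an abelian subgroup of `Aut S`, regular on the conjugates of `L` -/
structure Reg {S : Type u} [Group S] (A : Subgroup (MulAut S)) (L : Subgroup S) : Prop where
  comm : ∀ a ∈ A, ∀ b ∈ A, a * b = b * a
  proper : L ≠ ⊤
  card : Nat.card A = L.index
  norm : normalizer (L : Set S) = L
  trans : ∀ s : S, ∃ a ∈ A, L.map a.toMonoidHom = L.map (MulAut.conj s).toMonoidHom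
  free : ∀ a ∈ A, ∀ s : S, (L.map (MulAut.conj s).toMonoidHom).map a.toMonoidHom =
    L.map (MulAut.conj s).toMonoidHom → a = 1
  npp : ¬ IsPrimePow (Nat.card A)
  big : ∀ p : ℕ, p.Prime → p ∣ Nat.card A → p ^ 2 ≤ Nat.card {a : A // a ^ p = 1}
  notTwo : ¬ MulAction.IsMultiplyPretransitive S (S ⧸ L) 2
  prim : ∃ B : Subgroup (MulAut S), A ≤ B ∧ (∀ s : S, MulAut.conj s ∈ B) ∧ ∀ M : Subgroup S, L ≤ M →
    (∀ b ∈ B, L.map b.toMonoidHom = L → M.map b.toMonoidHom = M) → M = L ∨ M = ⊤
  nf : ¬ EqFac A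

/-- the row of `S` -/
def Row (S : Type u) [Group S] : Prop := ∀ (A : Subgroup (MulAut S)) (L : Subgroup S), ¬ Reg A L

end Cfsg.Agent.H57.BG
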