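import Cfsg.Agent.H57.BG.Tor
import Cfsg.Agent.H951.Block
import Cfsg.Agent.H951.Sub

/-!
# Centralizers of `C_r × C_r` in isometry groups, `ord_r(q)` odd (S3561, helper57)

* `NoIrr B w` : no irreducible subspace of `[V, w]` is nondegenerate;
* `le_fx_of_form` : then an isometry of order `p` commuting with `w` is trivial on the nondegenerate subspaces of `[V, w]`
  of dimension less than `4 e`;
* `not_dvd_cent_form` : `V` of dimension at most `4 e + 1`: the centralizer of `C_r × C_r` has order prime to `p`.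
-/

set_option autoImplicit false

namespace Cfsg.Agent.H57.BG

open Module Polynomial Cfsg.Agent.H951 Cfsg.Agent.H884.Cg

section Form

variable {F : Type*} [Field F] [Fintype F] {V : Type*} [AddCommGroup V] [Module F V] [FiniteDimensional F V]
  {σ : F →+* F} {ε : F} {B : V → V → F} {w z : Module.End F V} {r p : ℕ} {W : Submodule F V}

/-- no irreducible subspace of `[V, w]` is nondegenerate -/
def NoIrr (B : V → V → F) (w : Module.End F V) : Prop := ∀ S : Submodule F V, Irr w S → S ≤ cm w → ¬ Nd B S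

omit [Fintype F] [FiniteDimensional F V] in
theorem inj_of_pow (hr : r.Prime) (hw : w ^ r = 1) : Function.Injective w := by
  obtain ⟨s, rfl⟩ : ∃ s, r = s + 1 := ⟨r - 1, by have := hr.pos; omega⟩
  intro u v huv
  have h : ∀ a : V, (w ^ s) (w a) = a := by
    intro a
    rw [← Module.End.mul_apply, ← pow_succ, hw]
    rfl
  rw [← h u, ← h v, huv]

theorem two_mul_le (hB : Frm σ ε B) (hw : Isom B w) [hr : Fact r.Prime] (h0 : (r : F) ≠ 0) (hwr : w ^ r = 1)
    (hno : NoIrr B w) (hWi : Inv w W) (hWn : Nd B W) (hWc : W ≤ cm w) (hW0 : W ≠ ⊥) :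
    2 * orderOf (Fintype.card F : ZMod r) ≤ finrank F W := by
  obtain ⟨S, hSW, hS⟩ := exists_irr hWi hW0
  have h1 := hS.finrank_eq h0 hwr (hSW.trans hWc)
  rcases hS.nd_or_ti hB hw (inj_of_pow hr.1 hwr) with h2 | h2
  · exact absurd h2 (hno S hS (hSW.trans hWc))
  · rw [← h1]
    exact hB.two_mul_finrank_le hWn hSW h2

theorem eq_two_mul (hB : Frm σ ε B) (hw : Isom B w) [hr : Fact r.Prime] (h0 : (r : F) ≠ 0) (hwr : w ^ r = 1)
    (hno : NoIrr B w) (hWi : Inv w W) (hWn : Nd B W) (hWc : W ≤ cm w) (hW0 : W ≠ ⊥)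
    (hlt : finrank F W < 4 * orderOf (Fintype.card F : ZMod r)) :
    finrank F W = 2 * orderOf (Fintype.card F : ZMod r) := by
  rcases exists_block hB hw (inj_of_pow hr.1 hwr) (semisimple_of_pow h0 hwr) hWi hWn hW0 with
    ⟨U, hUW, hU, hUn⟩ | ⟨U, U', hU, hU', hiU, hiU', -, -, hd, -, hn⟩
  · exact absurd hUn (hno U hU (hUW.trans hWc))
  · have h1 := hiU.finrank_eq h0 hwr (hU.trans hWc)
    have h2 := hiU'.finrank_eq h0 hwr (hU'.trans hWc)
    have h3 := finrank_sup_of_disj hd
    have hle : U ⊔ U' ≤ W := sup_le hU hU'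
    have h4 := hB.finrank_perp_inf hn hle
    by_cases hb : hB.perp (U ⊔ U') ⊓ W = ⊥
    · rw [hb, finrank_bot] at h4
      omega
    · have h5 := two_mul_le hB hw h0 hwr hno
        ((hw.inv_perp hB (inj_of_pow hr.1 hwr) (hiU.2.1.sup hiU'.2.1)).inf hWi) (hB.nd_perp_inf hWn hn hle)
        (inf_le_right.trans hWc) hb
      omega

omit [Fintype F] in
theorem finrank_map_add (z : Module.End F V) (W : Submodule F V) :
    finrank F (W.map (z - 1)) + finrank F ↥(W ⊓ fx z) = finrank F W := by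
  have h1 := ((z - 1).domRestrict W).finrank_range_add_finrank_ker
  have h2 : LinearMap.range ((z - 1).domRestrict W) = W.map (z - 1) := by
    rw [LinearMap.range_domRestrict]
  have h3 : finrank F (LinearMap.ker ((z - 1).domRestrict W)) = finrank F ↥(W ⊓ fx z) := by
    have h4 : LinearMap.ker ((z - 1).domRestrict W) = (W ⊓ fx z).comap W.subtype := by
      ext u
      rw [LinearMap.mem_ker, LinearMap.domRestrict_apply, Submodule.mem_comap]
      constructor
      · intro h
        exact ⟨u.2, LinearMap.mem_ker.2 h⟩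
      · rintro ⟨-, h⟩
        exact LinearMap.mem_ker.1 h
    rw [h4]
    exact (Submodule.comapSubtypeEquivOfLe (inf_le_left : W ⊓ fx z ≤ W)).finrank_eq
  rw [h2, h3] at h1
  exact h1

omit [Fintype F] [FiniteDimensional F V] in
theorem comm_aeval (hzw : Commute z w) (f : F[X]) : Commute z (aeval w f) := by
  induction f using Polynomial.induction_on' with
  | add f g hf hg => rw [map_add]; exact hf.add_right hg
  | monomial n a =>
    rw [aeval_monomial]
    exact Commute.mul_right (Algebra.commutes a z).symm (hzw.pow_right n)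

theorem le_fx_of_form (hB : Frm σ ε B) (hw : Isom B w) [hr : Fact r.Prime] (h0 : (r : F) ≠ 0) (hr2 : r ≠ 2)
    (hwr : w ^ r = 1) (hno : NoIrr B w) (hWi : Inv w W) (hWn : Nd B W) (hWc : W ≤ cm w) (hW0 : W ≠ ⊥)
    (hlt : finrank F W < 4 * orderOf (Fintype.card F : ZMod r)) [Fact p.Prime] [CharP F p] (hz : z ^ p = 1)
    (hzw : Commute z w) (hWz : Inv z W) : W ≤ fx z := by
  have hinj := inj_of_pow hr.1 hwr
  have hd := eq_two_mul hB hw h0 hwr hno hWi hWn hWc hW0 hlt
  have hepos := ord_pos (F := F) h0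
  set e := orderOf (Fintype.card F : ZMod r) with he
  set D := W.map (z - 1) with hD
  have hDW : D ≤ W := by
    rintro _ ⟨u, hu, rfl⟩
    rw [LinearMap.sub_apply, Module.End.one_apply]
    exact W.sub_mem (hWz u hu) hu
  have hDw : Inv w D := by
    rintro _ ⟨u, hu, rfl⟩
    refine ⟨w u, hWi u hu, ?_⟩
    rw [LinearMap.sub_apply, Module.End.one_apply, LinearMap.sub_apply, Module.End.one_apply, map_sub]
    have : z (w u) = w (z u) := LinearMap.congr_fun hzw.eq u
    rw [this]
  have hDz : Inv z D := by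
    rintro _ ⟨u, hu, rfl⟩
    refine ⟨z u, hWz u hu, ?_⟩
    rw [LinearMap.sub_apply, Module.End.one_apply, LinearMap.sub_apply, Module.End.one_apply, map_sub]
  have hrank := finrank_map_add z W
  by_cases hD0 : D = ⊥
  · intro u hu
    have h1 : (z - 1) u ∈ D := ⟨u, hu, rfl⟩
    rw [hD0, Submodule.mem_bot] at h1
    exact LinearMap.mem_ker.2 h1
  exfalso
  have hE0 : D ⊓ fx z ≠ ⊥ := inf_fx_ne_bot hz hDz hD0
  have hEw : Inv w (D ⊓ fx z) := hDw.inf (inv_fx_of_commute hzw.symm)
  obtain ⟨U, hUE, hU⟩ := exists_irr hEw hE0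
  have hUD : U ≤ D := hUE.trans inf_le_left
  have hUY : U ≤ W ⊓ fx z := le_inf (hUD.trans hDW) (hUE.trans inf_le_right)
  have hUe := hU.finrank_eq h0 hwr ((hUD.trans hDW).trans hWc)
  rw [← he] at hUe
  have h1 : finrank F U ≤ finrank F D := Submodule.finrank_mono hUD
  have h2 : finrank F U ≤ finrank F ↥(W ⊓ fx z) := Submodule.finrank_mono hUY
  rw [← hD] at hrank
  have hUD' : U = D := Submodule.eq_of_le_of_finrank_le hUD (by omega)
  have hUY' : U = W ⊓ fx z := Submodule.eq_of_le_of_finrank_le hUY (by omega)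
  have hUW : U ≤ W := hUD.trans hDW
  have hti : TI B U := (hU.nd_or_ti hB hw hinj).resolve_left (hno U hU (hUW.trans hWc))
  obtain ⟨U', hU'i, hU'W, hdis, hsup⟩ := exists_rel_compl (semisimple_of_pow h0 hwr) hU.2.1 hWi hUW
  have hU'e : finrank F U' = e := by
    have h3 := finrank_sup_of_disj hdis
    rw [hsup] at h3
    omega
  have hU'0 : U' ≠ ⊥ := by
    rintro rfl
    rw [finrank_bot] at hU'e
    omega
  have hU'irr : Irr w U' := by
    obtain ⟨I, hI, hIr⟩ := exists_irr hU'i hU'0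
    have h3 := hIr.finrank_eq h0 hwr ((hI.trans hU'W).trans hWc)
    rw [← he] at h3
    have h4 : I = U' := Submodule.eq_of_le_of_finrank_le hI (by omega)
    rw [← h4]
    exact hIr
  have hti' : TI B U' := (hU'irr.nd_or_ti hB hw hinj).resolve_left (hno U' hU'irr (hU'W.trans hWc))
  have hp : U' ⊓ hB.perp U = ⊥ := by
    rw [eq_bot_iff]
    intro v hv
    rw [Submodule.mem_bot]
    by_contra hv0
    obtain ⟨t, ht, hvt⟩ := hWn v (hU'W hv.1) hv0
    rw [← hsup] at ht
    obtain ⟨a, ha, b, hb, rfl⟩ := Submodule.mem_sup.1 ht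
    apply hvt
    rw [hB.add_right, hv.2 a ha, hti' v hv.1 b hb, add_zero]
  obtain ⟨f, hf, -, hfU⟩ := hU.exists_factor (cyclotomic r F) (cyclotomic_ne_zero r F)
    fun v hv => cyclotomic_apply_of_mem_cm hwr ((hUW.trans hWc) hv)
  have hfU' : ∀ u ∈ U', aeval w f u = 0 := by
    intro u hu
    have h3 : (z - 1) u ∈ U := by
      rw [hUD']
      exact ⟨u, hU'W hu, rfl⟩
    have h4 : (z - 1) (aeval w f u) = 0 := by
      have h5 : (z - 1) (aeval w f u) = aeval w f ((z - 1) u) := by
        rw [LinearMap.sub_apply, LinearMap.sub_apply, map_sub]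
        congr 1
        exact LinearMap.congr_fun (comm_aeval hzw f).eq u
      rw [h5, hfU _ h3]
    have h5 : aeval w f u ∈ U' := hU'i.aeval f u hu
    have h6 : aeval w f u ∈ U := by
      rw [hUY']
      exact ⟨hU'W h5, LinearMap.mem_ker.2 h4⟩
    rw [← Submodule.mem_bot F, ← hdis]
    exact ⟨h6, h5⟩
  have h2' : ∃ u ∈ U', w (w u) ≠ u := by
    by_contra hcon
    push Not at hcon
    obtain ⟨v, hv, hv0⟩ := (Submodule.ne_bot_iff _).1 hU'0
    obtain ⟨k, hk⟩ := hr.1.odd_of_ne_two hr2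
    have h3 : ∀ j : ℕ, ∀ a ∈ U', (w ^ (2 * j)) a = a := by
      intro j
      induction j with
      | zero => intro a _; simp
      | succ j ih =>
        intro a ha
        rw [mul_add, mul_one, pow_add, Module.End.mul_apply, pow_two, Module.End.mul_apply, hcon a ha, ih a ha]
    have h4 : w v = v := by
      have h5 : (w ^ r) v = v := by rw [hwr]; rfl
      rw [hk, pow_add, pow_one, Module.End.mul_apply, h3 k _ (hU'i v hv)] at h5
      exact h5
    apply hv0
    have h6 := (isCompl_fx_cm h0 hwr).inf_eq_bot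
    rw [← Submodule.mem_bot F, ← h6]
    exact ⟨mem_fx.2 h4, (hU'W.trans hWc) hv⟩
  obtain ⟨S, hS, hSi, hSn⟩ := exists_nd_irr hB hw hinj hf hU hU'irr hfU hfU' hti hti' hp h2'
  exact hno S hSi ((hS.trans (sup_le hUW hU'W)).trans hWc) hSn

omit [Fintype F] [FiniteDimensional F V] in
theorem Isom.mul' {x y : Module.End F V} (hx : Isom B x) (hy : Isom B y) : Isom B (x * y) := fun u v => by
  rw [Module.End.mul_apply, Module.End.mul_apply, hx, hy]

theorem eq_one_of_comm_form {x y : Module.End F V} (hB : Frm σ ε B) (hn : Nd B ⊤) (hxB : Isom B x) (hyB : Isom B y)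
    (hr : r.Prime) (h0 : (r : F) ≠ 0) (hr2 : r ≠ 2) [Fact p.Prime] [CharP F p]
    (hx : x ^ r = 1) (hy : y ^ r = 1) (hxy : Commute x y)
    (hV : finrank F V ≤ 4 * orderOf (Fintype.card F : ZMod r) + 1)
    (hno : ∀ i j : ℕ, NoIrr B (x ^ i * y ^ j)) (hy1 : y ≠ 1) (hxy1 : ∀ i : ℕ, x * y ^ i ≠ 1) (hz : z ^ p = 1)
    (hzx : Commute z x) (hzy : Commute z y) : z = 1 := by
  have hrF : Fact r.Prime := ⟨hr⟩
  have hepos := ord_pos (F := F) h0
  have hcy : cm y ≠ ⊥ := by
    intro h
    apply hy1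
    exact sub_eq_zero.1 (LinearMap.range_eq_bot.1 h)
  have hcfy : cm y ⊓ fx y = ⊥ := by
    rw [inf_comm]; exact (isCompl_fx_cm h0 hy).inf_eq_bot
  obtain ⟨i, -, hi⟩ := exists_fixed hr h0 hx hy hxy (inv_cm_of_commute hxy) inv_cm hcy hcfy
  set w := x * y ^ i with hw
  have hcxi : Commute x (y ^ i) := hxy.pow_right i
  have hw1 : w ≠ 1 := hxy1 i
  have hwr : w ^ r = 1 := by
    rw [hw, hcxi.mul_pow, hx, ← pow_mul, mul_comm i r, pow_mul, hy, one_pow, one_mul]
  have hwB : Isom B w := Isom.mul' hxB (hyB.pow i)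
  have hwy : Commute w y := hxy.mul_left (Commute.refl y |>.pow_left i)
  have hzw : Commute z w := hzx.mul_right (hzy.pow_right i)
  have hnoy : NoIrr B y := by
    have h1 := hno 0 1
    rw [pow_zero, pow_one, one_mul] at h1
    exact h1
  have hnow : NoIrr B w := by
    have h1 := hno 1 i
    rw [pow_one] at h1
    exact h1
  -- the three parts
  have hndfw : Nd B (fx w) := by
    have := hwB.nd_inf_fx hB h0 hwr inv_top hn
    rwa [top_inf_eq] at this
  have hndcw : Nd B (cm w) := by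
    have := hwB.nd_inf_cm hB h0 hwr inv_top hn
    rwa [top_inf_eq] at this
  set U := cm y ⊓ fx w with hUdef
  have hUn : Nd B U := by
    rw [hUdef, inf_comm]
    exact hyB.nd_inf_cm hB h0 hy (inv_fx_of_commute hwy.symm) hndfw
  have hUyi : Inv y U := inv_cm.inf (inv_fx_of_commute hwy.symm)
  have hUzi : Inv z U := (inv_cm_of_commute hzy).inf (inv_fx_of_commute hzw)
  have hUe := two_mul_le hB hyB h0 hy hnoy hUyi hUn inf_le_left hi
  have hcw : cm w ≠ ⊥ := by
    intro h
    apply hw1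
    exact sub_eq_zero.1 (LinearMap.range_eq_bot.1 h)
  have hcwe := two_mul_le hB hwB h0 hwr hnow inv_cm hndcw le_rfl hcw
  have hdim : finrank F (cm w) + finrank F (fx w) = finrank F V := by
    have h1 := Submodule.finrank_add_eq_of_isCompl (isCompl_fx_cm h0 hwr)
    omega
  set C := fx w ⊓ fx y with hC
  have hfw : finrank F U + finrank F C = finrank F (fx w) := by
    have h1 : C ⊓ U = ⊥ := by
      rw [eq_bot_iff, ← hcfy]
      rintro v ⟨⟨-, hv2⟩, hv1, -⟩
      exact ⟨hv1, hv2⟩
    have h2 := finrank_sup_of_disj h1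
    have h3 : C ⊔ U = fx w := by
      have := inf_fx_sup_inf_cm h0 hy (inv_fx_of_commute hwy.symm)
      rw [inf_comm (fx w) (cm y)] at this
      exact this
    rw [h3] at h2
    omega
  set e := orderOf (Fintype.card F : ZMod r) with he
  have hz1 : cm w ≤ fx z := le_fx_of_form hB hwB h0 hr2 hwr hnow inv_cm hndcw le_rfl hcw (by omega) hz hzw
    (inv_cm_of_commute hzw)
  have hz2 : U ≤ fx z := le_fx_of_form hB hyB h0 hr2 hy hnoy hUyi hUn inf_le_left hi (by omega) hz hzy hUzi
  have hz3 : C ≤ fx z := by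
    by_cases hC0 : C = ⊥
    · rw [hC0]; exact bot_le
    · have h1 : Inv z C := (inv_fx_of_commute hzw).inf (inv_fx_of_commute hzy)
      have h2 := inf_fx_ne_bot hz h1 hC0
      have h3 : 0 < finrank F ↥(C ⊓ fx z) := by
        rw [Module.finrank_pos_iff]
        exact Submodule.nontrivial_iff_ne_bot.2 h2
      have h4 : C ⊓ fx z = C := Submodule.eq_of_le_of_finrank_le inf_le_left (by omega)
      rw [← h4]
      exact inf_le_right
  have hz4 : fx z = ⊤ := by
    rw [eq_top_iff, ← (isCompl_fx_cm h0 hwr).sup_eq_top]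
    refine sup_le ?_ hz1
    have := inf_fx_sup_inf_cm h0 hy (inv_fx_of_commute hwy.symm)
    rw [← this]
    refine sup_le hz3 ?_
    rw [inf_comm]
    exact hz2
  ext v
  have h1 : v ∈ fx z := by rw [hz4]; trivial
  rw [mem_fx.1 h1, Module.End.one_apply]

end Form

section Grp

open Subgroup

variable {T G : Type*} [Group T] [Group G] [Finite G]

/-- **the centralizer of `C_r × C_r` has order prime to `p`** (forms, `ord_r(q)` odd) -/
theorem not_dvd_cent_form {F : Type*} [Field F] [Fintype F] {V : Type*} [AddCommGroup V] [Module F V]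
    [FiniteDimensional F V] {σ : F →+* F} {ε : F} {B : V → V → F} (hB : Frm σ ε B) (hnd : Nd B ⊤)
    {r p : ℕ} [hp : Fact p.Prime] [CharP F p]
    (π : G →* T) (hπ : Function.Surjective π) (hK : π.ker ≤ Subgroup.center G) (hr : r.Prime) (hr2 : r ≠ 2)
    (h0 : (r : F) ≠ 0) (hrK : ¬ r ∣ Nat.card π.ker) (hpK : ¬ p ∣ Nat.card π.ker)
    (ρ : G →* Module.End F V) (hρ : Function.Injective ρ) (hρB : ∀ g, Isom B (ρ g))
    (hV : finrank F V ≤ 4 * orderOf (Fintype.card F : ZMod r) + 1)
    (hno : ∀ g : G, g ^ r = 1 → NoIrr B (ρ g))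
    {x y : T} (hx : orderOf x = r) (hy : orderOf y = r) (hxy : x * y = y * x) (hn : y ∉ zpowers x) :
    ¬ p ∣ Nat.card (centralizer ({x, y} : Set T)) := by
  intro hd
  have hfT : Finite T := Finite.of_surjective π hπ
  obtain ⟨z, hz⟩ := exists_prime_orderOf_dvd_card' (G := centralizer ({x, y} : Set T)) p hd
  have hzo : orderOf (z : T) = p := by rw [Subgroup.orderOf_coe]; exact hz
  have hzc := mem_centralizer_iff.1 z.2
  have hzx : (z : T) * x = x * z := (hzc x (by simp)).symm
  have hzy : (z : T) * y = y * z := (hzc y (by simp)).symm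
  have hxr : x ^ r = 1 := hx ▸ pow_orderOf_eq_one x
  have hyr : y ^ r = 1 := hy ▸ pow_orderOf_eq_one y
  have hzp : (z : T) ^ p = 1 := hzo ▸ pow_orderOf_eq_one (z : T)
  have hrp : r ≠ p := by
    rintro rfl
    exact h0 (CharP.cast_eq_zero F r)
  obtain ⟨a, rfl, har⟩ := H884.Cg.exists_lift π hπ hr hrK hxr
  obtain ⟨b, rfl, hbr⟩ := H884.Cg.exists_lift π hπ hr hrK hyr
  obtain ⟨c, hcz, hcp⟩ := H884.Cg.exists_lift π hπ hp.1 hpK hzp
  have hrr : ∀ k : G, k ∈ π.ker → k ^ r = 1 → k = 1 := by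
    intro k hk hkr
    have h7 : (⟨k, hk⟩ : π.ker) = 1 := by
      have h8 : orderOf (⟨k, hk⟩ : π.ker) ∣ r := orderOf_dvd_of_pow_eq_one (Subtype.ext hkr)
      have h9 : orderOf (⟨k, hk⟩ : π.ker) ∣ Nat.card π.ker := orderOf_dvd_natCard _
      rcases (Nat.dvd_prime hr).1 h8 with h10 | h10
      · exact orderOf_eq_one_iff.1 h10
      · exact absurd (h10 ▸ h9) hrK
    exact congrArg Subtype.val h7
  have hab : a * b = b * a := comm_of_lift π hK har hbr (fun k hk h1 _ => hrr k hk h1) hxy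
  have hca : c * a = a * c := comm_of_lift π hK hcp har (fun k hk _ h1 => hrr k hk h1) (by rw [hcz]; exact hzx)
  have hcb : c * b = b * c := comm_of_lift π hK hcp hbr (fun k hk _ h1 => hrr k hk h1) (by rw [hcz]; exact hzy)
  have hρ1 : ∀ g : G, ρ g = 1 → g = 1 := fun g h => hρ (by rw [h, map_one])
  have hb1 : b ≠ 1 := by
    rintro rfl
    rw [map_one, orderOf_one] at hy
    exact hr.one_lt.ne hy
  have key : ∀ i : ℕ, a * b ^ i ≠ 1 := by
    intro i h3
    apply hn
    have h4 : π a = (π b ^ i)⁻¹ := by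
      rw [eq_inv_iff_mul_eq_one, ← map_pow, ← map_mul, h3, map_one]
    have h5 : Subgroup.zpowers (π a) ≤ Subgroup.zpowers (π b) := by
      rw [Subgroup.zpowers_le, h4]
      exact inv_mem (Subgroup.npow_mem_zpowers _ _)
    have h6 : Subgroup.zpowers (π a) = Subgroup.zpowers (π b) :=
      Subgroup.eq_of_le_of_card_ge h5 (by rw [Nat.card_zpowers, Nat.card_zpowers, hx, hy])
    rw [h6]
    exact Subgroup.mem_zpowers _
  have hc1 : ρ c = 1 := by
    refine eq_one_of_comm_form (x := ρ a) (y := ρ b) (z := ρ c) (r := r) (p := p) hB hnd (hρB a) (hρB b) hr h0 hr2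
      (by rw [← map_pow, har, map_one]) (by rw [← map_pow, hbr, map_one])
      (show ρ a * ρ b = ρ b * ρ a by rw [← map_mul, ← map_mul, hab]) hV ?_ ?_ ?_
      (by rw [← map_pow, hcp, map_one]) (show ρ c * ρ a = ρ a * ρ c by rw [← map_mul, ← map_mul, hca])
      (show ρ c * ρ b = ρ b * ρ c by rw [← map_mul, ← map_mul, hcb])
    · intro i j
      rw [← map_pow, ← map_pow, ← map_mul]
      apply hno
      have hc : Commute (a ^ i) (b ^ j) := (show Commute a b from hab).pow_pow i j
      rw [hc.mul_pow, ← pow_mul, ← pow_mul, mul_comm i, mul_comm j, pow_mul, pow_mul, har, hbr, one_pow, one_pow,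
        one_mul]
    · intro h
      exact hb1 (hρ1 b h)
    · intro i h
      rw [← map_pow, ← map_mul] at h
      exact key i (hρ1 _ h)
  have hc2 : c = 1 := hρ1 c hc1
  rw [hc2, map_one] at hcz
  rw [← hcz, orderOf_one] at hzo
  exact hp.1.one_lt.ne hzo

end Grp

section Inst

variable {F : Type*} [Field F] [Fintype F] {V : Type*} [AddCommGroup V] [Module F V] [FiniteDimensional F V]
  {σ : F →+* F} {ε : F} {B : V → V → F} {w : Module.End F V} {r : ℕ}

/-- alternating forms -/
theorem noIrr_alt (hB : Frm (RingHom.id F) (-1) B) (ha : ∀ v, B v v = 0) [hr : Fact r.Prime] (h0 : (r : F) ≠ 0)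
    (hwr : w ^ r = 1) (hodd : Odd (orderOf (Fintype.card F : ZMod r))) : NoIrr B w := by
  intro S hS hc hn
  have h1 := hS.finrank_eq h0 hwr hc
  have h2 := even_of_kind hB (Or.inr ⟨rfl, rfl, ha⟩) hn rfl
  rw [h1] at h2
  exact (Nat.not_even_iff_odd.2 hodd) h2

end Inst

end Cfsg.Agent.H57.BG
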