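import Cfsg.Agent.H57.BG.Dead
import Cfsg.Agent.H57.BG.Tor2
import Cfsg.Agent.S0814
import Cfsg.Agent.S0816
import Cfsg.Agent.S0817
import Cfsg.Agent.S0246
import Cfsg.Agent.S0295
import Cfsg.Agent.S0296

/-!
# Indices of the inner automorphism groups, and arithmetic (S3561, helper57)
-/

set_option autoImplicit false

namespace Cfsg.Agent.H57.BG

open Subgroup

universe u

theorem index_inn_of_aut {T : Type u} [Group T] [Finite T] (hc : center T = ⊥) {n : ℕ}
    (h : Nat.card (MulAut T) = n * Nat.card T) : (Inn T).index = n := by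
  have hinj := conj_injective hc
  have h1 : Nat.card (Inn T) = Nat.card T := (Nat.card_congr (MonoidHom.ofInjective hinj).toEquiv).symm
  have h2 := (Inn T).index_mul_card
  rw [h1, h] at h2
  exact Nat.eq_of_mul_eq_mul_right Nat.card_pos h2

/-- a power of two not dividing `c f`, `c` small -/
theorem not_pow_dvd_of_lt {p k n : ℕ} (hn : 0 < n) (h : n < p ^ k) : ¬ p ^ k ∣ n := fun hd =>
  absurd (Nat.le_of_dvd hn hd) (by omega)

end Cfsg.Agent.H57.BG
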