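import Cfsg.Agent.H57.BG.SpKill

/-!
# The special geometric subgroups of `PSp_2m(q)` are dead (S3561, helper57)
-/

set_option autoImplicit false

namespace Cfsg.Agent.H57.BG

open Module Cfsg Cfsg.Geo Subgroup
open Cfsg.Agent.H262.El (pre)
open Cfsg.Agent.H884.El (PP exists_pp)

universe u

/-- the arithmetic condition on `r` -/
def ROK (q m r : ℕ) : Prop :=
  (2 ≤ orderOf (q : ZMod r) ∧ m ≤ orderOf (q : ZMod r)) ∨ (Odd (orderOf (q : ZMod r)) ∧ m ≤ 2 * orderOf (q : ZMod r))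

theorem exists_r {p f m : ℕ} (hp : p.Prime) (hf : 1 ≤ f) (hm : 2 ≤ m) (hme : Even m) (h22 : ¬ (m = 2 ∧ p ^ f = 2))
    (h23 : ¬ (m = 2 ∧ p ^ f = 3)) :
    ∃ r : ℕ, r.Prime ∧ r ≠ 2 ∧ r ≠ p ∧ r ∣ (p ^ f) ^ m - 1 ∧ ¬ r ∣ f ∧ ROK (p ^ f) m r := by
  have hq1 : 1 ≤ p ^ f := Nat.one_le_pow _ _ hp.pos
  by_cases h6 : p = 2 ∧ f * m = 6
  · obtain ⟨rfl, h6⟩ := h6
    have hfm : (f = 3 ∧ m = 2) ∨ (f = 1 ∧ m = 6) := by
      have hm6 : m ∣ 6 := Dvd.intro_left f h6
      have hle := Nat.le_of_dvd (by norm_num) hm6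
      obtain ⟨k, hk⟩ := hme
      have : m = 2 ∨ m = 4 ∨ m = 6 := by omega
      rcases this with rfl | rfl | rfl
      · left; omega
      · omega
      · right; omega
    rcases hfm with ⟨rfl, rfl⟩ | ⟨rfl, rfl⟩
    · refine ⟨7, by norm_num, by norm_num, by norm_num, by norm_num, by norm_num, Or.inr ?_⟩
      have h1 : orderOf ((2 ^ 3 : ℕ) : ZMod 7) = 1 := by
        rw [orderOf_eq_one_iff]; decide
      rw [h1]
      exact ⟨odd_one, by norm_num⟩
    · refine ⟨7, by norm_num, by norm_num, by norm_num, by norm_num, by norm_num, Or.inr ?_⟩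
      have h1 : orderOf ((2 ^ 1 : ℕ) : ZMod 7) = 3 := by
        haveI : Fact (Nat.Prime 3) := ⟨by norm_num⟩
        exact orderOf_eq_prime (by decide) (by decide)
      rw [h1]
      exact ⟨by decide, by norm_num⟩
  by_cases h3 : 3 ≤ f * m
  · obtain ⟨r, hr⟩ := exists_pp (q := p) (e := f * m) hp.two_le h3 h6
    have hlt := hr.lt (by omega)
    have hq := hr.of_pow (a := f) (d := m) hf
    have hfle : f ≤ f * m := Nat.le_mul_of_pos_right _ (by omega)
    refine ⟨r, hr.prime, by omega, ?_, (hq.dvd_iff hq1 m).2 dvd_rfl, fun h => ?_, Or.inl ?_⟩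
    · rintro rfl
      exact hr.not_dvd (by omega) dvd_rfl
    · have := Nat.le_of_dvd (by omega) h
      omega
    · rw [hq.ord]
      exact ⟨hm, le_rfl⟩
  · have hf1 : f = 1 := by
      by_contra hne
      have : 2 * 2 ≤ f * m := Nat.mul_le_mul (by omega) hm
      omega
    subst hf1
    have hm2 : m = 2 := by omega
    subst hm2
    rw [pow_one] at h22 h23 ⊢
    have hp3 : p ≠ 3 := fun h => h23 ⟨rfl, h⟩
    have hp2' : p ≠ 2 := fun h => h22 ⟨rfl, h⟩
    have hp2 := hp.two_le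
    have hpodd : Odd p := hp.odd_of_ne_two hp2'
    by_cases hpow : ∃ k, p + 1 = 2 ^ k
    · obtain ⟨k, hk⟩ := hpow
      -- `(p - 1) / 2` is odd and larger than one
      have hk3 : 3 ≤ k := by
        by_contra hcon
        have : k = 0 ∨ k = 1 ∨ k = 2 := by omega
        rcases this with rfl | rfl | rfl <;> omega
      obtain ⟨j, rfl⟩ : ∃ j, k = j + 3 := ⟨k - 3, by omega⟩
      have hhalf : p - 1 = 2 * (2 ^ (j + 2) - 1) := by
        have e1 : 2 ^ (j + 3) = 2 * 2 ^ (j + 2) := by rw [pow_succ]; ring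
        have e2 : 1 ≤ 2 ^ (j + 2) := Nat.one_le_pow _ _ (by norm_num)
        omega
      have hodd : Odd (2 ^ (j + 2) - 1) := by
        have e2 : 4 ≤ 2 ^ (j + 2) := by
          calc 4 = 2 ^ 2 := by norm_num
            _ ≤ 2 ^ (j + 2) := Nat.pow_le_pow_right (by norm_num) (by omega)
        refine Nat.Even.sub_odd (by omega) ?_ odd_one
        exact (Nat.even_pow.2 ⟨even_two, by omega⟩)
      have hgt : 2 ^ (j + 2) - 1 ≠ 1 := by
        have e2 : 4 ≤ 2 ^ (j + 2) := by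
          calc 4 = 2 ^ 2 := by norm_num
            _ ≤ 2 ^ (j + 2) := Nat.pow_le_pow_right (by norm_num) (by omega)
        omega
      obtain ⟨r, hr, hrd⟩ := Nat.exists_prime_and_dvd hgt
      have hr2 : r ≠ 2 := by
        rintro rfl
        exact (Nat.not_even_iff_odd.2 hodd) (even_iff_two_dvd.2 hrd)
      have hrp1 : r ∣ p - 1 := by rw [hhalf]; exact hrd.mul_left 2
      have hrp : r ≠ p := by
        rintro rfl
        have := Nat.le_of_dvd (by omega) hrp1
        omega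
      have hrF : Fact r.Prime := ⟨hr⟩
      have hord : orderOf (p : ZMod r) = 1 := by
        rw [orderOf_eq_one_iff]
        have h1 : ((p - 1 : ℕ) : ZMod r) = 0 := (ZMod.natCast_eq_zero_iff _ _).2 hrp1
        rw [Nat.cast_sub (by omega), Nat.cast_one, sub_eq_zero] at h1
        exact h1
      refine ⟨r, hr, hr2, hrp, ?_, ?_, Or.inr ?_⟩
      · have e1 : p ^ 2 - 1 = (p + 1) * (p - 1) := by
          have := Nat.sq_sub_sq p 1
          simpa using this
        rw [e1]
        exact hrp1.mul_left _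
      · intro h
        exact hr.one_lt.ne' (Nat.dvd_one.1 h)
      · rw [hord]; exact ⟨odd_one, by norm_num⟩
    · obtain ⟨r, hr, hall, -, hnd⟩ := Cfsg.Agent.Lib.Zsigmondy.exists_primitive (a := p) (n := 2) hp2 le_rfl
        (fun _ => hpow) (by omega)
      have hr2 : r ≠ 2 := by
        rintro rfl
        have h1 := (hall 1).1 (by
          rw [pow_one]
          obtain ⟨t, ht⟩ := hpodd
          exact ⟨t, by omega⟩)
        omega
      have hord : orderOf (p : ZMod r) = 2 := by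
        have h1 : ∀ i, r ∣ p ^ i - 1 ↔ orderOf (p : ZMod r) ∣ i := fun i =>
          Cfsg.Agent.Lib.Zsigmondy.dvd_pow_sub_one_iff (by omega) i
        have h3 := (h1 2).1 ((hall 2).2 dvd_rfl)
        have h4 := (hall (orderOf (p : ZMod r))).1 ((h1 _).2 dvd_rfl)
        exact Nat.dvd_antisymm h3 h4
      refine ⟨r, hr, hr2, ?_, (hall 2).2 dvd_rfl, ?_, Or.inl ?_⟩
      · rintro rfl
        exact hnd dvd_rfl
      · intro h
        exact hr.one_lt.ne' (Nat.dvd_one.1 h)
      · rw [hord]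
        exact ⟨le_rfl, le_rfl⟩

variable {F : Type u} [Field F] [Fintype F] {m : ℕ}

theorem index_inn_psp {p f : ℕ} [Fact p.Prime] (hf : 1 ≤ f) (hF : Fintype.card F = p ^ f) (hm : 2 ≤ m)
    (h22 : m = 2 → 3 ≤ p ^ f) (hc : center (PSp m F) = ⊥) :
    (Inn (PSp m F)).index = (if m = 2 ∧ p = 2 then 2 else 1) * Nat.gcd 2 (p ^ f - 1) * f := by
  haveI : Finite (PSp m F) := Quotient.finite _
  exact index_inn_of_aut hc (Cfsg.Agent.S0814.result p f hf hF m hm h22)

/-- **dead subgroups of `PSp_2m(q)`** -/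
theorem dead_psp {p f : ℕ} (hp : p.Prime) (hf : 1 ≤ f) (hF : Fintype.card F = p ^ f) (hm : 2 ≤ m) (hme : Even m)
    (h22 : ¬ (m = 2 ∧ p ^ f = 2)) (h23 : ¬ (m = 2 ∧ p ^ f = 3)) (hc : center (PSp m F) = ⊥) {R : Subgroup (PSp m F)}
    (hr : ∀ r : ℕ, r.Prime → r ≠ 2 → r ∣ Fintype.card F ^ m - 1 → ¬ r ∣ f → r ∣ R.index)
    (hq : Fintype.card F ^ m ∣ 2 * R.index) : Dead (PSp m F) R := by
  haveI : Finite (PSp m F) := Quotient.finite _
  have hpF : Fact p.Prime := ⟨hp⟩
  have hchar : CharP F p := by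
    obtain ⟨ℓ, hchar⟩ := CharP.exists F
    have hl : Fact ℓ.Prime := ⟨CharP.char_is_prime F ℓ⟩
    obtain ⟨m, hm, hcard⟩ := FiniteField.card F ℓ
    rw [hF] at hcard
    have h1 : ℓ ∣ p ^ f := by rw [hcard]; exact dvd_pow_self ℓ m.ne_zero
    have h3 : ℓ = p := (Nat.prime_dvd_prime_iff_eq hm hp).1 (hm.dvd_of_dvd_pow h1)
    subst h3
    exact hchar
  have hq2 : 2 ≤ p ^ f := by rw [← hF]; exact Fintype.one_lt_card
  have hidx := index_inn_psp hf hF hm (fun h => by
    have : p ^ f ≠ 2 := fun h' => h22 ⟨h, h'⟩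
    omega) hc
  obtain ⟨r, hrp, hr2, hrne, hrd, hrf, hok⟩ := exists_r hp hf hm hme h22 h23
  have h0 : (r : F) ≠ 0 := by
    intro h
    exact hrne ((Nat.prime_dvd_prime_iff_eq hp hrp).1 ((CharP.cast_eq_zero_iff F p r).1 h)).symm
  rw [← hF] at hrd hok
  have hr2' : ¬ r ∣ 2 := fun h => hr2 ((Nat.prime_dvd_prime_iff_eq hrp Nat.prime_two).1 h)
  have hrout : ¬ r ∣ (Inn (PSp m F)).index := by
    rw [hidx]
    intro h
    rcases hrp.dvd_mul.1 h with h1 | h1
    · rcases hrp.dvd_mul.1 h1 with h2 | h2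
      · split_ifs at h2
        · exact hr2' h2
        · exact hrp.one_lt.ne' (Nat.dvd_one.1 h2)
      · exact hr2' (h2.trans (Nat.gcd_dvd_left _ _))
    · exact hrf h1
  have hrR := hr r hrp hr2 hrd hrf
  have hcent : ∀ x y : PSp m F, orderOf x = r → orderOf y = r → x * y = y * x → y ∉ zpowers x →
      ¬ p ∣ Nat.card (centralizer ({x, y} : Set (PSp m F))) := fun x y hx hy hxy hn =>
    not_dvd_cent_psp (by omega) hrp hr2 h0 hok hx hy hxy hn
  have hfm : 2 * f ≤ f * m := by nlinarith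
  have hlt : f < 2 ^ f := Nat.lt_two_pow_self
  by_cases hp2 : p = 2
  · subst hp2
    have hg : Nat.gcd 2 (2 ^ f - 1) = 1 := by
      have h1 : Odd (2 ^ f - 1) := by
        refine Nat.Even.sub_odd (by omega) ?_ odd_one
        exact Nat.even_pow.2 ⟨even_two, by omega⟩
      exact (Nat.coprime_two_left.2 h1)
    rw [hF, ← pow_mul] at hq
    obtain ⟨k, hk⟩ : ∃ k, f * m = k + 1 := ⟨f * m - 1, by omega⟩
    rw [hk, pow_succ, mul_comm] at hq
    have hq' : 2 ^ k ∣ R.index := Nat.dvd_of_mul_dvd_mul_left (by norm_num) hq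
    refine dead_of_pair hc hrp Nat.prime_two hrR hrout hq' ?_ hcent
    rw [hidx, hg, mul_one]
    by_cases hm2 : m = 2
    · subst hm2
      rw [if_pos ⟨rfl, rfl⟩]
      have hf2 : 2 ≤ f := by
        by_contra hcon
        have : f = 1 := by omega
        subst this
        exact h22 ⟨rfl, by norm_num⟩
      apply not_pow_dvd_of_lt (by omega)
      have hk' : k = (f - 1) + f := by omega
      rw [hk', pow_add]
      have h4 : 2 ≤ 2 ^ (f - 1) := by
        calc 2 = 2 ^ 1 := by norm_num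
          _ ≤ 2 ^ (f - 1) := Nat.pow_le_pow_right (by norm_num) (by omega)
      calc 2 * f < 2 * 2 ^ f := by omega
        _ ≤ 2 ^ (f - 1) * 2 ^ f := Nat.mul_le_mul_right _ h4
    · rw [if_neg (fun h => hm2 h.1), one_mul]
      apply not_pow_dvd_of_lt (by omega)
      have hk' : f ≤ k := by
        have : 3 * f ≤ f * m := by nlinarith [show 3 ≤ m by omega]
        omega
      exact hlt.trans_le (Nat.pow_le_pow_right (by norm_num) hk')
  · have hodd : Odd p := hp.odd_of_ne_two hp2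
    have hp3 : 3 ≤ p := by have := hp.two_le; omega
    rw [hF, ← pow_mul] at hq
    have hq' : p ^ (f * m) ∣ R.index :=
      (Nat.Coprime.pow_left _ ((Nat.coprime_primes hp Nat.prime_two).2 hp2)).dvd_of_dvd_mul_left hq
    refine dead_of_pair hc hrp hp hrR hrout hq' ?_ hcent
    rw [hidx, if_neg (fun h => hp2 h.2), one_mul]
    have hg : Nat.gcd 2 (p ^ f - 1) ≤ 2 := Nat.le_of_dvd (by norm_num) (Nat.gcd_dvd_left _ _)
    have hg0 : 0 < Nat.gcd 2 (p ^ f - 1) := Nat.gcd_pos_of_pos_left _ (by norm_num)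
    apply not_pow_dvd_of_lt (by positivity)
    calc Nat.gcd 2 (p ^ f - 1) * f ≤ 2 * f := Nat.mul_le_mul_right _ hg
      _ < 2 * 2 ^ f := by omega
      _ ≤ 2 ^ f * 2 ^ f := Nat.mul_le_mul_right _ (by
          calc 2 = 2 ^ 1 := by norm_num
            _ ≤ 2 ^ f := Nat.pow_le_pow_right (by norm_num) hf)
      _ = 2 ^ (2 * f) := by rw [← pow_add]; congr 1; ring
      _ ≤ p ^ (2 * f) := Nat.pow_le_pow_left (by omega) _
      _ ≤ p ^ (f * m) := Nat.pow_le_pow_right (by omega) hfm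

/-- the special geometric alternative of `PSp_2m(q)`: dead, or all prime divisors of `q ^ m + 1` divide the index -/
theorem dead_spec (hm : 2 ≤ m) (h22 : ¬ (m = 2 ∧ Fintype.card F = 2)) (h23 : ¬ (m = 2 ∧ Fintype.card F = 3))
    (hc : center (PSp m F) = ⊥) {R : Subgroup (PSp m F)} (h : Cfsg.Agent.H262.El.Spec m F (pre R)) :
    Dead (PSp m F) R ∨ ∀ r : ℕ, r.Prime → r ≠ 2 → r ∣ Fintype.card F ^ m + 1 → r ∣ R.index := by
  obtain ⟨p, hch⟩ := CharP.exists F
  obtain ⟨n, hp, hn⟩ := FiniteField.card F p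
  rcases h with ⟨hme, hev, Q, hQ, hpol, hle⟩ | ⟨rfl, K, hK, hsa, hle⟩
  · rcases form_index (by omega) hQ hpol hle with h1 | h1
    · right
      intro r hr hr2 hrd
      have h2 : r ∣ 2 * R.index := (hrd.mul_left _).trans h1
      exact (hr.dvd_mul.1 h2).resolve_left fun h3 => hr2 ((Nat.prime_dvd_prime_iff_eq hr Nat.prime_two).1 h3)
    · left
      rw [hn] at h22 h23
      refine dead_psp hp n.pos hn hm hme h22 h23 hc (fun r hr hr2 hrd _ => ?_) ((dvd_mul_right _ _).trans h1)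
      have h2 : r ∣ 2 * R.index := (hrd.mul_left _).trans h1
      exact (hr.dvd_mul.1 h2).resolve_left fun h3 => hr2 ((Nat.prime_dvd_prime_iff_eq hr Nat.prime_two).1 h3)
  · left
    rw [hn] at h22 h23
    exact dead_psp hp n.pos hn hm (by decide) h22 h23 hc (fun r hr hr2 hrd _ => field_index_r hK hsa hle hr hr2 hrd)
      (field_index_p hK hle)

end Cfsg.Agent.H57.BG
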