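import Cfsg.Agent.H57.BG.OrthDead
import Cfsg.Agent.H57.BG.SpDead

/-!
# The pair `(r, p)` of the groups `PSp_2m(q)`, `Ω_{2m+1}(q)`, `PΩ⁺_2m(q)`, `m ≥ 4` even (S3561, helper57)
-/

set_option autoImplicit false

namespace Cfsg.Agent.H57.BG

open Module Cfsg Cfsg.Geo Subgroup
open Cfsg.Agent.LieClassical.OmegaReindex

universe u

/-- the two divisibility conditions kill -/
def Kills (T : Type u) [Group T] (q m p f : ℕ) : Prop :=
  ∃ r : ℕ, r.Prime ∧ 5 ≤ r ∧ r ≠ p ∧ r ∣ q ^ m - 1 ∧ ¬ r ∣ f ∧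
    ∀ (M : Subgroup T) (k : ℕ), r ∣ M.index → p ^ k ∣ M.index → ¬ p ^ k ∣ (Inn T).index → Dead T M

theorem exists_pow_of_dvd {p N c₀ c₁ i d : ℕ} (hp : p.Prime) (h0 : Nat.Coprime p c₀) (h1 : 0 < c₁) (hd : 0 < d)
    (h : p ^ N ∣ c₀ * c₁ * i) (hlt : c₁ * d < p ^ N) : ∃ k, p ^ k ∣ i ∧ ¬ p ^ k ∣ d := by
  obtain ⟨a, c', hc', rfl⟩ := Nat.exists_eq_pow_mul_and_not_dvd h1.ne' p hp.ne_one
  have hc'0 : 0 < c' := Nat.pos_of_ne_zero fun h => hc' (h ▸ dvd_zero p)
  have hpa : 0 < p ^ a := Nat.pow_pos hp.pos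
  have h2 : p ^ a * d < p ^ N := by
    refine lt_of_le_of_lt ?_ hlt
    calc p ^ a * d = p ^ a * 1 * d := by ring
      _ ≤ p ^ a * c' * d := Nat.mul_le_mul_right _ (Nat.mul_le_mul_left _ hc'0)
  have haN : a ≤ N := by
    by_contra hcon
    have h3 : p ^ N ≤ p ^ a := Nat.pow_le_pow_right hp.pos (by omega)
    have h4 : p ^ a ≤ p ^ a * d := Nat.le_mul_of_pos_right _ hd
    omega
  obtain ⟨k, rfl⟩ := Nat.exists_eq_add_of_le haN
  refine ⟨k, ?_, ?_⟩
  · have h3 : p ^ a * p ^ k ∣ p ^ a * (c₀ * c' * i) := by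
      rw [← pow_add]
      refine h.trans (dvd_of_eq ?_)
      ring
    have h4 := Nat.dvd_of_mul_dvd_mul_left hpa h3
    have h5 : Nat.Coprime (p ^ k) (c₀ * c') :=
      Nat.Coprime.pow_left _ (Nat.Coprime.mul_right h0 ((Nat.Prime.coprime_iff_not_dvd hp).2 hc'))
    exact h5.dvd_of_dvd_mul_left h4
  · intro h3
    have h4 := Nat.le_of_dvd hd h3
    have h5 : p ^ a * p ^ k ≤ p ^ a * d := Nat.mul_le_mul_left _ h4
    rw [← pow_add] at h5
    omega

section Main

variable {F : Type u} [Field F] [Fintype F] {m p f : ℕ}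

theorem kills_psp (hp : p.Prime) (hf : 1 ≤ f) (hF : Fintype.card F = p ^ f) (hm : 4 ≤ m) (hme : Even m)
    (hc : center (PSp m F) = ⊥) : Kills (PSp m F) (Fintype.card F) m p f := by
  have : Finite (PSp m F) := Quotient.finite _
  have hpF : Fact p.Prime := ⟨hp⟩
  have hchar : CharP F p := charP_of_card' hp hF
  have hidx := index_inn_psp hf hF (by omega) (fun h => by omega) hc
  obtain ⟨r, hrp, hr5, hrne, hrd, hrf, hok⟩ := exists_r4 hp hf hm hme
  have h0 : (r : F) ≠ 0 := by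
    intro h
    exact hrne ((Nat.prime_dvd_prime_iff_eq hp hrp).1 ((CharP.cast_eq_zero_iff F p r).1 h)).symm
  rw [← hF] at hrd hok
  have hr2' : ¬ r ∣ 2 := fun h => by
    have := Nat.le_of_dvd (by norm_num) h
    omega
  have hrout : ¬ r ∣ (Inn (PSp m F)).index := by
    rw [hidx]
    intro h
    rcases hrp.dvd_mul.1 h with h1 | h1
    · rcases hrp.dvd_mul.1 h1 with h2 | h2
      · split_ifs at h2
        · exact hr2' h2
        · exact hrp.one_lt.ne' (Nat.dvd_one.1 h2)
      · exact hr2' (h2.trans (Nat.gcd_dvd_left _ _))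
    · exact hrf h1
  refine ⟨r, hrp, hr5, hrne, hrd, hrf, fun M k h1 h2 h3 => ?_⟩
  refine dead_of_pair hc hrp hp h1 hrout h2 h3 fun x y hx hy hxy hn =>
    not_dvd_cent_psp (by omega) hrp (by omega) h0 ?_ hx hy hxy hn
  rcases hok with h | ⟨-, h⟩
  · exact Or.inl h
  · exact Or.inr h

theorem kills_plus (hp : p.Prime) (hf : 1 ≤ f) (hn : Fintype.card F = p ^ f) (hm : 4 ≤ m) (hme : Even m)
    (hc : center (POmega F (quadFormPlus m F)) = ⊥) :
    Kills (POmega F (quadFormPlus m F)) (Fintype.card F) m p f := by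
  have : Finite (POmega F (quadFormPlus m F)) := Quotient.finite _
  have hpF : Fact p.Prime := ⟨hp⟩
  have hchar : CharP F p := charP_of_card' hp hn
  obtain ⟨r, hrp, hr5, hrne, hrd, hrf, hok⟩ := exists_r4 hp hf hm hme
  rw [← hn] at hrd hok
  have h0 : (r : F) ≠ 0 := by
    intro h
    exact hrne ((Nat.prime_dvd_prime_iff_eq hp hrp).1 ((CharP.cast_eq_zero_iff F p r).1 h)).symm
  have hidx : (Inn (POmega F (quadFormPlus m F))).index =
      (if m = 4 then 3 else 1) * (if p = 2 then 2 else (if Even (m * (p ^ f - 1) / 2) then 8 else 4)) * f :=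
    index_inn_of_aut hc (Cfsg.Agent.S0817.result p f hf hn m hm)
  have hr2 : r ≠ 2 := by omega
  have hrout : ¬ r ∣ (Inn (POmega F (quadFormPlus m F))).index := by
    rw [hidx]
    intro h
    rcases hrp.dvd_mul.1 h with h1 | h1
    · rcases hrp.dvd_mul.1 h1 with h2 | h2
      · split_ifs at h2
        · have := Nat.le_of_dvd (by norm_num) h2
          omega
        · exact hrp.one_lt.ne' (Nat.dvd_one.1 h2)
      · have h3 : r ∣ 2 ^ 3 := by
          split_ifs at h2
          · exact h2.trans ⟨4, by norm_num⟩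
          · exact h2
          · exact h2.trans ⟨2, by norm_num⟩
        have := Nat.le_of_dvd (by norm_num) (hrp.dvd_of_dvd_pow h3)
        omega
    · exact hrf h1
  have hD := Cfsg.Agent.H884.El.data_plus (F := F) hm
  have hcent : ∀ x y : POmega F (quadFormPlus m F), orderOf x = r → orderOf y = r → x * y = y * x → y ∉ zpowers x →
      ¬ p ∣ Nat.card (centralizer ({x, y} : Set (POmega F (quadFormPlus m F)))) := by
    have key : ∀ x y : POmega F (⇑(quadPlus m F)), orderOf x = r → orderOf y = r → x * y = y * x → y ∉ zpowers x →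
        ¬ p ∣ Nat.card (centralizer ({x, y} : Set (POmega F (⇑(quadPlus m F))))) := fun x y hx hy hxy hn' => by
      refine not_dvd_cent_orth hD hrp hr2 h0 ?_ hx hy hxy hn'
      have hι : Fintype.card (Fin m ⊕ Fin m) = 2 * m := by rw [Fintype.card_sum, Fintype.card_fin]; ring
      rcases hok with ⟨h1, h2⟩ | ⟨h1, h2, h3⟩
      · left
        exact ⟨h1, by rw [hι]; omega⟩
      · right
        subst h1
        exact ⟨by exact_mod_cast CharP.cast_eq_zero F 2, h2, by rw [hι]; omega⟩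
    rw [coe_quadPlus] at key
    exact key
  exact ⟨r, hrp, hr5, hrne, hrd, hrf, fun M k h1 h2 h3 => dead_of_pair hc hrp hp h1 hrout h2 h3 hcent⟩

theorem kills_odd (hp : p.Prime) (hf : 1 ≤ f) (hn : Fintype.card F = p ^ f) (hp2 : p ≠ 2) (hm : 4 ≤ m) (hme : Even m)
    (hc : center (POmega F (quadFormOdd m F)) = ⊥) :
    Kills (POmega F (quadFormOdd m F)) (Fintype.card F) m p f := by
  have : Finite (POmega F (quadFormOdd m F)) := Quotient.finite _
  have hpF : Fact p.Prime := ⟨hp⟩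
  have hchar : CharP F p := charP_of_card' hp hn
  have hpodd : Odd p := hp.odd_of_ne_two hp2
  have h2F : (2 : F) ≠ 0 := by
    intro h
    have h1 : ((2 : ℕ) : F) = 0 := by exact_mod_cast h
    exact hp2 ((Nat.prime_dvd_prime_iff_eq hp Nat.prime_two).1 ((CharP.cast_eq_zero_iff F p 2).1 h1))
  obtain ⟨r, hrp, hr5, hrne, hrd, hrf, hok⟩ := exists_r4 hp hf hm hme
  rw [← hn] at hrd hok
  have h0 : (r : F) ≠ 0 := by
    intro h
    exact hrne ((Nat.prime_dvd_prime_iff_eq hp hrp).1 ((CharP.cast_eq_zero_iff F p r).1 h)).symm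
  have hidx : (Inn (POmega F (quadFormOdd m F))).index = 2 * f :=
    index_inn_of_aut hc (Cfsg.Agent.S0816.result p f hf hn hpodd m (by omega))
  have hr2 : r ≠ 2 := by omega
  have hrout : ¬ r ∣ (Inn (POmega F (quadFormOdd m F))).index := by
    rw [hidx]
    intro h
    rcases hrp.dvd_mul.1 h with h1 | h1
    · have := Nat.le_of_dvd (by norm_num) h1
      omega
    · exact hrf h1
  have hD := Cfsg.Agent.H884.El.data_odd (F := F) (m := m) (by omega) h2F
  have hcent : ∀ x y : POmega F (quadFormOdd m F), orderOf x = r → orderOf y = r → x * y = y * x → y ∉ zpowers x →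
      ¬ p ∣ Nat.card (centralizer ({x, y} : Set (POmega F (quadFormOdd m F)))) := by
    have key : ∀ x y : POmega F (⇑(quadOdd m F)), orderOf x = r → orderOf y = r → x * y = y * x → y ∉ zpowers x →
        ¬ p ∣ Nat.card (centralizer ({x, y} : Set (POmega F (⇑(quadOdd m F))))) := fun x y hx hy hxy hn' => by
      refine not_dvd_cent_orth hD hrp hr2 h0 ?_ hx hy hxy hn'
      have hι : Fintype.card (Unit ⊕ (Fin m ⊕ Fin m)) = 2 * m + 1 := by
        rw [Fintype.card_sum, Fintype.card_sum, Fintype.card_fin, Fintype.card_unit]; ring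
      rcases hok with ⟨h1, h2⟩ | ⟨h1, -, -⟩
      · left
        exact ⟨h1, by rw [hι]; omega⟩
      · exact absurd h1 hp2
    rw [coe_quadOdd] at key
    exact key
  exact ⟨r, hrp, hr5, hrne, hrd, hrf, fun M k h1 h2 h3 => dead_of_pair hc hrp hp h1 hrout h2 h3 hcent⟩

end Main

/-- **the socle kills** : `A |T| = |S| B`, `|Aut S| = o |S|` -/
theorem dead_of_socle {T : Type u} [Group T] [Finite T] {q m p f : ℕ} (hp : p.Prime) (hK : Kills T q m p f)
    {M : Subgroup T} {s a A B o c₀ c₁ N : ℕ} (hM : Nat.card M ∣ a) (ha : a = o * s) (hs : 0 < s)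
    (hcard : A * Nat.card T = s * B) (hqm : q ^ m - 1 ∣ B) (hpN : p ^ N ∣ B) (hAo : A * o = c₀ * c₁)
    (hc0 : Nat.Coprime p c₀) (hc1 : 0 < c₁) (hlt : c₁ * (Inn T).index < p ^ N)
    (hro : ∀ r, r.Prime → 5 ≤ r → ¬ r ∣ f → ¬ r ∣ A * o) : Dead T M := by
  have h1 : B ∣ A * o * M.index := by
    have h2 : Nat.card T ∣ o * s * M.index := by
      rw [← M.card_mul_index, ← ha]
      exact Nat.mul_dvd_mul_right hM _
    have h3 : s * B ∣ s * (A * o * M.index) := by
      rw [← hcard]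
      refine (Nat.mul_dvd_mul_left A h2).trans (dvd_of_eq ?_)
      ring
    exact Nat.dvd_of_mul_dvd_mul_left hs h3
  obtain ⟨r, hrp, hr5, -, hrd, hrf, hkill⟩ := hK
  have hr : r ∣ M.index := (hrp.dvd_mul.1 ((hrd.trans hqm).trans h1)).resolve_left (hro r hrp hr5 hrf)
  have hd : 0 < (Inn T).index := by
    have : Finite (MulAut T) := Finite.of_injective (fun e : MulAut T => (e : T → T)) DFunLike.coe_injective
    exact Nat.pos_of_ne_zero index_ne_zero_of_finite
  obtain ⟨k, h4, h5⟩ := exists_pow_of_dvd hp hc0 hc1 hd (i := M.index) (N := N) (by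
    rw [← hAo]
    exact hpN.trans h1) hlt
  exact hkill M k hr h4 h5

end Cfsg.Agent.H57.BG
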