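import Cfsg.Agent.H391.SRingComm

/-!
# Wielandt's theorem on abelian B-groups (S3561, helper57)

If a primitive group which is not 2-transitive, of degree not a prime power, contains an abelian regular subgroup `C`
then for every prime `p ∣ |C|` there are at least `p ^ 2` elements `z` of `C` with `z ^ p = 1`.
-/

set_option autoImplicit false

namespace Cfsg.Agent.H57.BG

open Cfsg.Agent.H391.SRing

theorem big_of_prim {G Ω : Type*} [Group G] [Finite G] [MulAction G Ω] [FaithfulSMul G Ω] [Finite Ω]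
    (hprim : MulAction.IsPreprimitive G Ω) (hn2 : ¬ MulAction.IsMultiplyPretransitive G Ω 2)
    (h1 : 1 < Nat.card Ω) (hnp : ¬ IsPrimePow (Nat.card Ω)) (C : Subgroup G)
    (hcomm : ∀ x ∈ C, ∀ y ∈ C, x * y = y * x)
    (hC : MulAction.IsPretransitive ↥C Ω ∧ ∀ a : Ω, MulAction.stabilizer ↥C a = ⊥) :
    Nat.card C = Nat.card Ω ∧ ∀ p : ℕ, p.Prime → p ∣ Nat.card C → p ^ 2 ≤ Nat.card {z : C // z ^ p = 1} := by
  classical
  obtain ⟨ω⟩ : Nonempty Ω := (Nat.card_pos_iff.1 (by omega)).1
  obtain ⟨ψ, e, he, hA⟩ := exists_hom C ω hC.1 hC.2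
  letI : CommGroup ↥C := { (inferInstance : Group C) with
    mul_comm := fun a b => Subtype.ext (hcomm _ a.2 _ b.2) }
  have hP := prim_of_isPreprimitive_aux hprim ψ e he hA
  have hcard : Nat.card ↥C = Nat.card Ω := Nat.card_congr e
  refine ⟨hcard, fun p hp hpC => ?_⟩
  haveI : Fact p.Prime := ⟨hp⟩
  -- the subgroup of these elements
  let E : Subgroup C :=
    { carrier := {z | z ^ p = 1}
      one_mem' := one_pow p
      mul_mem' := by
        intro a b ha hb
        change (a * b) ^ p = 1
        rw [mul_pow, show a ^ p = 1 from ha, show b ^ p = 1 from hb, one_mul]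
      inv_mem' := by
        intro a ha
        change a⁻¹ ^ p = 1
        rw [inv_pow, show a ^ p = 1 from ha, inv_one] }
  have hEc : Nat.card {z : C // z ^ p = 1} = Nat.card E := rfl
  have hEp : IsPGroup p E := fun x => ⟨1, by rw [pow_one]; exact Subtype.ext x.2⟩
  obtain ⟨k, hk⟩ := hEp.exists_card_eq
  obtain ⟨z, hz⟩ := exists_prime_orderOf_dvd_card' (G := C) p hpC
  have hk0 : k ≠ 0 := by
    rintro rfl
    rw [pow_zero] at hk
    have h2 : z ∈ E := by
      change z ^ p = 1
      rw [← hz]
      exact pow_orderOf_eq_one z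
    have h3 : E = ⊥ := Subgroup.card_eq_one.1 hk
    rw [h3, Subgroup.mem_bot] at h2
    rw [h2, orderOf_one] at hz
    exact hp.one_lt.ne hz
  rw [hEc, hk]
  by_cases hk1 : k = 1
  · exfalso
    apply hn2
    rw [hk1, pow_one] at hk
    -- an element of order prime to `p`
    obtain ⟨q, hq, hqn, hqp⟩ : ∃ q : ℕ, q.Prime ∧ q ∣ Nat.card ↥C ∧ q ≠ p := by
      by_contra hcon
      push Not at hcon
      apply hnp
      rw [← hcard]
      have h2 : Nat.card ↥C ≠ 0 := by rw [hcard]; omega
      have h3 := (Nat.eq_prime_pow_of_unique_prime_dvd h2 (fun {d} hd hdd => hcon d hd hdd))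
      rw [h3]
      apply hp.isPrimePow.pow
      intro h0
      rw [h0, pow_zero] at h3
      omega
    haveI : Fact q.Prime := ⟨hq⟩
    obtain ⟨y, hy⟩ := exists_prime_orderOf_dvd_card' (G := ↥C) q hqn
    have hy1 : y ≠ 1 := by
      rintro rfl
      rw [orderOf_one] at hy
      exact hq.one_lt.ne hy
    have hyp : (orderOf y).Coprime p := by
      rw [hy]; exact (Nat.coprime_primes hq hp).2 hqp
    apply two_transitive_of_rel ψ e he hA
    intro x z hx hz
    exact rel_of_prim hA hP hp (hEc.trans hk) hy1 hyp hx hz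
  · exact Nat.pow_le_pow_right hp.pos (by omega)

end Cfsg.Agent.H57.BG
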