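import Cfsg.Agent.H893.PPow
import Cfsg.Agent.H57.BG.Scott
import Cfsg.Agent.H57.BG.AS
import Cfsg.Agent.H57.BG.Wie

/-!
# S3561: assembly (helper57)

`main` : the statement of S3561 from the rows `Row X` (`X` non-abelian simple), `4 |Out X| < |X|` and the cases of the
O'Nan-Scott theorem.
-/

set_option autoImplicit false

namespace Cfsg.Agent.H57.BG

open Subgroup MulAction Cfsg.Agent.H893 Cfsg.Agent.H893.Fac Cfsg.Agent.Lib.MinNormal

universe u v w

/-- the Cartesian case -/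
def CartesianSt : Prop :=
  ∀ {G : Type u} {Ω : Type w} [Group G] [Finite G] [MulAction G Ω] [FaithfulSMul G Ω] [Finite Ω]
    {N : Subgroup G} [N.Normal] {m : ℕ} {T : Fin m → Subgroup G} {e : N ≃* (∀ i, T i)}
    (h : Fac N m T e) {ω : Ω} (_ : ∀ x y : Ω, ∃ n ∈ N, n • x = y)
    (c : Fin m → Fin m) (_ : ∀ i, c (c i) = c i)
    (_ : ∀ k ∈ stabilizer G ω, ∀ i j, c i = c j → c (h.perm k i) = c (h.perm k j))
    (_ : ∀ n : N, (n : G) ∈ stabilizer G ω ↔
      ∀ j, ((e.symm (fun i => if c i = c j then e n i else 1) : N) : G) ∈ stabilizer G ω)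
    (_ : ∃ i j, c i ≠ c j) (_ : ¬ IsPrimePow (Nat.card Ω)) (_ : 1 < Nat.card Ω)
    (R : Subgroup G) (_ : ∀ x ∈ R, ∀ y ∈ R, x * y = y * x) (_ : ∀ x y : Ω, ∃ r ∈ R, r • x = y)
    (_ : ∀ x : Ω, ∀ r ∈ R, r • x = x → r = 1),
    ∃ (d r : ℕ) (f : Fin r → Subgroup R), 3 ≤ d ∧ 2 ≤ r ∧ iSupIndep f ∧ (⨆ i, f i) = ⊤ ∧ ∀ i, Nat.card ↥(f i) = d

/-- the diagonal case -/
def DiagonalSt : Prop :=
  ∀ {G : Type u} {Ω : Type w} [Group G] [Finite G] [MulAction G Ω] [FaithfulSMul G Ω] [Finite Ω]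
    {N : Subgroup G} [N.Normal] {m : ℕ} {T : Fin m → Subgroup G} {e : N ≃* (∀ i, T i)}
    (_ : Fac N m T e) {ω : Ω} (_ : ∀ x y : Ω, ∃ n ∈ N, n • x = y) (_ : 2 ≤ m)
    (c₀ : Fin m) (φ : ∀ i, T c₀ ≃* T i) (_ : ∀ n : N, (n : G) ∈ stabilizer G ω ↔ ∀ i, e n i = φ i (e n c₀))
    (_ : ∀ i (t : T i), ∃ n : N, (n : G) ∈ stabilizer G ω ∧ e n i = t)
    (_ : ∀ (i : Fin m) (B : Subgroup (MulAut (T i))), (∀ a ∈ B, ∀ b ∈ B, a * b = b * a) →
      2 * Nat.card B < Nat.card (T i))
    (R : Subgroup G) (_ : ∀ x ∈ R, ∀ y ∈ R, x * y = y * x) (_ : ∀ x y : Ω, ∃ r ∈ R, r • x = y)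
    (_ : ∀ x : Ω, ∀ r ∈ R, r • x = x → r = 1), False

/-- the case of a regular simple normal subgroup -/
def RegularSt : Prop :=
  ∀ {G : Type u} {Ω : Type w} [Group G] [Finite G] [MulAction G Ω] [FaithfulSMul G Ω] [Finite Ω]
    {N : Subgroup G} [N.Normal] (_ : IsSimpleGroup N) (_ : ∃ a b : N, a * b ≠ b * a) {ω : Ω}
    (_ : ∀ x y : Ω, ∃ n ∈ N, n • x = y) (_ : ∀ n ∈ N, n • ω = ω → n = 1)
    (R : Subgroup G) (_ : ∀ x ∈ R, ∀ y ∈ R, x * y = y * x) (_ : ∀ x y : Ω, ∃ r ∈ R, r • x = y)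
    (_ : ∀ x : Ω, ∀ r ∈ R, r • x = x → r = 1), False

theorem abelian_small {X : Type*} [Group X] [Finite X] [IsSimpleGroup X] (hna : ∃ a b : X, a * b ≠ b * a)
    (hOut : 4 * (Inn X).index < Nat.card X) (B : Subgroup (MulAut X)) (hB : ∀ a ∈ B, ∀ b ∈ B, a * b = b * a) :
    2 * Nat.card B < Nat.card X := by
  have hc : center X = ⊥ := by
    rcases (inferInstance : (center X).Normal).eq_bot_or_eq_top with h | h
    · exact h
    · exfalso
      obtain ⟨a, b, hab⟩ := hna
      exact hab (mem_center_iff.1 (h ▸ mem_top b : b ∈ center X) a)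
  have h1 := card_sq_le hc B hB
  by_contra hcon
  have h2 : Nat.card X ≤ 2 * Nat.card B := not_lt.1 hcon
  have h3 : Nat.card X * Nat.card X ≤ (2 * Nat.card B) * (2 * Nat.card B) := Nat.mul_le_mul h2 h2
  have h4 : (2 * Nat.card B) * (2 * Nat.card B) = 4 * Nat.card B ^ 2 := by ring
  have h5 : 4 * Nat.card B ^ 2 ≤ Nat.card X * (4 * (Inn X).index) := by
    calc 4 * Nat.card B ^ 2 ≤ 4 * (Nat.card X * (Inn X).index) := Nat.mul_le_mul_left _ h1
      _ = _ := by ring
  have h6 : Nat.card X * (4 * (Inn X).index) < Nat.card X * Nat.card X :=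
    Nat.mul_lt_mul_of_pos_left hOut Nat.card_pos
  omega

/-- an abelian minimal normal subgroup has prime power order -/
theorem isPrimePow_of_comm {G : Type*} [Group G] [Finite G] (N : Subgroup G) [N.Normal] (hN : N ≠ ⊥)
    (hmin : ∀ M : Subgroup G, M.Normal → M ≤ N → M = ⊥ ∨ M = N) (hab : ∀ x ∈ N, ∀ y ∈ N, Commute x y) :
    IsPrimePow (Nat.card N) := by
  obtain ⟨T, j, hTN, hT, hj, ⟨e⟩⟩ := Cfsg.Agent.Lib.MinNormal.exists_mulEquiv_pi N hN hmin
  have hc : Nat.card N = Nat.card T ^ j := by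
    rw [Nat.card_congr e.toEquiv, Nat.card_pi]
    simp
  let _ : CommGroup T := { (inferInstance : Group T) with
    mul_comm := fun a b => Subtype.ext (hab _ (hTN a.2) _ (hTN b.2)) }
  have hp : (Nat.card T).Prime := by
    have := hT
    exact IsSimpleGroup.prime_card
  rw [hc]
  exact hp.isPrimePow.pow (by omega)

theorem card_of_regular {X Ω : Type*} [Group X] [MulAction X Ω] [Finite Ω] (ω : Ω) (ht : IsPretransitive X Ω)
    (hs : stabilizer X ω = ⊥) : Nat.card X = Nat.card Ω := by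
  rw [← index_bot, ← hs, MulAction.index_stabilizer, MulAction.orbit_eq_univ, Set.ncard_univ]

theorem main (hcart : CartesianSt.{u, w}) (hdiag : DiagonalSt.{u, w}) (hregular : RegularSt.{u, w})
    (hOut : ∀ (X : Type u) [Group X] [Finite X] [IsSimpleGroup X], (∃ a b : X, a * b ≠ b * a) →
      4 * (Inn X).index < Nat.card X)
    (hrow : ∀ (X : Type u) [Group X] [Finite X] [IsSimpleGroup X], (∃ a b : X, a * b ≠ b * a) → Row X)
    {K : Type v} [CommGroup K] [Finite K] (hK2 : 2 ≤ Nat.card K) (hK : ¬ IsPrimePow (Nat.card K))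
    (hnf : ¬ ∃ (m r : ℕ) (f : Fin r → Subgroup K), 3 ≤ m ∧ 2 ≤ r ∧ iSupIndep f ∧ (⨆ i, f i) = ⊤ ∧
      ∀ i, Nat.card ↥(f i) = m)
    {G : Type u} {Ω : Type w} [Group G] [Finite G] [MulAction G Ω] [FaithfulSMul G Ω] [Finite Ω]
    (R : Subgroup G) (eR : ↥R ≃* K)
    (hR : MulAction.IsPretransitive ↥R Ω ∧ ∀ a : Ω, MulAction.stabilizer ↥R a = ⊥) :
    ¬ MulAction.IsPreprimitive G Ω ∨ MulAction.IsMultiplyPretransitive G Ω 2 := by
  classical
  by_contra hcon
  push Not at hcon
  obtain ⟨hG, hn2⟩ := hcon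
  -- the regular subgroup
  have hRcomm : ∀ x ∈ R, ∀ y ∈ R, x * y = y * x := by
    intro x hx y hy
    have : (⟨x, hx⟩ : R) * ⟨y, hy⟩ = ⟨y, hy⟩ * ⟨x, hx⟩ := by
      apply eR.injective
      rw [map_mul, map_mul, mul_comm]
    exact congrArg Subtype.val this
  have hRt : ∀ x y : Ω, ∃ r ∈ R, r • x = y := by
    intro x y
    have := hR.1
    obtain ⟨r, hr⟩ := exists_smul_eq R x y
    exact ⟨r, r.2, hr⟩
  have hRf : ∀ x : Ω, ∀ r ∈ R, r • x = x → r = 1 := by
    intro x r hr hrx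
    have h1 : (⟨r, hr⟩ : R) ∈ stabilizer R x := hrx
    rw [hR.2 x, Subgroup.mem_bot] at h1
    exact congrArg Subtype.val h1
  have hRK : Nat.card R = Nat.card K := Nat.card_congr eR.toEquiv
  have hne : Nonempty Ω := by
    by_contra hemp
    rw [not_nonempty_iff] at hemp
    apply hn2
    rw [is_two_pretransitive_iff]
    intro a
    exact (hemp.false a).elim
  obtain ⟨ω⟩ := hne
  have hRΩ : Nat.card R = Nat.card Ω := card_of_regular ω hR.1 (hR.2 ω)
  have hcard : 1 < Nat.card Ω := by omega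
  have hnpp : ¬ IsPrimePow (Nat.card Ω) := by rwa [← hRΩ, hRK]
  have hntΩ : Nontrivial Ω := Finite.one_lt_card_iff_nontrivial.mp hcard
  have htrG : IsPretransitive G Ω := inferInstance
  have hntG : Nontrivial G := by
    obtain ⟨x, y, hxy⟩ := exists_pair_ne Ω
    obtain ⟨g, hg⟩ := exists_smul_eq G x y
    refine ⟨g, 1, ?_⟩
    rintro rfl
    rw [one_smul] at hg
    exact hxy hg
  obtain ⟨-, hbig⟩ := big_of_prim hG hn2 hcard hnpp R hRcomm hR
  -- a minimal normal subgroup
  obtain ⟨N, hNn, hN, hmin⟩ := exists_min_normal' (G := G)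
  obtain ⟨htr, hKN, hNK⟩ := prim_normal hG N hN
  have hNt : ∀ x y : Ω, ∃ n ∈ N, n • x = y := by
    intro x y
    obtain ⟨r, hr⟩ := exists_smul_eq N x y
    exact ⟨r, r.2, hr⟩
  by_cases hab : ∀ x ∈ N, ∀ y ∈ N, Commute x y
  · apply hnpp
    have h1 := isPrimePow_of_comm N hN hmin hab
    have h2 : Nat.card N = Nat.card Ω := card_of_regular ω htr (by
      rw [eq_bot_iff]
      intro x hx
      rw [Subgroup.mem_bot]
      apply Subtype.ext
      exact stabilizer_eq_bot_of_comm N N hab htr ω x x.2 hx)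
    rwa [h2] at h1
  obtain ⟨m, T, e, h⟩ := exists_fac N hmin hab
  have hsc := scott' h (stabilizer G ω) (hKN ω) (hNK ω)
    (fun X hX hKX hinv => prim_max_inv hG N ω X hX hKX hinv)
  have hB : ∀ (i : Fin m) (B : Subgroup (MulAut (T i))), (∀ a ∈ B, ∀ b ∈ B, a * b = b * a) →
      2 * Nat.card B < Nat.card (T i) := by
    intro i B hB
    have := h.simple i
    exact abelian_small (h.nonab i) (hOut (T i) (h.nonab i)) B hB
  -- the conclusion of the Cartesian case is impossible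
  have hfin : ¬ EqFac R := fun hf => hnf (hf.congr eR)
  rcases hsc with hP | ⟨c, φ, hD⟩
  · -- product case
    by_cases hm : m = 1
    · -- `N` is simple
      subst hm
      have hT0 : ∀ n ∈ N, n ∈ T 0 := by
        intro n hn
        have h1 : e ⟨n, hn⟩ = Pi.mulSingle 0 (e ⟨n, hn⟩ 0) := by
          funext i
          rw [Subsingleton.elim i 0, Pi.mulSingle_eq_same]
        have h2 := congrArg e.symm h1
        rw [MulEquiv.symm_apply_apply] at h2
        have h3 := congrArg Subtype.val h2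
        rw [h.single] at h3
        have h4 : n = ((e ⟨n, hn⟩ 0 : T 0) : G) := h3
        rw [h4]
        exact (e ⟨n, hn⟩ 0).2
      have hNT : T 0 = N := le_antisymm (h.le 0) hT0
      have hs : IsSimpleGroup N := hNT ▸ h.simple 0
      have hna : ∃ a b : N, a * b ≠ b * a := hNT ▸ h.nonab 0
      by_cases hst : ∃ t ∈ N, t ≠ 1 ∧ t • ω = ω
      · have hC : centralizer (N : Set G) = ⊥ := by
          by_contra hC
          obtain ⟨htrC, -, -⟩ := prim_normal hG (centralizer (N : Set G)) hC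
          obtain ⟨t, ht, ht1, htω⟩ := hst
          exact ht1 (stabilizer_eq_bot_of_comm (centralizer (N : Set G)) N
            (fun a ha b hb => (mem_centralizer_iff.mp ha b hb).symm) htrC ω t ht htω)
        exact hrow N hna _ _ (reg_of_simple hG hC hNt hst hcard hnpp hn2 R hRcomm hRt hRf hRΩ hbig hfin)
      · push Not at hst
        exact hregular hs hna hNt (fun n hn hnω => by
          by_contra h1
          exact hst n hn h1 hnω) R hRcomm hRt hRf
    · have := h.pos
      apply hfin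
      refine hcart h (ω := ω) hNt id (fun _ => rfl) (fun k _ i j hij => congrArg (h.perm k) hij) (fun n => ?_)
        ⟨⟨0, by omega⟩, ⟨1, by omega⟩, by simp⟩ hnpp hcard R hRcomm hRt hRf
      rw [hP]
      refine forall_congr' fun j => ?_
      have h1 : (fun i => if id i = id j then e n i else 1) = Pi.mulSingle j (e n j) := by
        funext i
        by_cases hij : i = j
        · subst hij
          rw [Pi.mulSingle_eq_same]
          simp
        · rw [Pi.mulSingle_eq_of_ne hij]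
          simp [hij]
      rw [h1, h.single]
  · by_cases hone : ∀ i j, c i = c j
    · -- one class
      obtain ⟨c₀, hc₀⟩ : ∃ c₀, c = fun _ => c₀ := ⟨c ⟨0, h.pos⟩, funext fun i => hone i _⟩
      subst hc₀
      have hm : 2 ≤ m := by
        obtain ⟨j, hj, -⟩ := hD.ne ⟨0, h.pos⟩
        have h1 : (j : ℕ) ≠ 0 := fun h2 => hj (Fin.ext h2)
        have := j.2
        omega
      exact hdiag h (ω := ω) hNt hm c₀ φ hD.mem hD.full hB R hRcomm hRt hRf
    · push Not at hone
      apply hfin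
      refine hcart h (ω := ω) hNt c hD.idem hD.inv (fun n => ?_) hone hnpp hcard R hRcomm hRt hRf
      rw [hD.mem]
      constructor
      · intro h1 j
        rw [hD.mem]
        intro i
        rw [MulEquiv.apply_symm_apply]
        simp only [hD.idem i]
        by_cases hij : c i = c j
        · rw [if_pos hij, if_pos hij]
          exact h1 i
        · rw [if_neg hij, if_neg hij, map_one]
      · intro h1 i
        have h2 := (hD.mem _).1 (h1 i) i
        rw [MulEquiv.apply_symm_apply] at h2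
        simp only [hD.idem i, if_true] at h2
        exact h2

end Cfsg.Agent.H57.BG
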