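import Cfsg.Agent.H57.BG.Idx
import Cfsg.Agent.H57.BG.Level
import Cfsg.Agent.H884.CgOrth
import Cfsg.Agent.H884.ElFin
import Cfsg.Agent.H375.Odd.Inst
import Cfsg.Agent.H57.BG.SpDead

/-!
# The stabilisers of nonsingular points in `Ω_{2m+1}(q)` and `PΩ⁺_{2m}(q)`, `m` even (S3561, helper57)

* `dead_plus` : dead;
* `dead_odd` : dead, or all odd prime divisors of `q ^ m + 1` divide the index.
-/

set_option autoImplicit false
set_option linter.unusedSectionVars false

namespace Cfsg.Agent.H57.BG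

open Module QuadraticMap Cfsg Cfsg.Geo Subgroup Cfsg.Agent.H951
open Cfsg.Agent.H884.El (pre PP exists_pp lin)
open Cfsg.Agent.LieClassical Cfsg.Agent.LieClassical.OmegaReindex
open scoped MatrixGroups Matrix

universe u

section Cent

variable {ι : Type} [Fintype ι] [DecidableEq ι] {F : Type u} [Field F] [Fintype F] {Q : QuadraticForm F (ι → F)}

theorem frm_polar (h2 : (2 : F) = 0) (Q : QuadraticForm F (ι → F)) :
    Frm (RingHom.id F) (-1) (fun u v => polar (⇑Q) u v) where
  add_left u v w := by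
    have := (polarBilin Q).map_add₂ u v w
    simpa using this
  smul_left a u v := by
    have := (polarBilin Q).map_smul₂ a u v
    simpa using this
  herm u v := by
    rw [RingHom.id_apply, neg_one_mul, polar_comm]
    have h3 : polar (⇑Q) u v + polar (⇑Q) u v = 0 := by rw [← two_mul, h2, zero_mul]
    exact eq_neg_of_add_eq_zero_left h3
  sigma_sq _ := rfl
  eps_ne := neg_ne_zero.2 one_ne_zero

theorem not_dvd_center {s : ℕ} (hD : H390.Lift.Data Q) (hs : s.Prime) (h : s ≠ 2 ∨ (2 : F) = 0) :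
    ¬ s ∣ Nat.card (QuotientGroup.mk' (Subgroup.center (Omega F (⇑Q)))).ker := by
  rw [QuotientGroup.ker_mk']
  intro hd
  rcases h with h | h
  · have hsF := Fact.mk hs
    obtain ⟨z, hz⟩ := exists_prime_orderOf_dvd_card' s hd
    have h1 := H390.Lift.center_sq hD z z.2
    have h2 : z ^ 2 = 1 := Subtype.ext h1
    have h3 := orderOf_dvd_of_pow_eq_one h2
    rw [hz] at h3
    exact h ((Nat.prime_dvd_prime_iff_eq hs Nat.prime_two).1 h3)
  · have hch : CharP F 2 := CharTwo.of_one_ne_zero_of_two_eq_zero one_ne_zero h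
    have h1 := H375.Odd.center_omega hD
    rw [h1, Subgroup.card_bot] at hd
    exact hs.one_lt.ne' (Nat.dvd_one.1 hd)

theorem not_dvd_cent_orth (hD : H390.Lift.Data Q) {p r : ℕ} [hp : Fact p.Prime] [CharP F p] (hr : r.Prime) (hr2 : r ≠ 2)
    (h0 : (r : F) ≠ 0)
    (he : (2 ≤ orderOf (Fintype.card F : ZMod r) ∧ Fintype.card ι ≤ 2 * orderOf (Fintype.card F : ZMod r) + 1) ∨
      ((2 : F) = 0 ∧ Odd (orderOf (Fintype.card F : ZMod r)) ∧
        Fintype.card ι ≤ 4 * orderOf (Fintype.card F : ZMod r) + 1))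
    {x y : POmega F (⇑Q)} (hx : orderOf x = r) (hy : orderOf y = r) (hxy : x * y = y * x) (hn : y ∉ zpowers x) :
    ¬ p ∣ Nat.card (centralizer ({x, y} : Set (POmega F (⇑Q)))) := by
  have hrF : Fact r.Prime := ⟨hr⟩
  have hK : (QuotientGroup.mk' (Subgroup.center (Omega F (⇑Q)))).ker ≤ Subgroup.center (Omega F (⇑Q)) := by
    rw [QuotientGroup.ker_mk']
  have hrK := not_dvd_center hD hr (Or.inl hr2)
  have hpK : ¬ p ∣ Nat.card (QuotientGroup.mk' (Subgroup.center (Omega F (⇑Q)))).ker := by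
    refine not_dvd_center hD hp.1 ?_
    by_cases h : p = 2
    · right
      subst h
      exact_mod_cast CharP.cast_eq_zero F 2
    · exact Or.inl h
  have hdim : finrank F (ι → F) = Fintype.card ι := finrank_fintype_fun_eq_card F
  rcases he with ⟨h2, hle⟩ | ⟨h2F, hodd, hle⟩
  · refine not_dvd_cent_of (QuotientGroup.mk' _) (QuotientGroup.mk'_surjective _) hK hr h0 hrK hpK
      (H884.Cg.rep (⇑Q)) (H884.Cg.rep_injective _) h2 (by rw [hdim]; exact hle) ?_ hx hy hxy hn
    intro g hg U hU hUf hU0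
    have hgr : H884.Cg.rep (⇑Q) g ^ r = 1 := by rw [← map_pow, hg, map_one]
    have h1 := H951.ord_dvd_finrank hgr hU hUf
    exact Nat.le_of_dvd (Nat.pos_of_ne_zero fun h => hU0 (Submodule.finrank_eq_zero.1 h)) h1
  · refine not_dvd_cent_form (frm_polar h2F Q) ?_ (QuotientGroup.mk' _) (QuotientGroup.mk'_surjective _) hK hr hr2 h0
      hrK hpK (H884.Cg.rep (⇑Q)) (H884.Cg.rep_injective _) ?_ (by rw [hdim]; exact hle) ?_ hx hy hxy hn
    · intro u _ hu
      by_contra hcon
      push Not at hcon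
      exact hu (hD.nd.1 u fun v => hcon v trivial)
    · intro g u v
      have hg : ∀ w, Q (H884.Cg.rep (⇑Q) g w) = Q w := fun w => by
        show Q (Matrix.toLin' _ w) = Q w
        rw [Matrix.toLin'_apply]
        exact Cfsg.Agent.LieClassical.OrthFinite.mem_isometryGroup_iff.1 (g : isometryGroup F (⇑Q)).2 w
      show polar (⇑Q) _ _ = polar (⇑Q) _ _
      rw [polar, polar, ← map_add, hg, hg, hg]
    · intro g hg
      refine noIrr_alt (frm_polar h2F Q) (fun v => ?_) h0 (by rw [← map_pow, hg, map_one]) hodd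
      show polar (⇑Q) v v = 0
      rw [polar_self, two_nsmul, ← two_mul, h2F, zero_mul]

end Cent

/-- the primes -/
theorem exists_r4 {p f m : ℕ} (hp : p.Prime) (hf : 1 ≤ f) (hm : 4 ≤ m) (hme : Even m) :
    ∃ r : ℕ, r.Prime ∧ 5 ≤ r ∧ r ≠ p ∧ r ∣ (p ^ f) ^ m - 1 ∧ ¬ r ∣ f ∧
      ((2 ≤ orderOf ((p ^ f : ℕ) : ZMod r) ∧ m ≤ orderOf ((p ^ f : ℕ) : ZMod r)) ∨
        (p = 2 ∧ Odd (orderOf ((p ^ f : ℕ) : ZMod r)) ∧ m ≤ 2 * orderOf ((p ^ f : ℕ) : ZMod r))) := by
  have hq1 : 1 ≤ p ^ f := Nat.one_le_pow _ _ hp.pos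
  by_cases h6 : p = 2 ∧ f * m = 6
  · obtain ⟨rfl, h6⟩ := h6
    have hfm : f = 1 ∧ m = 6 := by
      have hm6 : m ∣ 6 := Dvd.intro_left f h6
      have hle := Nat.le_of_dvd (by norm_num) hm6
      obtain ⟨k, hk⟩ := hme
      have : m = 4 ∨ m = 6 := by omega
      rcases this with rfl | rfl
      · omega
      · omega
    obtain ⟨rfl, rfl⟩ := hfm
    refine ⟨7, by norm_num, by norm_num, by norm_num, by norm_num, by norm_num, Or.inr ⟨rfl, ?_⟩⟩
    have h1 : orderOf ((2 ^ 1 : ℕ) : ZMod 7) = 3 := by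
      haveI : Fact (Nat.Prime 3) := ⟨by norm_num⟩
      exact orderOf_eq_prime (by decide) (by decide)
    rw [h1]
    exact ⟨by decide, by norm_num⟩
  · have h4 : 4 ≤ f * m := by nlinarith
    obtain ⟨r, hr⟩ := exists_pp (q := p) (e := f * m) hp.two_le (by omega) h6
    have hlt := hr.lt (by omega)
    have hq := hr.of_pow (a := f) (d := m) hf
    have hfle : f ≤ f * m := Nat.le_mul_of_pos_right _ (by omega)
    refine ⟨r, hr.prime, by omega, ?_, (hq.dvd_iff hq1 m).2 dvd_rfl, fun h => ?_, Or.inl ?_⟩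
    · rintro rfl
      exact hr.not_dvd (by omega) dvd_rfl
    · have := Nat.le_of_dvd (by omega) h
      omega
    · rw [hq.ord]
      exact ⟨by omega, le_rfl⟩

section Main

variable {F : Type u} [Field F] [Fintype F] {m : ℕ}

theorem charP_of_card' {p f : ℕ} (hp : p.Prime) (hF : Fintype.card F = p ^ f) : CharP F p := by
  obtain ⟨ℓ, hchar⟩ := CharP.exists F
  have hl : Fact ℓ.Prime := ⟨CharP.char_is_prime F ℓ⟩
  obtain ⟨m, hm, hcard⟩ := FiniteField.card F ℓ
  rw [hF] at hcard
  have h1 : ℓ ∣ p ^ f := by rw [hcard]; exact dvd_pow_self ℓ m.ne_zero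
  have h3 : ℓ = p := (Nat.prime_dvd_prime_iff_eq hm hp).1 (hm.dvd_of_dvd_pow h1)
  subst h3
  exact hchar

theorem dvd_of_dvd_eight {s c i n : ℕ} (hs : s.Prime) (hs2 : s ≠ 2) (h : c ∣ 2 * (i * n)) (hi : i = 2 ∨ i = 4)
    {a : ℕ} (ha : s ^ a ∣ c) : s ^ a ∣ n := by
  have h1 : s ^ a ∣ 8 * n := by
    refine (ha.trans h).trans ?_
    rcases hi with rfl | rfl
    · exact ⟨2, by ring⟩
    · exact ⟨1, by ring⟩
  refine (Nat.Coprime.pow_left a ?_).dvd_of_dvd_mul_left h1
  rw [show (8 : ℕ) = 2 ^ 3 by norm_num]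
  exact Nat.Coprime.pow_right _ ((Nat.coprime_primes hs Nat.prime_two).2 hs2)

/-- **`PΩ⁺_{2m}(q)`, `m` even** -/
theorem dead_plus (hm : 4 ≤ m) (hme : Even m) (hexc : ¬ (m = 4 ∧ Fintype.card F = 2))
    (hc : center (POmega F (quadFormPlus m F)) = ⊥) {M : Subgroup (POmega F (quadFormPlus m F))}
    {v : Fin m ⊕ Fin m → F} (hv : quadFormPlus m F v ≠ 0)
    (hM : pre (quadFormPlus m F) M ≤ subspaceStabilizer (Submodule.span F {v})) :
    Dead (POmega F (quadFormPlus m F)) M := by
  haveI : Finite (POmega F (quadFormPlus m F)) := Quotient.finite _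
  obtain ⟨p, hch⟩ := CharP.exists F
  obtain ⟨n, hp, hn⟩ := FiniteField.card F p
  have hpF : Fact p.Prime := ⟨hp⟩
  have hf1 : 1 ≤ (n : ℕ) := n.pos
  generalize (n : ℕ) = f at hf1 hn
  obtain ⟨r, hrp, hr5, hrne, hrd, hrf, hok⟩ := exists_r4 hp hf1 hm hme
  rw [← hn] at hrd hok
  have h0 : (r : F) ≠ 0 := by
    intro h
    exact hrne ((Nat.prime_dvd_prime_iff_eq hp hrp).1 ((CharP.cast_eq_zero_iff F p r).1 h)).symm
  have hidx : (Inn (POmega F (quadFormPlus m F))).index =
      (if m = 4 then 3 else 1) * (if p = 2 then 2 else (if Even (m * (p ^ f - 1) / 2) then 8 else 4)) * f :=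
    index_inn_of_aut hc (Cfsg.Agent.S0817.result p f hf1 hn m hm)
  have hr2 : r ≠ 2 := by omega
  have hrout : ¬ r ∣ (Inn (POmega F (quadFormPlus m F))).index := by
    rw [hidx]
    intro h
    rcases hrp.dvd_mul.1 h with h1 | h1
    · rcases hrp.dvd_mul.1 h1 with h2 | h2
      · split_ifs at h2
        · have := Nat.le_of_dvd (by norm_num) h2
          omega
        · exact hrp.one_lt.ne' (Nat.dvd_one.1 h2)
      · have h3 : r ∣ 2 ^ 3 := by
          split_ifs at h2
          · exact h2.trans ⟨4, by norm_num⟩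
          · exact h2
          · exact h2.trans ⟨2, by norm_num⟩
        have := Nat.le_of_dvd (by norm_num) (hrp.dvd_of_dvd_pow h3)
        omega
    · exact hrf h1
  have hD := Cfsg.Agent.H884.El.data_plus (F := F) hm
  have hcent : ∀ x y : POmega F (quadFormPlus m F), orderOf x = r → orderOf y = r → x * y = y * x → y ∉ zpowers x →
      ¬ p ∣ Nat.card (centralizer ({x, y} : Set (POmega F (quadFormPlus m F)))) := by
    have key : ∀ x y : POmega F (⇑(quadPlus m F)), orderOf x = r → orderOf y = r → x * y = y * x → y ∉ zpowers x →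
        ¬ p ∣ Nat.card (centralizer ({x, y} : Set (POmega F (⇑(quadPlus m F))))) := fun x y hx hy hxy hn' => by
      refine not_dvd_cent_orth hD hrp hr2 h0 ?_ hx hy hxy hn'
      have hι : Fintype.card (Fin m ⊕ Fin m) = 2 * m := by rw [Fintype.card_sum, Fintype.card_fin]; ring
      rcases hok with ⟨h1, h2⟩ | ⟨h1, h2, h3⟩
      · left
        exact ⟨h1, by rw [hι]; omega⟩
      · right
        subst h1
        exact ⟨by exact_mod_cast CharP.cast_eq_zero F 2, h2, by rw [hι]; omega⟩
    rw [coe_quadPlus] at key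
    exact key
  have hlev : Nat.card {u : Fin m ⊕ Fin m → F // quadFormPlus m F u = quadFormPlus m F v} ∣
        2 * ((Omega F (quadFormPlus m F)).index * M.index) ∧
      ((2 : F) = 0 → Nat.card {u : Fin m ⊕ Fin m → F // quadFormPlus m F u = quadFormPlus m F v} ∣
        (Omega F (quadFormPlus m F)).index * M.index) := by
    have key : ∀ (M : Subgroup (POmega F (⇑(quadPlus m F)))) (v : Fin m ⊕ Fin m → F), quadPlus m F v ≠ 0 →
        pre (⇑(quadPlus m F)) M ≤ subspaceStabilizer (Submodule.span F {v}) →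
        Nat.card {u : Fin m ⊕ Fin m → F // quadPlus m F u = quadPlus m F v} ∣
          2 * ((Omega F (⇑(quadPlus m F))).index * M.index) ∧
        ((2 : F) = 0 → Nat.card {u : Fin m ⊕ Fin m → F // quadPlus m F u = quadPlus m F v} ∣
          (Omega F (⇑(quadPlus m F))).index * M.index) := fun M v hv hM =>
      ⟨level_dvd _ hD.nd hv hM, fun h2 => level_dvd_two _ h2 hD.nd hv hM⟩
    rw [coe_quadPlus] at key
    exact key M v hv hM
  have hidx' : (Omega F (quadFormPlus m F)).index = 2 ∨ (Omega F (quadFormPlus m F)).index = 4 := by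
    have := hD.idx
    rw [coe_quadPlus] at this
    exact this
  rw [plus_level (by omega) hv] at hlev
  have hrM : r ∣ M.index := by
    have := dvd_of_dvd_eight (a := 1) hrp hr2 hlev.1 hidx' (by rw [pow_one]; exact hrd.mul_left _)
    rwa [pow_one] at this
  have hlt : f < 2 ^ f := Nat.lt_two_pow_self
  by_cases hp2 : p = 2
  · subst hp2
    have h2F : (2 : F) = 0 := by exact_mod_cast CharP.cast_eq_zero F 2
    have h1 : 2 ^ (f * (m - 1)) ∣ 4 * M.index := by
      rw [pow_mul, ← hn]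
      refine ((dvd_mul_right _ _).trans (hlev.2 h2F)).trans ?_
      rcases hidx' with h | h <;> rw [h]
      · exact ⟨2, by ring⟩
    obtain ⟨k, hk⟩ : ∃ k, f * (m - 1) = k + 2 := ⟨f * (m - 1) - 2, by
      have : 1 * 3 ≤ f * (m - 1) := Nat.mul_le_mul hf1 (by omega)
      omega⟩
    rw [hk, pow_add, mul_comm] at h1
    have h2 : 2 ^ k ∣ M.index := Nat.dvd_of_mul_dvd_mul_left (by norm_num) h1
    refine dead_of_pair hc hrp Nat.prime_two hrM hrout h2 ?_ hcent
    rw [hidx, if_pos rfl]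
    by_cases hm4 : m = 4
    · subst hm4
      rw [if_pos rfl]
      have hf2 : 2 ≤ f := by
        by_contra hcon
        have hf1' : f = 1 := by omega
        rw [hf1', pow_one] at hn
        exact hexc ⟨rfl, hn⟩
      have hk' : k = (2 * f - 2) + f := by omega
      apply not_pow_dvd_of_lt (by omega)
      rw [hk', pow_add]
      obtain ⟨g, rfl⟩ : ∃ g, f = g + 2 := ⟨f - 2, by omega⟩
      have h5 : 4 * 2 ^ (g + 2) ≤ 2 ^ (2 * (g + 2) - 2) * 2 ^ (g + 2) := by
        apply Nat.mul_le_mul_right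
        calc 4 = 2 ^ 2 := by norm_num
          _ ≤ _ := Nat.pow_le_pow_right (by norm_num) (by omega)
      have h6 : 3 * (g + 2) < 2 * 2 ^ (g + 2) := by
        have h7 : g + 1 ≤ 2 ^ g := Nat.lt_two_pow_self
        have h8 : 2 ^ (g + 2) = 4 * 2 ^ g := by rw [pow_add]; ring
        omega
      omega
    · rw [if_neg hm4, one_mul]
      have hm6 : 6 ≤ m := by
        obtain ⟨j, hj⟩ := hme
        omega
      have h5 : f * 5 ≤ f * (m - 1) := Nat.mul_le_mul_left _ (by omega)
      apply not_pow_dvd_of_lt (by omega)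
      calc 2 * f < 2 * 2 ^ f := by omega
        _ = 2 ^ (f + 1) := by rw [pow_succ]; ring
        _ ≤ 2 ^ k := Nat.pow_le_pow_right (by norm_num) (by omega)
  · have hp3 : 3 ≤ p := by have := hp.two_le; omega
    have h1 : p ^ (f * (m - 1)) ∣ M.index :=
      dvd_of_dvd_eight hp hp2 hlev.1 hidx' (by rw [pow_mul, ← hn]; exact dvd_mul_right _ _)
    refine dead_of_pair hc hrp hp hrM hrout h1 ?_ hcent
    rw [hidx, if_neg hp2]
    have h2 : (if m = 4 then 3 else 1) * (if Even (m * (p ^ f - 1) / 2) then 8 else 4) * f ≤ 24 * f := by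
      apply Nat.mul_le_mul_right
      split_ifs <;> norm_num
    have h3 : 0 < (if m = 4 then 3 else 1) * (if Even (m * (p ^ f - 1) / 2) then 8 else 4) * f := by
      apply Nat.mul_pos _ hf1
      split_ifs <;> norm_num
    apply not_pow_dvd_of_lt h3
    have h4 : ∀ g : ℕ, 1 ≤ g → 27 * g ≤ 27 ^ g := by
      intro g hg
      induction g, hg using Nat.le_induction with
      | base => norm_num
      | succ g hg ih => rw [pow_succ]; nlinarith
    have h5 := h4 f hf1
    calc _ ≤ 24 * f := h2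
      _ < 27 * f := by omega
      _ ≤ 27 ^ f := h5
      _ = 3 ^ (3 * f) := by rw [pow_mul]; norm_num
      _ ≤ p ^ (3 * f) := Nat.pow_le_pow_left hp3 _
      _ ≤ p ^ (f * (m - 1)) := Nat.pow_le_pow_right (by omega) (by
          rw [mul_comm]
          exact Nat.mul_le_mul_left _ (by omega))

/-- **`Ω_{2m+1}(q)`, `m` even** -/
theorem dead_odd (hm : 3 ≤ m) (hme : Even m) (hodd : Odd (Fintype.card F))
    (hc : center (POmega F (quadFormOdd m F)) = ⊥) {M : Subgroup (POmega F (quadFormOdd m F))}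
    {v : Unit ⊕ (Fin m ⊕ Fin m) → F} (hv : quadFormOdd m F v ≠ 0)
    (hM : pre (quadFormOdd m F) M ≤ subspaceStabilizer (Submodule.span F {v})) :
    Dead (POmega F (quadFormOdd m F)) M ∨
      ∀ r : ℕ, r.Prime → r ≠ 2 → r ∣ Fintype.card F ^ m + 1 → r ∣ M.index := by
  haveI : Finite (POmega F (quadFormOdd m F)) := Quotient.finite _
  obtain ⟨p, hch⟩ := CharP.exists F
  obtain ⟨n, hp, hn⟩ := FiniteField.card F p
  have hpF : Fact p.Prime := ⟨hp⟩
  have hf1 : 1 ≤ (n : ℕ) := n.pos
  generalize (n : ℕ) = f at hf1 hn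
  have hm4 : 4 ≤ m := by
    obtain ⟨j, hj⟩ := hme
    omega
  have hpodd : Odd p := by
    rw [hn] at hodd
    exact Nat.Odd.of_mul_left (m := p) (n := p ^ (f - 1)) (by rw [← pow_succ', Nat.sub_add_cancel hf1]; exact hodd)
  have hp2 : p ≠ 2 := by
    rintro rfl
    exact absurd hpodd (by decide)
  have hp3 : 3 ≤ p := by have := hp.two_le; omega
  have h2F : (2 : F) ≠ 0 := by
    intro h
    have h1 : ((2 : ℕ) : F) = 0 := by exact_mod_cast h
    exact hp2 ((Nat.prime_dvd_prime_iff_eq hp Nat.prime_two).1 ((CharP.cast_eq_zero_iff F p 2).1 h1))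
  obtain ⟨r, hrp, hr5, hrne, hrd, hrf, hok⟩ := exists_r4 hp hf1 hm4 hme
  rw [← hn] at hrd hok
  have h0 : (r : F) ≠ 0 := by
    intro h
    exact hrne ((Nat.prime_dvd_prime_iff_eq hp hrp).1 ((CharP.cast_eq_zero_iff F p r).1 h)).symm
  have hidx : (Inn (POmega F (quadFormOdd m F))).index = 2 * f :=
    index_inn_of_aut hc (Cfsg.Agent.S0816.result p f hf1 hn hpodd m hm)
  have hr2 : r ≠ 2 := by omega
  have hrout : ¬ r ∣ (Inn (POmega F (quadFormOdd m F))).index := by
    rw [hidx]
    intro h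
    rcases hrp.dvd_mul.1 h with h1 | h1
    · have := Nat.le_of_dvd (by norm_num) h1
      omega
    · exact hrf h1
  have hD := Cfsg.Agent.H884.El.data_odd (F := F) hm h2F
  have hcent : ∀ x y : POmega F (quadFormOdd m F), orderOf x = r → orderOf y = r → x * y = y * x → y ∉ zpowers x →
      ¬ p ∣ Nat.card (centralizer ({x, y} : Set (POmega F (quadFormOdd m F)))) := by
    have key : ∀ x y : POmega F (⇑(quadOdd m F)), orderOf x = r → orderOf y = r → x * y = y * x → y ∉ zpowers x →
        ¬ p ∣ Nat.card (centralizer ({x, y} : Set (POmega F (⇑(quadOdd m F))))) := fun x y hx hy hxy hn' => by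
      refine not_dvd_cent_orth hD hrp hr2 h0 ?_ hx hy hxy hn'
      have hι : Fintype.card (Unit ⊕ (Fin m ⊕ Fin m)) = 2 * m + 1 := by
        rw [Fintype.card_sum, Fintype.card_sum, Fintype.card_fin, Fintype.card_unit]; ring
      rcases hok with ⟨h1, h2⟩ | ⟨h1, -, -⟩
      · left
        exact ⟨h1, by rw [hι]; omega⟩
      · exact absurd h1 hp2
    rw [coe_quadOdd] at key
    exact key
  have hlev : Nat.card {u : Unit ⊕ (Fin m ⊕ Fin m) → F // quadFormOdd m F u = quadFormOdd m F v} ∣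
        2 * ((Omega F (quadFormOdd m F)).index * M.index) := by
    have key : ∀ (M : Subgroup (POmega F (⇑(quadOdd m F)))) (v : Unit ⊕ (Fin m ⊕ Fin m) → F), quadOdd m F v ≠ 0 →
        pre (⇑(quadOdd m F)) M ≤ subspaceStabilizer (Submodule.span F {v}) →
        Nat.card {u : Unit ⊕ (Fin m ⊕ Fin m) → F // quadOdd m F u = quadOdd m F v} ∣
          2 * ((Omega F (⇑(quadOdd m F))).index * M.index) := fun M v hv hM =>
      level_dvd _ hD.nd hv hM
    rw [coe_quadOdd] at key
    exact key M v hv hM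
  have hidx' : (Omega F (quadFormOdd m F)).index = 2 ∨ (Omega F (quadFormOdd m F)).index = 4 := by
    have := hD.idx
    rw [coe_quadOdd] at this
    exact this
  rcases odd_level h2F (m := m) hv with h | h
  · left
    rw [h] at hlev
    have hrM : r ∣ M.index := by
      have := dvd_of_dvd_eight (a := 1) hrp hr2 hlev hidx' (by rw [pow_one]; exact hrd.mul_left _)
      rwa [pow_one] at this
    have h1 : p ^ (f * m) ∣ M.index :=
      dvd_of_dvd_eight hp hp2 hlev hidx' (by rw [pow_mul, ← hn]; exact dvd_mul_right _ _)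
    refine dead_of_pair hc hrp hp hrM hrout h1 ?_ hcent
    rw [hidx]
    apply not_pow_dvd_of_lt (by omega)
    have hlt : f < 2 ^ f := Nat.lt_two_pow_self
    calc 2 * f < 2 * 2 ^ f := by omega
      _ = 2 ^ (f + 1) := by rw [pow_succ]; ring
      _ ≤ 2 ^ (f * m) := Nat.pow_le_pow_right (by norm_num) (by nlinarith)
      _ ≤ p ^ (f * m) := Nat.pow_le_pow_left (by omega) _
  · right
    intro s hs hs2 hsd
    rw [h] at hlev
    have := dvd_of_dvd_eight (a := 1) hs hs2 hlev hidx' (by rw [pow_one]; exact hsd.mul_left _)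
    rwa [pow_one] at this

end Main

end Cfsg.Agent.H57.BG
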