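import Cfsg.Agent.H257.El.Eng
import Cfsg.Agent.H57.BG.Kill

/-!
# Abelian regular subgroups of almost simple primitive groups: a pair of non-adjacent primes (S3561, helper57)

The engine of `Cfsg.Agent.H257.El.Eng` for a proper subgroup `R` of `T` with `r ∣ |R|`, `r ∥ |T|`:

* `not_both` : if `chkPair n l r s = true` and `T` has no element of order `r s` then `r ∣ |R|`, `s ∣ |R|` is impossible;
* `row_of_pair` : hence `Row T` if `r ∥ |T|`, `s ∥ |T|`;
* `exists_name` : the possible names for the top of `R`;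
* `row_of_names` : `Row T` if for every possible name `g` no two squares of primes divide `|T| / |g|`.
-/

set_option autoImplicit false

namespace Cfsg.Agent.H57.BG

open Subgroup
open Cfsg.Agent.OrdDiv
open Cfsg.Agent.H257.El (Known okPow okPow_spec okPair okG surv Top exists_top card_quot_mul chkPair noOrd_of_noComm
  noOrd_of_cent noOrd_congr)

universe u

variable {T : Type u} [Group T]

/-- The situation. -/
structure Sit (T : Type u) [Group T] (n : ℕ) (l : List (ℕ × ℕ)) (r : ℕ) (R : Subgroup T) : Prop where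
  tab : OrderTable.{u}
  known : Known.{u}
  card : Nat.card T = n
  valid : OrdDiv.valid l n = true
  prime : r.Prime
  sq : ¬ r ^ 2 ∣ n
  ne : R ≠ ⊤
  dvd : r ∣ Nat.card R

namespace Sit

variable {n : ℕ} {l : List (ℕ × ℕ)} {r : ℕ} {R : Subgroup T} [Finite T]

omit [Finite T] in
theorem dvd_n (S : Sit T n l r R) : Nat.card R ∣ n := by
  rw [← S.card]
  exact Subgroup.card_subgroup_dvd_card R

omit [Finite T] in
theorem sqR (S : Sit T n l r R) : ¬ r ^ 2 ∣ Nat.card R := fun h => S.sq (h.trans S.dvd_n)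

theorem card_lt (S : Sit T n l r R) : Nat.card R < n := by
  rw [← S.card]
  refine lt_of_le_of_ne (Nat.le_of_dvd Nat.card_pos (Subgroup.card_subgroup_dvd_card R)) fun h => S.ne ?_
  exact Subgroup.eq_top_of_card_eq R h

theorem exists_top (S : Sit T n l r R) :
    ∃ (O : Subgroup R) (_ : O.Normal) (N : Subgroup (R ⧸ O)), Top R r O N :=
  H257.El.exists_top S.prime S.dvd S.sqR

omit [Finite T] in
theorem noR {k : ℕ} (hno : ∀ z : T, orderOf z ≠ k) (z : R) : orderOf z ≠ k := by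
  rw [← Subgroup.orderOf_coe]
  exact hno z

variable {O : Subgroup R} [O.Normal] {N : Subgroup (R ⧸ O)}

theorem dvd_simple (S : Sit T n l r R) (h : Top R r O N) {s : ℕ} (hs : s.Prime)
    (hno : ∀ z : T, orderOf z ≠ r * s) (hok : okPair n l r s = true) (hsR : s ∣ Nat.card R) : s ∣ Nat.card N := by
  unfold okPair at hok
  rw [Bool.and_eq_true, Bool.and_eq_true, Bool.and_eq_true] at hok
  obtain ⟨⟨⟨h1, h2⟩, h3⟩, h4⟩ := hok
  have h1' : r ≠ s := by simpa using h1
  have h2' : ¬ s ∣ r - 1 := by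
    intro hd
    rw [Nat.mod_eq_zero_of_dvd hd] at h2
    exact absurd h2 (by decide)
  exact h.dvd_simple hs h1' (noR hno) (fun _ hb hd => okPow_spec S.valid h4 hs hb (hd.trans S.dvd_n)) h2' hsR

theorem pow_dvd (S : Sit T n l r R) (h : Top R r O N) {s k : ℕ} (hs : s.Prime)
    (hno : ∀ z : T, orderOf z ≠ r * s) (hok : okPair n l r s = true) (hk : s ^ k ∣ Nat.card R) :
    s ^ k ∣ Nat.card N := by
  unfold okPair at hok
  rw [Bool.and_eq_true, Bool.and_eq_true, Bool.and_eq_true] at hok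
  obtain ⟨⟨⟨h1, h2⟩, h3⟩, h4⟩ := hok
  have h1' : r ≠ s := by simpa using h1
  have h2' : ¬ s ∣ r - 1 := by
    intro hd
    rw [Nat.mod_eq_zero_of_dvd hd] at h2
    exact absurd h2 (by decide)
  exact h.pow_dvd_iff hs h1' (noR hno) (fun _ hb hd => okPow_spec S.valid h4 hs hb (hd.trans S.dvd_n)) h2' hk

theorem card_dvd_R (_ : Top R r O N) : Nat.card N ∣ Nat.card R := by
  refine (Subgroup.card_subgroup_dvd_card N).trans ?_
  rw [← card_quot_mul O]
  exact dvd_mul_right _ _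

/-- a non-commutative `N` is in the list -/
theorem exists_surv (S : Sit T n l r R) (h : Top R r O N) (hna : ¬ ∀ a b : N, a * b = b * a) (ss : List ℕ)
    (hss : ∀ s ∈ ss, s ∣ Nat.card N) : ∃ g ∈ surv n l r ss, Real g N ∧ Nat.card N = ordN g := by
  have hsim := h.simple
  have hNR : Nat.card N ∣ Nat.card R := card_dvd_R h
  have hNn : Nat.card N ∣ n := hNR.trans S.dvd_n
  obtain ⟨g, hg, hr, hc⟩ := exists_good S.tab (S.known N) hna S.valid hNn
  refine ⟨g, List.mem_filter.2 ⟨hg, ?_⟩, hr, hc⟩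
  unfold okG
  rw [Bool.and_eq_true, Bool.and_eq_true, List.all_eq_true]
  refine ⟨⟨?_, ?_⟩, fun s hs => ?_⟩
  · rw [← hc, Nat.mod_eq_zero_of_dvd h.dvd]; rfl
  · rw [← hc]
    have h1 : Nat.card N ≤ Nat.card R := Nat.le_of_dvd Nat.card_pos hNR
    have h2 := S.card_lt
    have h3 : Nat.card N ≠ n := by omega
    simpa using h3
  · rw [← hc, Nat.mod_eq_zero_of_dvd (hss s hs)]; rfl

end Sit

/-- **the possible names**: `r ∥ |T|` divides `|R|`, and for `s ∈ ss` (at least one): `s ∣ |R|`, no elements of order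
`r s` -/
theorem exists_name [Finite T] (tab : OrderTable.{u}) (known : Known.{u}) {n : ℕ} {l : List (ℕ × ℕ)} {r : ℕ}
    (hn : Nat.card T = n) (hv : OrdDiv.valid l n = true) (hr : r.Prime) (hr2 : ¬ r ^ 2 ∣ n) (ss : List ℕ)
    (hne : ss ≠ []) (hno : ∀ s ∈ ss, s.Prime ∧ (∀ z : T, orderOf z ≠ r * s) ∧ okPair n l r s = true)
    {R : Subgroup T} (hR : R ≠ ⊤) (hrR : r ∣ Nat.card R) (hsR : ∀ s ∈ ss, s ∣ Nat.card R) :
    ∃ (O : Subgroup R) (_ : O.Normal) (N : Subgroup (R ⧸ O)), Top R r O N ∧ ∃ g ∈ surv n l r ss, Real g N ∧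
      Nat.card N = ordN g ∧ ordN g ∣ Nat.card R := by
  have S : Sit T n l r R := ⟨tab, known, hn, hv, hr, hr2, hR, hrR⟩
  obtain ⟨O, hO, N, h⟩ := S.exists_top
  obtain ⟨s, hs⟩ := List.exists_mem_of_ne_nil _ hne
  have h6 : ∀ s ∈ ss, s ∣ Nat.card N := fun s hs =>
    S.dvd_simple h (hno s hs).1 (hno s hs).2.1 (hno s hs).2.2 (hsR s hs)
  have hrs : r ≠ s := by
    have h4 := (hno s hs).2.2
    unfold okPair at h4
    rw [Bool.and_eq_true, Bool.and_eq_true, Bool.and_eq_true] at h4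
    simpa using h4.1.1.1
  obtain ⟨g, hg, hr, hc⟩ := S.exists_surv h (H257.El.Sit.not_comm_of_dvd h (hno s hs).1 hrs (h6 s hs)) ss h6
  exact ⟨O, hO, N, h, g, hg, hr, hc, hc ▸ Sit.card_dvd_R h⟩

/-- **two non-adjacent primes do not both divide the order of a proper subgroup** -/
theorem not_both [Finite T] (tab : OrderTable.{u}) (known : Known.{u}) {n : ℕ} {l : List (ℕ × ℕ)} {r s : ℕ}
    (hn : Nat.card T = n) (hr : r.Prime) (hs : s.Prime) (hno : ∀ z : T, orderOf z ≠ r * s)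
    (hchk : chkPair n l r s = true) {R : Subgroup T} (hR : R ≠ ⊤) (hrR : r ∣ Nat.card R)
    (hsR : s ∣ Nat.card R) : False := by
  unfold chkPair at hchk
  rw [Bool.and_eq_true, Bool.and_eq_true, Bool.and_eq_true, Bool.and_eq_true] at hchk
  obtain ⟨⟨⟨⟨h1, h2⟩, h3⟩, h4⟩, h5⟩ := hchk
  obtain ⟨O, hO, N, -, g, hg, -⟩ := exists_name tab known hn h1 hr (fun h => by
    rw [Nat.mod_eq_zero_of_dvd h] at h3
    exact absurd h3 (by decide)) [s] (by simp) (fun t ht => by
      rw [List.mem_singleton] at ht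
      subst ht
      exact ⟨hs, hno, h4⟩) hR hrR (fun t ht => by
      rw [List.mem_singleton] at ht
      subst ht
      exact hsR)
  rw [List.isEmpty_iff] at h5
  rw [h5] at hg
  simp at hg

/-- **Row**, for a pair of non-adjacent primes dividing `|T|` exactly once -/
theorem row_of_pair [Finite T] (tab : OrderTable.{u}) (known : Known.{u}) {n : ℕ} {l : List (ℕ × ℕ)} {r s : ℕ}
    (hn : Nat.card T = n) (hr : r.Prime) (hs : s.Prime) (hno : ∀ z : T, orderOf z ≠ r * s)
    (hchk : chkPair n l r s = true) (hrn : r ∣ n) (hr2 : ¬ r ^ 2 ∣ n) (hsn : s ∣ n) (hs2 : ¬ s ^ 2 ∣ n) : Row T := by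
  intro A L h
  exact not_both tab known hn hr hs hno hchk h.proper
    (h.dvd_card_of_sq hr (by rwa [hn]) (by rwa [hn])) (h.dvd_card_of_sq hs (by rwa [hn]) (by rwa [hn]))

/-- at most one square of a prime divides `k` (`l` the factorisation of a multiple of `k`) -/
def oneSq (l : List (ℕ × ℕ)) (k : ℕ) : Bool :=
  l.all fun x => l.all fun y => (x.1 == y.1) || (k % x.1 ^ 2 != 0) || (k % y.1 ^ 2 != 0)

theorem Reg.false_of_oneSq [Finite T] {A : Subgroup (MulAut T)} {L : Subgroup T} (h : Reg A L) {n k : ℕ}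
    {l : List (ℕ × ℕ)} (hn : Nat.card T = n) (hv : OrdDiv.valid l n = true) (hk : L.index ∣ k)
    (hl : oneSq l k = true) : False := by
  obtain ⟨r, s, hr, hs, hrs, hr2, hs2⟩ := h.exists_two_primes
  have hd : L.index ∣ n := by rw [← hn]; exact Subgroup.index_dvd_card L
  obtain ⟨k1, hk1, -⟩ := OrdDiv.exists_pair hv hr (j := 1) le_rfl
    ((pow_dvd_pow r one_le_two).trans (hr2.trans hd))
  obtain ⟨k2, hk2, -⟩ := OrdDiv.exists_pair hv hs (j := 1) le_rfl
    ((pow_dvd_pow s one_le_two).trans (hs2.trans hd))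
  unfold oneSq at hl
  rw [List.all_eq_true] at hl
  have h1 := hl _ hk1
  rw [List.all_eq_true] at h1
  have h2 := h1 _ hk2
  rw [Bool.or_eq_true, Bool.or_eq_true] at h2
  rcases h2 with (h2 | h2) | h2
  · exact hrs (by simpa using h2)
  · rw [Nat.mod_eq_zero_of_dvd (hr2.trans hk)] at h2
    exact absurd h2 (by decide)
  · rw [Nat.mod_eq_zero_of_dvd (hs2.trans hk)] at h2
    exact absurd h2 (by decide)

/-- **the possible names for `L`** (`ss` non-empty, all primes in `ss` and `r` exactly once in `|T|`) -/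
theorem Reg.exists_name [Finite T] {A : Subgroup (MulAut T)} {L : Subgroup T} (h : Reg A L)
    (tab : OrderTable.{u}) (known : Known.{u}) {n : ℕ} {l : List (ℕ × ℕ)} {r : ℕ}
    (hn : Nat.card T = n) (hv : OrdDiv.valid l n = true) (hr : r.Prime) (hrn : r ∣ n) (hr2 : ¬ r ^ 2 ∣ n)
    (ss : List ℕ) (hne : ss ≠ [])
    (hno : ∀ s ∈ ss, s.Prime ∧ (s ∣ n ∧ ¬ s ^ 2 ∣ n) ∧ (∀ z : T, orderOf z ≠ r * s) ∧ okPair n l r s = true) :
    ∃ (O : Subgroup L) (_ : O.Normal) (N : Subgroup (L ⧸ O)), Top L r O N ∧ ∃ g ∈ surv n l r ss, Real g N ∧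
      Nat.card N = ordN g ∧ ordN g ∣ Nat.card L ∧ L.index ∣ n / ordN g := by
  obtain ⟨O, hO, N, h1, g, hg, h2, h3, h4⟩ := BG.exists_name tab known hn hv hr hr2 ss hne
    (fun s hs => ⟨(hno s hs).1, (hno s hs).2.2⟩) h.proper (h.dvd_card_of_sq hr (by rwa [hn]) (by rwa [hn]))
    (fun s hs => h.dvd_card_of_sq (hno s hs).1 (by rw [hn]; exact (hno s hs).2.1.1)
      (by rw [hn]; exact (hno s hs).2.1.2))
  refine ⟨O, hO, N, h1, g, hg, h2, h3, h4, ?_⟩
  have hpos : 0 < ordN g := by rw [← h3]; exact Nat.card_pos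
  rw [← hn, ← L.card_mul_index]
  obtain ⟨c, hc⟩ := h4
  rw [hc, mul_assoc, Nat.mul_div_cancel_left _ hpos]
  exact dvd_mul_left _ _

/-- the check of `row_of_names` -/
def chkNames (n : ℕ) (l : List (ℕ × ℕ)) (r : ℕ) (ss : List ℕ) : Bool :=
  OrdDiv.valid l n && (n % r == 0) && (n % r ^ 2 != 0) && (ss.all fun s => okPair n l r s && (n % s ^ 2 != 0)) &&
    (surv n l r ss).all fun g => oneSq l (n / ordN g)

/-- **Row**, if all the possible names have nearly square free index -/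
theorem row_of_names [Finite T] (tab : OrderTable.{u}) (known : Known.{u}) {n : ℕ} {l : List (ℕ × ℕ)} {r : ℕ}
    (hn : Nat.card T = n) (hr : r.Prime) (ss : List ℕ) (hne : ss ≠ [])
    (hno : ∀ s ∈ ss, s.Prime ∧ (∀ z : T, orderOf z ≠ r * s)) (hchk : chkNames n l r ss = true) : Row T := by
  intro A L h
  unfold chkNames at hchk
  rw [Bool.and_eq_true, Bool.and_eq_true, Bool.and_eq_true, Bool.and_eq_true, List.all_eq_true,
    List.all_eq_true] at hchk
  obtain ⟨⟨⟨⟨h1, h2⟩, h3⟩, h4⟩, h5⟩ := hchk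
  obtain ⟨O, hO, N, -, g, hg, -, -, -, hd⟩ := h.exists_name tab known hn h1 hr
    (Nat.dvd_of_mod_eq_zero (by simpa using h2)) (fun h => by
      rw [Nat.mod_eq_zero_of_dvd h] at h3
      exact absurd h3 (by decide)) ss hne (fun s hs => by
      have h6 := h4 s hs
      rw [Bool.and_eq_true] at h6
      refine ⟨(hno s hs).1, ⟨?_, fun h => ?_⟩, (hno s hs).2, h6.1⟩
      · have h7 := h6.1
        unfold okPair at h7
        rw [Bool.and_eq_true, Bool.and_eq_true, Bool.and_eq_true] at h7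
        exact Nat.dvd_of_mod_eq_zero (by simpa using h7.1.2)
      · have h7 := h6.2
        rw [Nat.mod_eq_zero_of_dvd h] at h7
        exact absurd h7 (by decide))
  exact h.false_of_oneSq hn h1 hd (h5 g hg)

end Cfsg.Agent.H57.BG
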