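import Cfsg.Agent.H57.BG.AsDead
import Cfsg.Agent.H884.RowAllD
import Cfsg.Agent.H884.RowAllE
import Cfsg.Agent.H884.RowAllG

/-!
# The rows of the classical groups, except finitely many small ones (S3561, helper57)
-/

set_option autoImplicit false

namespace Cfsg.Agent.H57.BG

open Module Cfsg Cfsg.Geo Subgroup Cfsg.Agent.OrdDiv Cfsg.Agent.H436 Cfsg.Agent.H264.FKS Cfsg.Agent.H915.GN
open Cfsg.Agent.H899.CG Cfsg.Agent.H884.Ig
open Cfsg.Agent.H884.Row (KnownS ASR nm_psl nm_psp nm_psu nm_oodd nm_oplus nm_ominus)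

variable {F : Type} [Field F] [Fintype F]

/-- not abelian -/
abbrev NA (T : Type) [Group T] : Prop := ¬ ∀ a b : T, a * b = b * a

theorem dvd_add_one {q m r : ℕ} (hm : 1 ≤ m) (h : Prim q (2 * m) r) : r ∣ q ^ m + 1 := by
  have h1 := (h.dvd_iff (2 * m)).2 dvd_rfl
  rw [sq_sub_one] at h1
  refine (h.prime.dvd_mul.1 h1).resolve_right fun h2 => ?_
  have := Nat.le_of_dvd (by omega) ((h.dvd_iff m).1 h2)
  omega

/-- the plus type alternatives -/
theorem dead_of_plus {T : Type} [Group T] [Finite T] [IsSimpleGroup T] (hna : NA T) {g : Grp}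
    {p q m : ℕ} (hp : p.Prime) (hT : IsNamed g T) (hch : HasChar p g) (hm : 2 ≤ m) (hq : Cfsg.Agent.H884.Cx.fq g = q)
    (hqp : IsPrimePow q) (hE : InE g (2 * m)) (h6 : ¬ (q = 2 ∧ 2 * m = 6)) {M : Subgroup T}
    (h : ∀ r : ℕ, r.Prime → r ≠ 2 → r ∣ q ^ m + 1 → r ∣ M.index) : Dead T M := by
  obtain ⟨r, hr, hn⟩ := exists_prim_ndf hqp (by omega) h6
  have h5 := five_le' hr (by omega)
  refine dead_of_iGap (center_eq_bot hna) ⟨r, cyc_named hna hp hT hch hE (by rw [hq]; exact hr) (by rw [hq]; exact hn),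
    h r hr.prime (by omega) (dvd_add_one (by omega) hr)⟩

/-- **`PSL_n(q)`, `n ≥ 4`** -/
theorem row_psl_four (tab : OrderTable.{0}) (hK : KnownS) {n : ℕ} (hn : 4 ≤ n)
    (hna : NA (Matrix.ProjectiveSpecialLinearGroup (Fin n) F))
    (h4 : ¬ (Fintype.card F = 2 ∧ n = 4)) (h6 : ¬ (Fintype.card F = 2 ∧ n = 6)) :
    Row (Matrix.ProjectiveSpecialLinearGroup (Fin n) F) := by
  have hs : IsSimpleGroup (Matrix.ProjectiveSpecialLinearGroup (Fin n) F) :=
    LieClassical.SLGen.psl_isSimpleGroup (by rw [Fintype.card_fin]; omega)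
  have hfin : Finite (Matrix.ProjectiveSpecialLinearGroup (Fin n) F) := Quotient.finite _
  exact row_of_dead fun M hM => dead_of_iGap (center_eq_bot hna) (H884.Row.row_psl tab hK hn h4 h6 hM)

/-- **`PSL_3(q)`, `q ≥ 3`, `q ≠ 4`** -/
theorem row_psl_three (h3 : 3 ≤ Fintype.card F) (h4 : Fintype.card F ≠ 4) :
    Row (Matrix.ProjectiveSpecialLinearGroup (Fin 3) F) := by
  have hfin : Finite (Matrix.ProjectiveSpecialLinearGroup (Fin 3) F) := Quotient.finite _
  exact row_of_dead fun M hM => H884.Row.dead_psl3 h3 h4 hM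

/-- **`PSU_n(q)`, `n ≥ 4`** -/
theorem row_psu_four (tab : OrderTable.{0}) (hK : KnownS) {n q : ℕ} (hF : Fintype.card F = q ^ 2) (hn : 4 ≤ n)
    (hna : NA (PSU n F q)) (h2 : ¬ (q = 2 ∧ n ≤ 6)) (h3 : ¬ (n = 4 ∧ q = 3)) : Row (PSU n F q) := by
  have hs : IsSimpleGroup (PSU n F q) := S0283.result hF n (by omega) (by omega)
  have : Finite (SU n F q) := Finite.of_injective _ H918.suHom_injective
  have hfin : Finite (PSU n F q) := Quotient.finite _
  exact row_of_proper fun M hM => dead_of_iGap (center_eq_bot hna) (H884.Row.row_psu' tab hK hF hn h2 h3 hM)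

/-- **`PSp_2m(q)`, `m ≥ 3`** -/
theorem row_psp_three (tab : OrderTable.{0}) (hK : KnownS) {m : ℕ} (hm : 3 ≤ m) (hna : NA (PSp m F))
    (h32 : ¬ (m = 3 ∧ Fintype.card F = 2)) : Row (PSp m F) := by
  have hs : IsSimpleGroup (PSp m F) := S0270.result m (by omega) (by omega)
  have hfin : Finite (PSp m F) := Quotient.finite _
  have hT := nm_psp F (n := m) (by omega) (by omega)
  obtain ⟨p, f, hp, hf, hF⟩ := (isPrimePow_nat_iff _).1 (Fintype.isPrimePow_card_of_field (α := F))
  refine row_of_proper fun M hM => ?_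
  rcases H884.Row.row_psp tab hK hm h32 hM with h | ⟨hme, hqe, Q, h1, -, -, h2, h3⟩ | ⟨hme, h⟩
  · exact dead_of_iGap (center_eq_bot hna) h
  · rcases dead_spec (by omega) (by omega) (by omega) (center_eq_bot hna)
      (Or.inl ⟨hme, hqe, Q, h1, h2, h3⟩ : Cfsg.Agent.H262.El.Spec m F (Cfsg.Agent.H262.El.pre M)) with h | h
    · exact h
    · have hm4 : 4 ≤ m := by
        obtain ⟨k, hk⟩ := hme
        omega
      exact dead_of_plus hna hp hT ⟨f, hF.symm⟩ (by omega) rfl Fintype.isPrimePow_card_of_field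
        (by simp only [InE]; omega) (by omega) h
  · have hm4 : 4 ≤ m := by
      obtain ⟨k, hk⟩ := hme
      omega
    exact dead_psp_ominus hm4 hme (center_eq_bot hna) hT h.as

/-- **`PSp_4(q)`, `q ≥ 4`** -/
theorem row_psp_two (hq : 4 ≤ Fintype.card F) (hna : NA (PSp 2 F)) : Row (PSp 2 F) := by
  have hs : IsSimpleGroup (PSp 2 F) := S0270.result 2 (by omega) (by omega)
  have hfin : Finite (PSp 2 F) := Quotient.finite _
  have hT := nm_psp F (n := 2) (by omega) (by omega)
  obtain ⟨p, f, hp, hf, hF⟩ := (isPrimePow_nat_iff _).1 (Fintype.isPrimePow_card_of_field (α := F))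
  have hspec : ∀ M : Subgroup (PSp 2 F), H81.CycS.SpecM 2 F (Cfsg.Agent.H262.El.pre M) → Dead (PSp 2 F) M := by
    intro M h
    rcases dead_spec (by omega) (by omega) (by omega) (center_eq_bot hna) h.spec with h | h
    · exact h
    · have hE : InE (.psp 2 (Fintype.card F)) (2 * 2) := ⟨rfl, le_rfl, le_rfl, by norm_num⟩
      exact dead_of_plus (m := 2) (q := Fintype.card F) hna hp hT ⟨f, hF.symm⟩ le_rfl rfl
        Fintype.isPrimePow_card_of_field hE (by omega) h
  refine row_of_dead fun M hM => ?_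
  by_cases hodd : Odd (Fintype.card F)
  · rcases H884.Row.row_psp4_odd hodd hq hM with h | h
    · exact dead_of_iGap (center_eq_bot hna) h
    · exact hspec M h
  · rcases H884.Row.row_psp4_even hodd hq hM with h | h | ⟨k, hk, hqk, S, hSn, hSs, hSna, hC, hS, -⟩
    · exact dead_of_iGap (center_eq_bot hna) h
    · exact hspec M h
    · -- the Suzuki groups
      have hp2 : p = 2 := by
        rw [hqk] at hF
        have h1 : p ∣ 2 ^ (2 * k + 1) := by rw [← hF]; exact dvd_pow_self p (by omega)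
        exact (Nat.prime_dvd_prime_iff_eq hp Nat.prime_two).1 (hp.dvd_of_dvd_pow h1)
      subst hp2
      have hfk : f = 2 * k + 1 := Nat.pow_right_injective le_rfl (hF.trans hqk)
      rw [← hF] at hS
      have h2 := hT.eq
      rw [← hF] at h2
      change Nat.gcd 2 (2 ^ f - 1) * Nat.card (PSp 2 F) = (2 ^ f) ^ (2 ^ 2) * prB (2 ^ f) 2 at h2
      have hg : Nat.gcd 2 (2 ^ f - 1) = 1 := by
        have := odd_pow_sub_one hf (k := 1) le_rfl
        rw [pow_one] at this
        exact Nat.coprime_two_left.2 this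
      have hprB : prB (2 ^ f) 2 = ((2 ^ f) ^ 2 - 1) * ((2 ^ f) ^ 4 - 1) := by
        simp only [prB_succ]
        unfold prB
        simp
      rw [hg, one_mul, hprB] at h2
      have h1 := hS.eq
      change 1 * Nat.card S = (2 ^ f) ^ 2 * ((2 ^ f - 1) * ((2 ^ f) ^ 2 + 1)) at h1
      rw [one_mul] at h1
      have haut : Nat.card (MulAut S) = f * Nat.card S := by
        have hout : Nat.card (Cfsg.Out S) = f := by
          obtain ⟨F', _, _, m', hm', hF', hq', ⟨e⟩⟩ := hS.real
          have hfm : f = 2 * m' + 1 := Nat.pow_right_injective (le_refl 2) hq'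
          rw [H934.OutB.card_out_congr e, Cfsg.Agent.S2126.result hm' (hF'.trans hq'), ← hfm]
        rw [← H934.OutB.card_out_mul S hSna, hout]
      have hdvd := (dvd_aut S hC)
      rw [haut] at hdvd
      have hq1 : (2 ^ f) ^ 4 - 1 = ((2 ^ f) ^ 2 + 1) * ((2 ^ f) ^ 2 - 1) := sq_sub_one (2 ^ f) 2
      have hq2 : (2 ^ f) ^ 2 - 1 = (2 ^ f + 1) * (2 ^ f - 1) := by
        have := sq_sub_one (2 ^ f) 1
        rwa [mul_one, pow_one] at this
      -- `q ^ 2 (q ^ 2 - 1) (q + 1)` divides `f |T : M|`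
      have h3 : (2 ^ f) ^ 2 * (((2 ^ f) ^ 2 - 1) * (2 ^ f + 1)) ∣ f * M.index := by
        have h4 : Nat.card (PSp 2 F) = Nat.card S * ((2 ^ f) ^ 2 * (((2 ^ f) ^ 2 - 1) * (2 ^ f + 1))) := by
          rw [h2, h1, hq1]
          conv_lhs => rw [hq2]
          rw [hq2]
          ring
        have h5 : Nat.card S * ((2 ^ f) ^ 2 * (((2 ^ f) ^ 2 - 1) * (2 ^ f + 1))) ∣ Nat.card S * (f * M.index) := by
          rw [← h4, ← M.card_mul_index]
          refine (Nat.mul_dvd_mul_right hdvd _).trans (dvd_of_eq ?_)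
          ring
        exact Nat.dvd_of_mul_dvd_mul_left Nat.card_pos h5
      have hodd2 : Odd f := hfk ▸ ⟨k, rfl⟩
      refine dead_psp Nat.prime_two (by omega) hF.symm le_rfl even_two (by omega) (by omega)
        (center_eq_bot hna) ?_ ?_
      · intro r hr hr2 hrd hrf
        rw [← hF] at hrd
        have h6 : r ∣ f * M.index := ((hrd.mul_right _).mul_left _).trans h3
        exact (hr.dvd_mul.1 h6).resolve_left hrf
      · rw [← hF]
        have h6 : (2 ^ f) ^ 2 ∣ f * M.index := (dvd_mul_right _ _).trans h3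
        have h7 : Nat.Coprime ((2 ^ f) ^ 2) f := by
          rw [← pow_mul]
          exact Nat.Coprime.pow_left _ (Nat.coprime_two_left.2 hodd2)
        exact (h7.dvd_of_dvd_mul_left h6).mul_left 2

/-- **`Ω_{2m+1}(q)`, `m ≥ 3`** -/
theorem row_oodd_all (tab : OrderTable.{0}) (hK : KnownS) {m : ℕ} (hm : 3 ≤ m) (hodd : Odd (Fintype.card F))
    (hna : NA (POmega F (quadFormOdd m F))) (h33 : ¬ (m = 3 ∧ Fintype.card F = 3)) :
    Row (POmega F (quadFormOdd m F)) := by
  have hs : IsSimpleGroup (POmega F (quadFormOdd m F)) := S0295.result hodd m hm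
  have hfin : Finite (POmega F (quadFormOdd m F)) := Quotient.finite _
  have hT := nm_oodd F hm hodd
  obtain ⟨p, f, hp, hf, hF⟩ := (isPrimePow_nat_iff _).1 (Fintype.isPrimePow_card_of_field (α := F))
  refine row_of_proper fun M hM => ?_
  rcases H884.Row.row_oodd tab hK hm hodd h33 hM with h | ⟨hme, v, hv, h1, -⟩ | ⟨hme, h⟩
  · exact dead_of_iGap (center_eq_bot hna) h
  · have hm4 : 4 ≤ m := by
      obtain ⟨k, hk⟩ := hme
      omega
    rcases dead_odd hm hme hodd (center_eq_bot hna) hv h1 with h | h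
    · exact h
    · exact dead_of_plus hna hp hT ⟨f, hF.symm⟩ (by omega) rfl Fintype.isPrimePow_card_of_field
        (by simp only [InE]; omega) (by omega) h
  · have hm4 : 4 ≤ m := by
      obtain ⟨k, hk⟩ := hme
      omega
    exact dead_odd_ominus hm4 hme hodd (center_eq_bot hna) hT h.as

/-- **`PΩ⁻_2m(q)`, `m ≥ 4`** -/
theorem row_ominus_all (tab : OrderTable.{0}) (hK : KnownS) {m : ℕ} (hm : 4 ≤ m) {a b : F}
    (hab : ∀ z₁ z₂ : F, z₁ ^ 2 + a * z₁ * z₂ + b * z₂ ^ 2 = 0 → z₁ = 0 ∧ z₂ = 0)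
    (hna : NA (POmega F (quadFormMinus (m - 1) F a b))) : Row (POmega F (quadFormMinus (m - 1) F a b)) := by
  have hs : IsSimpleGroup (POmega F (quadFormMinus (m - 1) F a b)) := S0297.result m hm a b hab
  have hfin : Finite (POmega F (quadFormMinus (m - 1) F a b)) := Quotient.finite _
  exact row_of_proper fun M hM => dead_of_iGap (center_eq_bot hna) (H884.Row.row_ominus tab hK hm hab hM)

/-- **`PΩ⁺_2m(q)`, `m ≥ 5`** -/
theorem row_oplus_five (tab : OrderTable.{0}) (hK : KnownS) {m : ℕ} (hm : 5 ≤ m)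
    (hna : NA (POmega F (quadFormPlus m F))) : Row (POmega F (quadFormPlus m F)) := by
  have hs : IsSimpleGroup (POmega F (quadFormPlus m F)) := S0296.result m (by omega)
  have hfin : Finite (POmega F (quadFormPlus m F)) := Quotient.finite _
  have hT := nm_oplus F (n := m) (by omega)
  refine row_of_proper fun M hM => ?_
  rcases H884.Row.row_oplus tab hK hm hM with h | ⟨hme, v, hv, h1⟩ | ⟨hme, h⟩
  · exact dead_of_iGap (center_eq_bot hna) h
  · exact dead_plus (by omega) hme (by omega) (center_eq_bot hna) hv h1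
  · exact dead_plus_psp (by omega) hme (center_eq_bot hna) hT (h.imp (fun h => h.as) (fun h => h.as))

/-- **`PΩ⁺_8(q)`, `q ≥ 4`** -/
theorem row_oplus_four (tab : OrderTable.{0}) (hK : KnownS) (h4 : 4 ≤ Fintype.card F)
    (hna : NA (POmega F (quadFormPlus 4 F))) : Row (POmega F (quadFormPlus 4 F)) := by
  have hs : IsSimpleGroup (POmega F (quadFormPlus 4 F)) := S0296.result 4 le_rfl
  have hfin : Finite (POmega F (quadFormPlus 4 F)) := Quotient.finite _
  have hT := nm_oplus F (n := 4) (by omega)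
  refine row_of_proper fun M hM => ?_
  rcases H884.Row.row_oplus4 tab hK (by omega) hM with h | ⟨v, hv, h1⟩ | ⟨g, h, ⟨h3, -⟩ | ⟨h3, rfl⟩⟩ |
    ⟨g, h, rfl | rfl | rfl | rfl | ⟨h3, rfl⟩⟩
  · exact dead_of_iGap (center_eq_bot hna) h
  · exact dead_plus le_rfl (by decide) (by omega) (center_eq_bot hna) hv h1
  · omega
  · obtain ⟨S, hSn, hSs, hSna, hC, hS⟩ := h.as
    rw [h3] at hT
    exact H349.BG.dead_l213 hna hT S hSna hC hS
  · exact dead_plus_psp le_rfl (by decide) (center_eq_bot hna) hT (Or.inr h.as)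
  · exact dead_plus_psp le_rfl (by decide) (center_eq_bot hna) hT (Or.inl h.as)
  · exact dead_plus_g2 (center_eq_bot hna) hT h.as
  · exact dead_plus_psl (center_eq_bot hna) hT h.as
  · rw [h3] at hT
    exact dead_plus_sz hna hT h.as

end Cfsg.Agent.H57.BG
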