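import Cfsg.Agent.H57.BG.RowCl
import Cfsg.Agent.H57.BG.RowG2
import Cfsg.Agent.H947.Cyc.RowPsl2
import Cfsg.Agent.H947.Cyc.RowPsu3
import Cfsg.Agent.H503.BG.RowsL
import Cfsg.Agent.H503.BG.RowL6
import Cfsg.Agent.H503.BG.RowsU
import Cfsg.Agent.H503.BG.RowsA
import Cfsg.Agent.H503.BG.RowsO
import Cfsg.Agent.H503.BG.RowS6
import Cfsg.Agent.H503.BG.RowO83
import Cfsg.Agent.H884.Od8.Row
import Cfsg.Agent.H946.KZ.RowBG
import Cfsg.Agent.H290.KTF4r
import Cfsg.Agent.H349.KD4.Zs
import Cfsg.Agent.H349.BG.Alt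
import Cfsg.Agent.H567.BGr.Mathieu
import Cfsg.Agent.H567.BGr.SuzRow
import Cfsg.Agent.H451.BG.Conway
import Cfsg.Agent.H451.BG.He
import Cfsg.Agent.H451.BG.Fi22
import Cfsg.Agent.H107.BG.J
import Cfsg.Agent.H107.BG.CoFi
import Cfsg.Agent.H107.BG.Ru
import Cfsg.Agent.H107.BG.Th
import Cfsg.Agent.H107.BG.BM
import Cfsg.Agent.H811.BG.JTwoHS
import Cfsg.Agent.H811.BG.Tits
import Cfsg.Agent.H811.BG.McL
import Cfsg.Agent.H811.BG.HN
import Cfsg.Agent.S0252
import Cfsg.Agent.S0254
import Cfsg.Agent.S0255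
import Cfsg.Agent.S0256
import Cfsg.Agent.S0822

/-!
# All rows (S3561, helper57)
-/

set_option autoImplicit false

namespace Cfsg.Agent.H57.BG

open Cfsg Subgroup Cfsg.Agent.OrdDiv Cfsg.Agent.H436
open Cfsg.Agent.H884.Row (KnownS)

theorem na_congr {T T' : Type} [Group T] [Group T'] (hna : NA T) (e : T ≃* T') : NA T' := fun h => hna fun a b => by
  apply e.injective
  rw [map_mul, map_mul, h]

/-- a field of a given order -/
theorem exists_field (p n : ℕ) [hp : Fact p.Prime] (hn : n ≠ 0) :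
    ∃ (F : Type) (_ : Field F) (_ : Fintype F), Fintype.card F = p ^ n := by
  classical
  have : Fintype (GaloisField p n) := Fintype.ofFinite _
  exact ⟨GaloisField p n, inferInstance, this, by rw [← Nat.card_eq_fintype_card, GaloisField.card p n hn]⟩

/-- the alternating groups -/
theorem row_alt_all (tab : OrderTable.{0}) (hK : KnownS) {n : ℕ} (hn : 5 ≤ n) {T : Type} [Group T] (e : T ≃* alternatingGroup (Fin n)) :
    Row T := by
  rcases (by omega : n = 5 ∨ n = 6 ∨ n = 7 ∨ 8 ≤ n) with rfl | rfl | rfl | h8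
  · have : Fact (Nat.Prime 2) := ⟨Nat.prime_two⟩
    obtain ⟨F, _, _, hF⟩ := exists_field 2 2 (by norm_num)
    obtain ⟨e'⟩ := Cfsg.Agent.S0252.result (F := F) (by rw [hF]; norm_num)
    exact Row.congr (e.trans e'.symm) (H947.Cyc.row_psl2 (by rw [hF]; norm_num))
  · have : Fact (Nat.Prime 3) := ⟨Nat.prime_three⟩
    obtain ⟨F, _, _, hF⟩ := exists_field 3 2 (by norm_num)
    obtain ⟨e'⟩ := Cfsg.Agent.S0254.result (F := F) (by rw [hF]; norm_num)
    exact Row.congr (e.trans e'.symm) (H947.Cyc.row_psl2 (by rw [hF]; norm_num))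
  · exact Row.congr e (H503.BG.row_a7 tab hK)
  · exact H349.BG.row_alt h8 e

theorem row_psl_all (tab : OrderTable.{0}) (hK : KnownS) {n : ℕ} {F : Type} [Field F] [Fintype F] (hn : 2 ≤ n)
    (h2 : n = 2 → 4 ≤ Fintype.card F) (hna : NA (Matrix.ProjectiveSpecialLinearGroup (Fin n) F)) :
    Row (Matrix.ProjectiveSpecialLinearGroup (Fin n) F) := by
  rcases (by omega : n = 2 ∨ n = 3 ∨ 4 ≤ n) with rfl | rfl | h4
  · exact H947.Cyc.row_psl2 (h2 rfl)
  · by_cases hF2 : Fintype.card F = 2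
    · have : Fact (Nat.Prime 7) := ⟨by norm_num⟩
      obtain ⟨e⟩ := Cfsg.Agent.S0255.result (F := ZMod 7) (K := F) (ZMod.card 7) hF2
      exact Row.congr e.symm (H947.Cyc.row_psl2 (by rw [ZMod.card]; norm_num))
    by_cases hF4 : Fintype.card F = 4
    · exact H503.BG.row_psl34 tab hK F hF4
    · have := Fintype.one_lt_card (α := F)
      exact row_psl_three (by omega) hF4
  · by_cases h24 : Fintype.card F = 2 ∧ n = 4
    · obtain ⟨hF, rfl⟩ := h24
      obtain ⟨e⟩ := Cfsg.Agent.S0256.result (F := F) hF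
      exact H349.BG.row_alt le_rfl e
    by_cases h26 : Fintype.card F = 2 ∧ n = 6
    · obtain ⟨hF, rfl⟩ := h26
      exact H503.BG.row_psl62 tab hK F hF
    · exact row_psl_four tab hK h4 hna h24 h26

theorem row_psu_all (tab : OrderTable.{0}) (hK : KnownS) {n q : ℕ} {F : Type} [Field F] [Fintype F]
    (hF : Fintype.card F = q ^ 2) (hq : IsPrimePow q) (hn : 3 ≤ n) (h32 : ¬ (n = 3 ∧ q = 2)) (hna : NA (PSU n F q)) :
    Row (PSU n F q) := by
  have hq2 := hq.two_le
  rcases (by omega : n = 3 ∨ 4 ≤ n) with rfl | h4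
  · exact H947.Cyc.row_psu3 hF (by omega)
  · by_cases h2 : q = 2 ∧ n ≤ 6
    · obtain ⟨rfl, h6⟩ := h2
      rcases (by omega : n = 4 ∨ n = 5 ∨ n = 6) with rfl | rfl | rfl
      · exact H503.BG.row_u42 tab hK F hF
      · exact H503.BG.row_u52 tab hK F hF
      · exact H503.BG.row_u62 tab hK F hF
    by_cases h3 : n = 4 ∧ q = 3
    · obtain ⟨rfl, rfl⟩ := h3
      exact H503.BG.row_u43 tab hK F hF
    · exact row_psu_four tab hK hF h4 hna h2 h3

theorem row_psp_all (tab : OrderTable.{0}) (hK : KnownS) {m : ℕ} {F : Type} [Field F] [Fintype F]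
    (hm : 2 ≤ m) (h2 : m = 2 → 3 ≤ Fintype.card F) (hna : NA (PSp m F)) : Row (PSp m F) := by
  rcases (by omega : m = 2 ∨ 3 ≤ m) with rfl | h3
  · by_cases h : Fintype.card F = 3
    · have : Fact (Nat.Prime 2) := ⟨Nat.prime_two⟩
      obtain ⟨K, _, _, hF⟩ := exists_field 2 2 (by norm_num)
      obtain ⟨e⟩ := Cfsg.Agent.S0822.result (F := K) (K := F) (by rw [hF]; norm_num) h
      exact Row.congr e.symm (H503.BG.row_u42 tab hK K hF)
    · have := h2 rfl
      exact row_psp_two (by omega) hna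
  · by_cases h : m = 3 ∧ Fintype.card F = 2
    · obtain ⟨rfl, hF⟩ := h
      exact H503.BG.row_s62 tab hK F hF
    · exact row_psp_three tab hK h3 hna h

/-- **All rows.** -/
theorem row_of_named (tab : OrderTable.{0}) (hK : KnownS) (hcyc : Cfsg.Agent.H56.Exc.CycFixSolv.{0})
    {T : Type} [Group T] [Finite T] [IsSimpleGroup T] (hna : NA T) {g : Grp} (hT : IsNamed g T) : Row T := by
  have hc := hT.cond
  cases g
  case alt n => obtain ⟨e⟩ := hT.real; exact row_alt_all tab hK hc e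
  case psl n q =>
    obtain ⟨F, _, _, hF, ⟨e⟩⟩ := hT.real
    subst hF
    exact Row.congr e (row_psl_all tab hK hc.1 hc.2.1 (na_congr hna e))
  case psp n q =>
    obtain ⟨F, _, _, hF, ⟨e⟩⟩ := hT.real
    subst hF
    exact Row.congr e (row_psp_all tab hK hc.1 hc.2.1 (na_congr hna e))
  case psu n q =>
    obtain ⟨F, _, _, hF, ⟨e⟩⟩ := hT.real
    exact Row.congr e (row_psu_all tab hK hF hc.2.2 hc.1 hc.2.1 (na_congr hna e))
  case oodd n q =>
    obtain ⟨F, _, _, hF, ⟨e⟩⟩ := hT.real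
    subst hF
    by_cases h : n = 3 ∧ Fintype.card F = 3
    · obtain ⟨rfl, h⟩ := h
      exact Row.congr e (H503.BG.row_o73 tab hK F h)
    · exact Row.congr e (row_oodd_all tab hK hc.1 hc.2.1 (na_congr hna e) h)
  case oplus n q =>
    obtain ⟨F, _, _, hF, ⟨e⟩⟩ := hT.real
    subst hF
    rcases (by have := hc.1; omega : n = 4 ∨ 5 ≤ n) with rfl | h5
    · by_cases h2 : Fintype.card F = 2
      · exact Row.congr e (H884.Od8.row_o82 tab hK F h2)
      by_cases h3 : Fintype.card F = 3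
      · exact Row.congr e (H503.BG.row_o83 tab hK F h3)
      · have := Fintype.one_lt_card (α := F)
        exact Row.congr e (row_oplus_four tab hK (by omega) (na_congr hna e))
    · exact Row.congr e (row_oplus_five tab hK h5 (na_congr hna e))
  case ominus n q =>
    obtain ⟨F, _, _, a, b, hF, hab, ⟨e⟩⟩ := hT.real
    exact Row.congr e (row_ominus_all tab hK hc.1 hab (na_congr hna e))
  case g2 q => exact row_g2 (fun S _ _ _ h => exists_named tab (hK S) fun hc => h ⟨⟨hc⟩⟩) hna hT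
  case f4 q => exact H946.KZ.row_f4 tab hcyc hK hna hT
  case e6 q => exact H946.KZ.row_e6 tab hcyc hK hna hT
  case e7 q => exact H946.KZ.row_e7 tab hcyc hK hna hT
  case e8 q => exact H946.KZ.row_e8 tab hcyc hK hna hT
  case te6 q => exact H946.KZ.row_te6 tab hcyc hK hna hT
  case td4 q => exact H349.KD4.row_td4 tab (fun S _ _ _ => hK S) hcyc hT
  case sz q =>
    obtain ⟨F, _, _, m, hm, hF, hq, ⟨e⟩⟩ := hT.real
    exact H947.Cyc.row_sz hna ⟨F, inferInstance, inferInstance, m, hm, hF.trans hq, ⟨e⟩⟩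
  case ree q =>
    obtain ⟨F, _, _, m, hm, hF, hq, ⟨e⟩⟩ := hT.real
    exact H947.Cyc.row_ree hna ⟨F, inferInstance, inferInstance, m, hm, hF.trans hq, ⟨e⟩⟩
  case tf4 q => exact H290.KTF4.row_tf4 tab hcyc hK hna hT
  case tits => exact H811.BG.row_tits tab hK hT.real
  case m11 => exact H567.BGr.row_m11 hT.real
  case m12 => exact H567.BGr.row_m12 hT.real
  case m22 => exact H567.BGr.row_m22 tab hK hT.real
  case m23 => exact H567.BGr.row_m23 tab hK hT.real
  case m24 => exact H567.BGr.row_m24 tab hK hT.real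
  case j1 => exact H107.BG.row_j1 tab hK hT.real
  case j2 => exact H811.BG.row_j2 hT.real
  case j3 => exact H107.BG.row_j3 tab hK hT.real
  case j4 => exact H107.BG.row_j4 tab hK hT.real
  case co1 => exact H107.BG.row_co1 tab hK hT.real
  case co2 => exact H451.BG.row_co2 tab hK hT.real
  case co3 => exact H451.BG.row_co3 tab hK hT.real
  case mcl => exact H811.BG.row_mcl tab hK hT.real
  case hs => exact H811.BG.row_hs tab hK hT.real
  case suz => exact H567.BGr.row_suz tab hK hT.real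
  case he => exact H451.BG.row_he tab hK hT.real
  case ru => exact H107.BG.row_ru tab hK hT.real
  case on => exact H107.BG.row_on tab hK hT.real
  case ly => exact H107.BG.row_ly tab hK hT.real
  case fi22 => exact H451.BG.row_fi22 tab hK hT.real
  case fi23 => exact H107.BG.row_fi23 tab hK hT.real
  case fi24 => exact H107.BG.row_fi24 tab hK hT.real
  case hn => exact H811.BG.row_hn tab hK hT.real
  case th => exact H107.BG.row_th tab hK hT.real
  case b => exact H107.BG.row_b tab hK hT.real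
  case m => exact H107.BG.row_m tab hK hT.real

end Cfsg.Agent.H57.BG
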